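import Cfsg.Agent.Lib.ReeTypeSThree.Linear
import Cfsg.Agent.Lib.UThreeCent.Model
import Cfsg.Agent.Lib.ClassicalAut.UnitaryBalanceGraph
import Cfsg.Agent.Lib.SUPres.Three
import Cfsg.Agent.Lib.Suzuki.SubgroupCount
import Cfsg.Agent.Lib.Suzuki.LieEquiv
import Cfsg.Agent.Lib.J1.Simple
import Cfsg.Agent.Lib.ModuleIndex.UnitaryThreeBounds

/-!
The Goldschmidt groups other than those of Ree type, and the abelian Sylow two-subgroups of the latter.
-/

set_option autoImplicit false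
set_option linter.style.haveILetI false
set_option linter.unusedSectionVars false

namespace CfsgLib.ReeTypeSThree

open Matrix
open scoped MatrixGroups Pointwise

local notation "S₃" => Equiv.Perm (Fin 3)
local notation "S₄" => Equiv.Perm (Fin 4)

theorem involves_congr {H : Type*} [Group H] {G G' : Type*} [Group G] [Group G'] (e : G ≃* G') :
    Cfsg.Involves H G ↔ Cfsg.Involves H G' :=
  ⟨CfsgLib.Offender.involves_of_injective e.toMonoidHom e.injective,
    CfsgLib.Offender.involves_of_injective e.symm.toMonoidHom e.symm.injective⟩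

theorem suzuki_not_three_dvd {G : Type*} [Group G] [Finite G] (h : Cfsg.Lie.IsoSuzuki G) :
    ¬ 3 ∣ Nat.card G := by
  obtain ⟨F, hf, hfin, m, hm, hF, ⟨e⟩⟩ := h
  haveI := CfsgLib.Suzuki.charP_two_of_card hF
  haveI : CfsgLib.Suzuki.Param F m := ⟨hm, hF⟩
  have h0 := CfsgLib.Suzuki.not_three_dvd (⊤ : Subgroup (CfsgLib.Suzuki.Gp F m))
  rwa [Subgroup.card_top, Nat.card_congr (e.trans (CfsgLib.Suzuki.lieEquiv F m).symm).toEquiv.symm] at h0

theorem suzuki_not_involves {G : Type*} [Group G] [Finite G] (h : Cfsg.Lie.IsoSuzuki G) {n : ℕ}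
    (hn : 3 ≤ n) : ¬ Cfsg.Involves (Equiv.Perm (Fin n)) G :=
  not_involves_of_not_three_dvd (three_dvd_card_perm n hn) (suzuki_not_three_dvd h)

section Unitary

variable {F : Type*} [Field F] [Fintype F] {n : ℕ}

/-- A permutation matrix in `SU₃`. -/
def permSU [CharP F 2] (q : ℕ) (σ : Equiv.Perm (Fin 3)) : Cfsg.SU 3 F q :=
  ⟨⟨σ.permMatrix F, by
    rw [Matrix.det_permutation]
    rcases Int.units_eq_one_or (Equiv.Perm.sign σ) with h | h <;> rw [h] <;>
      simp [CharTwo.neg_eq]⟩, fun u v => by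
    show Cfsg.hermForm 3 F q (σ.permMatrix F *ᵥ u) (σ.permMatrix F *ᵥ v) = _
    rw [Matrix.permMatrix_mulVec, Matrix.permMatrix_mulVec]
    exact Equiv.sum_comp σ fun i => u i * v i ^ q⟩

theorem permSU_mul [CharP F 2] (q : ℕ) (σ τ : Equiv.Perm (Fin 3)) :
    permSU (F := F) q σ * permSU q τ = permSU q (τ * σ) :=
  Subtype.ext (Subtype.ext (Matrix.permMatrix_mul τ σ).symm)

theorem permSU_one [CharP F 2] (q : ℕ) : permSU (F := F) q 1 = 1 :=
  Subtype.ext (Subtype.ext Matrix.permMatrix_one)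

theorem psu_involves_three (hn : n ≠ 0) (hF : Fintype.card F = 4 ^ n) :
    Cfsg.Involves S₃ (Cfsg.PSU 3 F (2 ^ n)) := by
  haveI : Fact (Nat.Prime 2) := ⟨Nat.prime_two⟩
  have hF' : Fintype.card F = 2 ^ (2 * n) := by rw [hF, pow_mul]; norm_num
  haveI := CfsgLib.AutPSL.charP_of_card (F := F) hF'
  let c : Equiv.Perm (Fin 3) := Equiv.swap 0 1 * Equiv.swap 1 2
  refine involves_three_quot (x := permSU _ (Equiv.swap 0 1)) (y := permSU _ c) ?_ ?_ ?_ ?_
  · rw [permSU_mul, Equiv.swap_mul_self, permSU_one]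
    exact one_mem _
  · rw [pow_succ, pow_two, permSU_mul, permSU_mul, show c * (c * c) = 1 by decide, permSU_one]
  · intro e
    have := congrArg (fun g : Cfsg.SU 3 F (2 ^ n) => ((g : SL(3, F)) : Matrix (Fin 3) (Fin 3) F) 0 0) e
    have h01 : c 0 ≠ 0 := by decide
    simp [permSU, Equiv.Perm.permMatrix, PEquiv.toMatrix_apply, h01] at this
  · rw [mul_inv_eq_iff_eq_mul]
    refine eq_inv_mul_iff_mul_eq.mpr ?_
    rw [permSU_mul, permSU_mul]
    congr 1
    decide

theorem psu_not_involves_four (hn : 2 ≤ n) (hF : Fintype.card F = 4 ^ n) :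
    ¬ Cfsg.Involves S₄ (Cfsg.PSU 3 F (2 ^ n)) := by
  classical
  haveI : Fact (Nat.Prime 2) := ⟨Nat.prime_two⟩
  have hF2 : Fintype.card F = (2 ^ n) ^ 2 := by rw [hF, ← pow_mul, mul_comm, pow_mul]; norm_num
  haveI := CfsgLib.AutPSL.charP_of_card (F := F) (f := n * 2) (by rw [hF2, ← pow_mul])
  obtain ⟨K⟩ := CfsgLib.SUPres.exists_conj_of_card hF2
  obtain ⟨ψ, τ, L⟩ := CfsgLib.UThreeCent.exists_loc_model K
    (le_trans (by norm_num) (Nat.pow_le_pow_right two_pos hn))
  have hP : IsPGroup 2 L.Pg := fun a => by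
    obtain ⟨x, hx⟩ := L.mem_Pg.mp a.2
    exact ⟨2, Subtype.ext (by
      rw [Subgroup.coe_pow, Subgroup.coe_one, show (2 : ℕ) ^ 2 = 4 from rfl, hx]
      exact L.ψ_four x)⟩
  have hcard : Nat.card L.Pg = (2 ^ n) ^ 3 := by
    rw [← CfsgLib.ModuleIndex.UThree.card_par K]
    exact (Nat.card_eq_of_bijective (fun x => (⟨ψ x, L.mem_Pg.mpr ⟨x, rfl⟩⟩ : L.Pg))
      ⟨fun x y e => L.ψ_inj (congrArg Subtype.val e), fun a => by
        obtain ⟨x, hx⟩ := L.mem_Pg.mp a.2
        exact ⟨x, Subtype.ext hx.symm⟩⟩).symm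
  have hTI : ∀ g, ∀ x ∈ L.Pg, x ≠ 1 → g * x * g⁻¹ ∈ L.Pg → g ∈ Subgroup.normalizer (L.Pg : Set _) := by
    intro g x hx hx1 hgx
    obtain ⟨u, rfl⟩ := L.mem_Pg.mp hx
    obtain ⟨v, hv⟩ := L.mem_Pg.mp hgx
    exact L.TI (fun e => hx1 (L.ψ_eq_one.mpr e)) hv
  intro h
  refine not_involves_four_of_ti L.Pg hP (CfsgLib.UThreeCent.odd_index K hcard) hTI ?_
  -- `PSU` is a quotient of a subgroup of `PGU`
  let f : Cfsg.SU 3 F (2 ^ n) →* Cfsg.GU 3 F (2 ^ n) :=
    MonoidHom.mk' CfsgLib.ClassicalAut.Unitary.toGU fun a b => by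
      refine Subtype.ext ?_
      show Matrix.SpecialLinearGroup.toGL (a * b : Cfsg.SU 3 F (2 ^ n)).1 = _
      rw [Subgroup.coe_mul, map_mul]
      rfl
  have hf : Function.Injective f := fun a b e => by
    have := congrArg (fun g : Cfsg.GU 3 F (2 ^ n) => ((g : GL (Fin 3) F) : Matrix (Fin 3) (Fin 3) F)) e
    exact Subtype.ext (Subtype.ext this)
  let g := (QuotientGroup.mk' (Subgroup.center (Cfsg.GU 3 F (2 ^ n)))).comp f
  have hker : g.ker ≤ Subgroup.center (Cfsg.SU 3 F (2 ^ n)) := by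
    intro a ha
    have hc : f a ∈ Subgroup.center (Cfsg.GU 3 F (2 ^ n)) := (QuotientGroup.eq_one_iff _).mp ha
    exact Subgroup.mem_center_iff.mpr fun b => hf (by
      rw [map_mul, map_mul, Subgroup.mem_center_iff.mp hc (f b)])
  let φ : g.range →* Cfsg.PSU 3 F (2 ^ n) :=
    g.rangeRestrict.liftOfSurjective g.rangeRestrict_surjective
      ⟨QuotientGroup.mk' _, by rw [MonoidHom.ker_rangeRestrict, QuotientGroup.ker_mk']; exact hker⟩
  have hφ : Function.Surjective φ := fun z => by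
    obtain ⟨a, rfl⟩ := QuotientGroup.mk'_surjective _ z
    exact ⟨g.rangeRestrict a, MonoidHom.liftOfRightInverse_comp_apply _ _ _ _ a⟩
  exact CfsgLib.Offender.involves_of_injective g.range.subtype Subtype.val_injective
    (CfsgLib.Offender.involves_of_surjective φ hφ h)

end Unitary

section Janko

open CfsgLib.J1

theorem janko_not_involves_four : ¬ Cfsg.Involves S₄ J := by
  haveI : Fact (Nat.Prime 2) := ⟨Nat.prime_two⟩
  refine not_involves_four_of_abelian eSub (IsPGroup.of_card (n := 3) (by rw [eSub_card]; rfl)) ?_ ?_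
  · intro h
    have := eSub.card_mul_index
    rw [eSub_card, card_eq] at this
    omega
  · have hsq : ∀ a ∈ eSub, a * a = 1 := by
      intro a ha
      rcases mem_eSub.mp ha with rfl | ⟨i, rfl⟩
      · exact one_mul 1
      obtain ⟨s, hs⟩ := exists_seven
      have h0 : eElem 0 * eElem 0 = 1 := by
        rw [eElem_zero, ← pow_two, ← elem2, pow_orderOf_eq_one]
      induction i using Fin.induction with
      | zero => exact h0
      | succ i ih =>
        rw [← hs i, show s * eElem i.castSucc * s⁻¹ * (s * eElem i.castSucc * s⁻¹) =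
          s * (eElem i.castSucc * eElem i.castSucc) * s⁻¹ by group,
          ih (mem_eSub.mpr (Or.inr ⟨_, rfl⟩)), mul_one, mul_inv_cancel]
    intro a ha b hb
    have h1 := hsq _ (eSub.mul_mem ha hb)
    calc a * b = a * (a * b * (a * b)) * b := by rw [h1, mul_one]
      _ = (a * a) * (b * a) * (b * b) := by group
      _ = b * a := by rw [hsq a ha, hsq b hb, one_mul, mul_one]

theorem janko_involves_three : Cfsg.Involves S₃ J := by
  haveI : Fact (Nat.Prime 3) := ⟨Nat.prime_three⟩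
  set y := CfsgLib.J1.elem CfsgLib.J1.cent3_good with hy
  have hyo : orderOf y = 3 := elem3
  have hc : Nat.card (Subgroup.zpowers y) = 3 ^ (Nat.card J).factorization 3 := by
    rw [Nat.card_zpowers, hyo, factorization_card (Or.inl rfl), pow_one]
  let P : Sylow 3 J := Sylow.ofCard _ hc
  by_contra hcon
  have hP : Subgroup.normalizer ((P : Subgroup J) : Set J) ≤
      Subgroup.centralizer ((P : Subgroup J) : Set J) := by
    intro n hn
    show n ∈ Subgroup.centralizer (Subgroup.zpowers y : Set J)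
    have hmem : n * y * n⁻¹ ∈ Subgroup.zpowers y :=
      (Subgroup.mem_normalizer_iff.mp hn y).mp (Subgroup.mem_zpowers y)
    obtain ⟨i, hi, hiy⟩ := (isOfFinOrder_of_finite y).mem_zpowers_iff_mem_range_orderOf.mp hmem
      |> Finset.mem_image.mp
    rw [Finset.mem_range, hyo] at hi
    have hy1 : y ≠ 1 := fun e => by rw [e, orderOf_one] at hyo; omega
    interval_cases i
    · exact absurd (conj_eq_one_iff.mp (hiy.symm.trans (pow_zero y))) hy1
    · rw [pow_one] at hiy
      rintro z ⟨j, rfl⟩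
      exact (Commute.zpow_left (mul_inv_eq_iff_eq_mul.mp hiy.symm).symm j).eq
    · refine absurd ?_ hcon
      have hinv : n * y * n⁻¹ = y⁻¹ := by
        rw [← hiy]
        exact eq_inv_of_mul_eq_one_left (by rw [← pow_succ, show (2 : ℕ) + 1 = 3 from rfl, ← hyo, pow_orderOf_eq_one])
      obtain ⟨m, hm, k, hk⟩ := CfsgLib.ZJ.exists_two_part n
      obtain ⟨k', -, hk'⟩ := (Nat.dvd_prime_pow Nat.prime_two).mp (orderOf_dvd_of_pow_eq_one hk)
      refine involves_three_of_inverted (x := n ^ m) ⟨k', hk'⟩ ⟨1, by rw [hyo, pow_one]⟩ hy1 ?_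
      have hsq : n ^ 2 * y * (n ^ 2)⁻¹ = y := by
        rw [show n ^ 2 * y * (n ^ 2)⁻¹ = n * (n * y * n⁻¹) * n⁻¹ by rw [pow_two]; group, hinv,
          show n * y⁻¹ * n⁻¹ = (n * y * n⁻¹)⁻¹ by group, hinv, inv_inv]
      obtain ⟨j, rfl⟩ := hm
      have hcj : Commute ((n ^ 2) ^ j) y := Commute.pow_left (mul_inv_eq_iff_eq_mul.mp hsq) j
      rw [pow_succ', pow_mul,
        show n * (n ^ 2) ^ j * y * (n * (n ^ 2) ^ j)⁻¹ = n * ((n ^ 2) ^ j * y * ((n ^ 2) ^ j)⁻¹) * n⁻¹ by group,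
        hcj.eq, mul_inv_cancel_right, hinv]
  haveI := CfsgLib.J1.isSimple
  have hk := MonoidHom.ker_transferSylow_isComplement' P hP
  have hPc : Nat.card (P : Subgroup J) = 3 := by
    show Nat.card (Subgroup.zpowers y) = 3
    rw [Nat.card_zpowers, hyo]
  have h2 := hk.card_mul
  rcases (MonoidHom.normal_ker (MonoidHom.transferSylow P hP)).eq_bot_or_eq_top with h | h
  · rw [h, Subgroup.card_bot, one_mul, hPc, card_eq] at h2
    omega
  · rw [h, Subgroup.card_top, hPc, card_eq] at h2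
    omega

end Janko

/-- A group of Ree type has abelian Sylow two-subgroups. -/
theorem ree_not_involves_four {G : Type*} [Group G] [Finite G] (h : Cfsg.IsReeType G) :
    ¬ Cfsg.Involves S₄ G := by
  obtain ⟨-, -, t, K, n, hn, ht, hodd, ⟨htC, hKC, hcomm, -, hsup⟩, F, hf, hfin, hF, ⟨e⟩⟩ := h
  haveI : Fact (Nat.Prime 2) := ⟨Nat.prime_two⟩
  set C := Subgroup.centralizer ({t} : Set G)
  obtain ⟨S⟩ := (inferInstance : Nonempty (Sylow 2 C))
  have hidx : ¬ 2 ∣ ((S : Subgroup C).map C.subtype).index := by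
    rw [Subgroup.index_map_subtype]
    exact fun h2 => (Nat.prime_two.dvd_mul.mp h2).elim S.not_dvd_index hodd.not_two_dvd_nat
  refine not_involves_four_of_abelian _ (S.2.map C.subtype) hidx ?_
  -- write the elements through the factors
  have hdec : ∀ c ∈ C, ∃ i : ℤ, ∃ k ∈ K, c = t ^ i * k := by
    intro c hc
    rw [← hsup] at hc
    have hnorm : Subgroup.zpowers t ≤ Subgroup.normalizer (K : Set G) :=
      le_trans (show Subgroup.zpowers t ≤ Subgroup.centralizer (K : Set G) from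
        fun a ha b hb => (hcomm a ha b hb).symm) (Subgroup.centralizer_le_normalizer _)
    obtain ⟨_, ⟨i, rfl⟩, k, hk, rfl⟩ : c ∈ (Subgroup.zpowers t : Set G) * (K : Set G) := by
      rw [← Subgroup.coe_mul_of_left_le_normalizer_right _ _ hnorm]
      exact hc
    exact ⟨i, k, hk, rfl⟩
  -- the Sylow subgroup contains the involution
  have htS : (⟨t, htC (Subgroup.mem_zpowers t)⟩ : C) ∈ (S : Subgroup C) := by
    set t' : C := ⟨t, htC (Subgroup.mem_zpowers t)⟩
    have hp : IsPGroup 2 (Subgroup.zpowers t') := IsPGroup.of_card (n := 1) (by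
      rw [Nat.card_zpowers, ← Subgroup.orderOf_coe, ht, pow_one])
    have hn' : Subgroup.zpowers t' ≤ Subgroup.normalizer ((S : Subgroup C) : Set C) :=
      le_trans (Subgroup.zpowers_le.mpr (show t' ∈ Subgroup.centralizer ((S : Subgroup C) : Set C) from
        Subgroup.mem_centralizer_iff.mpr fun b _ => Subtype.ext
          (Subgroup.mem_centralizer_singleton_iff.mp b.2)))
        (Subgroup.centralizer_le_normalizer _)
    have := S.3 (hp.to_sup_of_normal_right' S.2 hn') le_sup_right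
    exact (show Subgroup.zpowers t' ≤ (S : Subgroup C) from le_sup_left.trans (le_of_eq this))
      (Subgroup.mem_zpowers t')
  have hK : ∀ a ∈ (S : Subgroup C), ∀ i : ℤ, (t ^ i)⁻¹ * (a : G) ∈ K → (t ^ i)⁻¹ * (a : G) ∈
      ((S : Subgroup C).map C.subtype ⊓ K) := fun a ha i hk =>
    ⟨⟨(⟨t, htC (Subgroup.mem_zpowers t)⟩ ^ i)⁻¹ * a, mul_mem (inv_mem (zpow_mem htS i)) ha, by simp⟩, hk⟩
  have habK : ∀ a ∈ ((S : Subgroup C).map C.subtype ⊓ K : Subgroup G),
      ∀ b ∈ ((S : Subgroup C).map C.subtype ⊓ K : Subgroup G), a * b = b * a := by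
    set U := ((S : Subgroup C).map C.subtype ⊓ K).subgroupOf K
    have hU : IsPGroup 2 U := ((S.2.map C.subtype).to_le inf_le_left).of_equiv
      (Subgroup.subgroupOfEquivOfLe inf_le_right).symm
    obtain ⟨T, hT⟩ := (hU.map e.toMonoidHom).exists_le_sylow
    have hTc : ∀ a ∈ (T : Subgroup PSL(2, F)), ∀ b ∈ (T : Subgroup PSL(2, F)), a * b = b * a := by
      have hc := CfsgLib.SL2.card_PSL (F := F)
      rw [Nat.card_eq_fintype_card (α := F), hF] at hc
      have h3 : (3 : ℕ) ^ (2 * n + 1) % 8 = 3 := by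
        rw [pow_succ, pow_mul, Nat.mul_mod, Nat.pow_mod]; simp
      obtain ⟨k, hk⟩ : ∃ k, (3 : ℕ) ^ (2 * n + 1) = 8 * k + 3 := ⟨_, (Nat.div_add_mod _ 8).symm.trans (by rw [h3])⟩
      rw [hk, show 8 * k + 3 - 1 = 8 * k + 2 by omega,
        Nat.gcd_eq_left (show 2 ∣ 8 * k + 2 by omega)] at hc
      obtain ⟨j, hj⟩ := IsPGroup.iff_card.mp T.2
      have hd : 2 ^ j ∣ 4 * ((8 * k + 3) * (8 * k ^ 2 + 6 * k + 1)) := by
        rw [← hj, show 4 * ((8 * k + 3) * (8 * k ^ 2 + 6 * k + 1)) =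
          Nat.card (ProjectiveSpecialLinearGroup (Fin 2) F) from
          Nat.eq_of_mul_eq_mul_left two_pos (Eq.trans (by ring) hc.symm)]
        exact Subgroup.card_subgroup_dvd_card _
      have h4 : 2 ^ j ∣ 4 := (Nat.Coprime.pow_left j (Nat.coprime_two_left.mpr
        (Odd.mul ⟨4 * k + 1, by omega⟩ ⟨4 * k ^ 2 + 3 * k, by ring⟩))).dvd_of_dvd_mul_right hd
      obtain ⟨i, hi, hi'⟩ := (Nat.dvd_prime_pow Nat.prime_two (m := 2)).mp h4
      have hj2 : j ≤ 2 := by rw [Nat.pow_right_injective le_rfl hi']; exact hi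
      intro a ha b hb
      suffices hs : (⟨a, ha⟩ : (T : Subgroup PSL(2, F))) * ⟨b, hb⟩ = ⟨b, hb⟩ * ⟨a, ha⟩ from
        congrArg Subtype.val hs
      interval_cases j
      · haveI : Subsingleton (T : Subgroup PSL(2, F)) := (Nat.card_eq_one_iff_unique.mp (by simpa using hj)).1
        exact Subsingleton.elim _ _
      · haveI := isCyclic_of_prime_card (p := 2) (α := (T : Subgroup PSL(2, F))) (by simpa using hj)
        exact (IsCyclic.commutative (α := (T : Subgroup PSL(2, F)))).is_comm.comm _ _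
      · exact IsPGroup.commutative_of_card_eq_prime_sq hj _ _
    intro a ha b hb
    have := hTc _ (hT ⟨⟨a, ha.2⟩, ha, rfl⟩) _ (hT ⟨⟨b, hb.2⟩, hb, rfl⟩)
    change e ⟨a, ha.2⟩ * e ⟨b, hb.2⟩ = e ⟨b, hb.2⟩ * e ⟨a, ha.2⟩ at this
    rw [← map_mul, ← map_mul] at this
    exact congrArg Subtype.val (e.injective this)
  rintro _ ⟨a, ha, rfl⟩ _ ⟨b, hb, rfl⟩
  obtain ⟨i, k, hk, hka⟩ := hdec a a.2
  obtain ⟨j, l, hl, hlb⟩ := hdec b b.2
  have hk' := hK a ha i (by rw [hka, inv_mul_cancel_left]; exact hk)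
  have hl' := hK b hb j (by rw [hlb, inv_mul_cancel_left]; exact hl)
  rw [hka, inv_mul_cancel_left] at hk'
  rw [hlb, inv_mul_cancel_left] at hl'
  have h1 := habK k hk' l hl'
  have h2 : Commute (t ^ j) k := hcomm _ ⟨j, rfl⟩ k hk
  have h3 : Commute (t ^ i) l := hcomm _ ⟨i, rfl⟩ l hl
  show (a : G) * b = b * a
  rw [hka, hlb, show t ^ i * k * (t ^ j * l) = t ^ i * t ^ j * (k * l) by
      rw [mul_assoc, ← mul_assoc k, ← h2.eq]; group,
    show t ^ j * l * (t ^ i * k) = t ^ j * t ^ i * (l * k) by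
      rw [mul_assoc, ← mul_assoc l, ← h3.eq]; group, h1, ((Commute.refl t).zpow_zpow i j).eq]

end CfsgLib.ReeTypeSThree
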