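import Cfsg.Agent.Lib.ReeTypeSThree.Branches

/-!
The Goldschmidt groups, given that those of Ree type involve `S₃`.
-/

set_option autoImplicit false
set_option linter.style.haveILetI false

namespace CfsgLib.ReeTypeSThree

open scoped MatrixGroups

local notation "S₃" => Equiv.Perm (Fin 3)
local notation "S₄" => Equiv.Perm (Fin 4)

theorem not_involves_of_small {G : Type*} [Group G] [Finite G]
    (h : Cfsg.IsSuzukiOrPSL2OddPowerThree G) : ¬ Cfsg.Involves S₃ G := by
  rcases h with h | ⟨F, hf, hfin, n, hF, ⟨e⟩⟩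
  · exact suzuki_not_involves h le_rfl
  · exact fun hi => psl_not_involves_three hF ((involves_congr e).mp hi)

theorem goldschmidt_criterion {G : Type*} [Group G] [Finite G] (hG : Cfsg.IsGoldschmidtGroup G)
    (hree : Cfsg.IsReeType G → Cfsg.Involves S₃ G) :
    ¬ Cfsg.Involves S₄ G ∧
      (¬ Cfsg.Involves S₃ G ↔ Cfsg.IsSuzukiOrPSL2OddPowerThree G) := by
  suffices h : ¬ Cfsg.Involves S₄ G ∧
      (Cfsg.Involves S₃ G ∨ Cfsg.IsSuzukiOrPSL2OddPowerThree G) from
    ⟨h.1, fun hn => h.2.resolve_left hn, not_involves_of_small⟩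
  rcases hG with h | ⟨F, hf, hfin, n, hn, hF, ⟨e⟩⟩ | h | ⟨F, hf, hfin, n, hn, hF, ⟨e⟩⟩ |
      ⟨F, hf, hfin, q, hF, hq, hq8, ⟨e⟩⟩ | ⟨⟨e⟩⟩
  · exact ⟨ree_not_involves_four h, Or.inl (hree h)⟩
  · haveI : Fact (Nat.Prime 2) := ⟨Nat.prime_two⟩
    haveI := CfsgLib.AutPSL.charP_of_card (F := F) hF
    have h3 : (3 : F) ≠ 0 := fun h3 => one_ne_zero (α := F) (by
      linear_combination h3 - (CharTwo.two_eq_zero : (2 : F) = 0))
    exact ⟨fun hi => psl_even_not_involves_four hF ((involves_congr e).mp hi),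
      Or.inl ((involves_congr e).mpr (psl_involves_three h3))⟩
  · exact ⟨suzuki_not_involves h (by norm_num), Or.inr (Or.inl h)⟩
  · exact ⟨fun hi => psu_not_involves_four hn hF ((involves_congr e).mp hi),
      Or.inl ((involves_congr e).mpr (psu_involves_three (by omega) hF))⟩
  · subst hF
    refine ⟨fun hi => psl_odd_not_involves_four hq8 ((involves_congr e).mp hi), ?_⟩
    by_cases h3 : (3 : F) = 0
    · haveI : Fact (Nat.Prime 3) := ⟨Nat.prime_three⟩
      haveI : CharP F 3 := (CharP.charP_iff_prime_eq_zero Nat.prime_three).mpr (by exact_mod_cast h3)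
      obtain ⟨k, -, hk⟩ := FiniteField.card F 3
      rcases Nat.even_or_odd' (k : ℕ) with ⟨i, hi | hi⟩
      · exfalso
        rw [hk, hi, pow_mul] at hq8
        rw [Nat.pow_mod] at hq8
        norm_num at hq8
      · exact Or.inr (Or.inr ⟨F, hf, hfin, i, by rw [hk, hi], ⟨e⟩⟩)
    · exact Or.inl ((involves_congr e).mpr (psl_involves_three h3))
  · exact ⟨fun hi => janko_not_involves_four ((involves_congr e).mp hi),
      Or.inl ((involves_congr e).mpr janko_involves_three)⟩

end CfsgLib.ReeTypeSThree
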