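import Cfsg.Agent.Lib.ReeTypeSThree.Defs
import Cfsg.Agent.Lib.Char.Counting
import Cfsg.Agent.Lib.ZStar.Eight
import Mathlib.LinearAlgebra.Lagrange

/-!
The counting congruence: if `C(u)` meets the class of `t` in a coset `Wt` of order prime to three,
then no irreducible character which is non-zero at `ut` has central character value at `t`
divisible by three.
-/

set_option autoImplicit false
set_option linter.style.haveILetI false

namespace CfsgLib.ReeTypeSThree

open Cfsg Finset Polynomial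
open scoped ComplexConjugate CfsgLib.Char

universe u

/-- An invariant sum modulo three is the sum over the fixed points of a map of order three. -/
theorem sum_three {α : Type*} [DecidableEq α] (σ : α → α) (h3 : ∀ a, σ (σ (σ a)) = a)
    (f : α → ZMod 3) (hf : ∀ a, f (σ a) = f a) :
    ∀ S : Finset α, (∀ a ∈ S, σ a ∈ S) → ∑ a ∈ S, f a = ∑ a ∈ S with σ a = a, f a := by
  intro S
  induction S using Finset.strongInduction with
  | _ S ih =>
    intro hS
    by_cases hfix : ∀ a ∈ S, σ a = a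
    · rw [Finset.filter_true_of_mem hfix]
    push Not at hfix
    obtain ⟨x, hx, hne⟩ := hfix
    have h12 : σ x ≠ σ (σ x) := fun h => hne (by
      have := congrArg (fun y => σ (σ y)) h
      simp only [h3] at this
      exact this.symm)
    have h02 : x ≠ σ (σ x) := fun h => hne (by
      have := congrArg σ h
      simp only [h3] at this
      exact this)
    set O : Finset α := {x, σ x, σ (σ x)} with hO
    have hOS : O ⊆ S := by
      intro y hy
      simp only [hO, Finset.mem_insert, Finset.mem_singleton] at hy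
      rcases hy with rfl | rfl | rfl
      exacts [hx, hS _ hx, hS _ (hS _ hx)]
    have hOinv : ∀ a, σ a ∈ O → a ∈ O := by
      intro a ha
      simp only [hO, Finset.mem_insert, Finset.mem_singleton] at ha ⊢
      rcases ha with h | h | h
      · exact Or.inr (Or.inr (by rw [← h, h3]))
      · exact Or.inl (by rw [← h3 a, h, h3])
      · exact Or.inr (Or.inl (by rw [← h3 a, h]; exact congrArg σ (h3 x)))
    have hsub : S \ O ⊂ S := Finset.sdiff_ssubset hOS ⟨x, by simp [hO]⟩
    have hrec := ih (S \ O) hsub fun a ha => by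
      rw [Finset.mem_sdiff] at ha ⊢
      exact ⟨hS a ha.1, fun h => ha.2 (hOinv a h)⟩
    have hfil : ({a ∈ S \ O | σ a = a} : Finset α) = {a ∈ S | σ a = a} := by
      ext a
      simp only [Finset.mem_filter, Finset.mem_sdiff]
      refine ⟨fun h => ⟨h.1.1, h.2⟩, fun h => ⟨⟨h.1, fun ha => ?_⟩, h.2⟩⟩
      simp only [hO, Finset.mem_insert, Finset.mem_singleton] at ha
      rcases ha with rfl | rfl | rfl
      exacts [hne h.2, h12 h.2.symm, h02 (by simpa [h3] using h.2)]
    have hsum : ∑ a ∈ O, f a = 0 := by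
      rw [hO, Finset.sum_insert (by simp [Ne.symm hne, h02]), Finset.sum_pair h12, hf, hf, hf,
        show f x + (f x + f x) = 3 * f x by ring, show (3 : ZMod 3) = 0 from rfl, zero_mul]
    rw [← Finset.sum_sdiff hOS, hsum, add_zero, hrec, hfil]

open scoped _root_.Classical

variable {G : Type u} [Group G] [Fintype G]

/-- The class of `t`. -/
noncomputable def cls (t : G) : Finset G := Finset.univ.filter fun x => IsConj x t

theorem mem_cls {t x : G} : x ∈ cls t ↔ IsConj x t := by simp [cls]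

theorem conj_mem_cls {t x : G} (g : G) (hx : x ∈ cls t) : g * x * g⁻¹ ∈ cls t :=
  mem_cls.mpr ((isConj_iff.mpr ⟨g, rfl⟩).symm.trans (mem_cls.mp hx))

theorem sum_cls_mul (χ : IrrCharacter G) (t h : G) :
    ∑ v ∈ cls t, (χ : G → ℂ) (h * v) = Char.omega (χ : G → ℂ) t * (χ : G → ℂ) h := by
  obtain ⟨n, ρ, hρ, e⟩ := χ.2
  rw [← e]
  have h1 : LinearMap.trace ℂ (Fin n → ℂ) (ρ h * Char.classSum ρ t) =
      ∑ v ∈ cls t, ρ.character (h * v) := by
    rw [Char.classSum, Finset.mul_sum, map_sum]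
    refine Finset.sum_congr ?_ fun v _ => by rw [← map_mul]; rfl
    ext x
    simp [cls]
  rw [← h1, Char.classSum_eq_omega ρ t, mul_smul_comm, map_smul, ← Module.End.one_eq_id, mul_one,
    smul_eq_mul]
  rfl

/-- The iterates of the class sum of `t` applied to the indicator of the class of `a`. -/
noncomputable def iter (t a : G) : ℕ → G → ℤ
  | 0 => fun g => if IsConj g a then 1 else 0
  | j + 1 => fun g => ∑ s ∈ cls t, iter t a j (g * s)

theorem iter_conj (t a : G) : ∀ (j : ℕ) (g h : G), iter t a j (h * g * h⁻¹) = iter t a j g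
  | 0, g, h => by
    have hc : IsConj g (h * g * h⁻¹) := isConj_iff.mpr ⟨h, rfl⟩
    simp only [iter]
    exact if_congr ⟨fun H => hc.trans H, fun H => hc.symm.trans H⟩ rfl rfl
  | j + 1, g, h => by
    simp only [iter]
    refine Finset.sum_nbij' (fun s => h⁻¹ * s * h) (fun s => h * s * h⁻¹)
      (fun s hs => ?_) (fun s hs => conj_mem_cls h hs) (fun s _ => by group) (fun s _ => by group)
      fun s _ => ?_
    · simpa using conj_mem_cls h⁻¹ hs
    · rw [show h * g * h⁻¹ * s = h * (g * (h⁻¹ * s * h)) * h⁻¹ by group, iter_conj t a j]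

theorem iter_eq (t a : G) : ∀ (j : ℕ) (g : G),
    (Nat.card (Subgroup.centralizer ({a} : Set G)) : ℂ) * (iter t a j g : ℂ) =
      ∑ χ : IrrCharacter G,
        (χ : G → ℂ) g * conj ((χ : G → ℂ) a) * Char.omega (χ : G → ℂ) t ^ j
  | 0, g => by
    simp only [iter, pow_zero, mul_one, Char.column_orthogonality]
    by_cases hc : IsConj g a
    · rw [if_pos hc, if_pos hc, Int.cast_one, mul_one]
    · rw [if_neg hc, if_neg hc, Int.cast_zero, mul_zero]
  | j + 1, g => by
    simp only [iter, Int.cast_sum, Finset.mul_sum, iter_eq t a j]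
    rw [Finset.sum_comm]
    refine Finset.sum_congr rfl fun χ _ => ?_
    rw [← Finset.sum_mul, ← Finset.sum_mul, sum_cls_mul, pow_succ]
    ring

variable {t u : G} {q : ℕ} {W : Subgroup G}

/-- One step of the iteration modulo three at an element commuting with `u`. -/
theorem iter_succ_three (h : CountHyp t u q W) (a g : G) (hg : Commute g u) (j : ℕ) :
    (iter t a (j + 1) g : ZMod 3) = ∑ w : W, (iter t a j (g * ((w : G) * t)) : ZMod 3) := by
  have hu3 : u ^ 3 = 1 := h.orderOf_u ▸ pow_orderOf_eq_one u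
  simp only [iter, Int.cast_sum]
  rw [sum_three (fun s => u * s * u⁻¹) (fun s => ?_) _ (fun s => ?_) _
    fun s hs => conj_mem_cls u hs]
  · refine (Finset.sum_bij (fun (w : W) _ => (w : G) * t) (fun w _ => ?_) (fun w _ w' _ e => ?_)
      (fun s hs => ?_) fun w _ => rfl).symm
    · obtain ⟨hc, hcu⟩ := (h.invol _).mpr ⟨(w : G), w.2, rfl⟩
      refine Finset.mem_filter.mpr ⟨mem_cls.mpr hc.symm, ?_⟩
      rw [← hcu.eq, mul_inv_cancel_right]
    · exact Subtype.ext (mul_right_cancel e)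
    · obtain ⟨hs1, hs2⟩ := Finset.mem_filter.mp hs
      have hcu : Commute s u := (mul_inv_eq_iff_eq_mul.mp hs2).symm
      obtain ⟨w, hw, rfl⟩ := (h.invol s).mp ⟨(mem_cls.mp hs1).symm, hcu⟩
      exact ⟨⟨w, hw⟩, Finset.mem_univ _, rfl⟩
  · calc u * (u * (u * s * u⁻¹) * u⁻¹) * u⁻¹ = u ^ 3 * s * (u ^ 3)⁻¹ := by
          simp [pow_succ, mul_assoc]
      _ = s := by simp [hu3]
  · have hgu : u * g * u⁻¹ = g := by rw [← hg.eq, mul_inv_cancel_right]
    show (iter t a j (g * (u * s * u⁻¹)) : ZMod 3) = _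
    rw [← iter_conj t a j (g * s) u, show u * (g * s) * u⁻¹ = u * g * u⁻¹ * (u * s * u⁻¹) by group,
      hgu]

theorem iter_even (h : CountHyp t u q W) : ∀ (i : ℕ), ∀ w ∈ W,
    (iter t (u * t) (2 * i) (w * (u * t)) : ZMod 3) = 1
  | 0, w, hw => by
    show (iter t (u * t) 0 (w * (u * t)) : ZMod 3) = 1
    simp only [iter, if_pos (h.coset w hw).symm, Int.cast_one]
  | i + 1, w, hw => by
    have ht : t * t = 1 := by rw [← sq, ← h.orderOf_t, pow_orderOf_eq_one]
    have hti : t⁻¹ = t := inv_eq_of_mul_eq_one_right ht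
    have hk : ((Nat.card W : ZMod 3)) ^ 2 = 1 := by
      have hne : (Nat.card W : ZMod 3) ≠ 0 := fun e =>
        h.card_W ((ZMod.natCast_eq_zero_iff (Nat.card W) 3).mp e)
      exact (show ∀ x : ZMod 3, x ≠ 0 → x ^ 2 = 1 by decide) _ hne
    have hodd : ∀ v ∈ W, (iter t (u * t) (2 * i + 1) (v * u) : ZMod 3) = Nat.card W := by
      intro v hv
      rw [iter_succ_three h _ _ ((h.le_cent v hv).mul_left (Commute.refl u))]
      rw [Finset.sum_congr rfl (g := fun _ => (1 : ZMod 3)) fun x _ => ?_]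
      · simp
      rw [show v * u * ((x : G) * t) = v * (x : G) * (u * t) by
        rw [mul_assoc v u, ← mul_assoc u, ← (h.le_cent x x.2).eq]; group]
      exact iter_even h i _ (W.mul_mem hv x.2)
    rw [show 2 * (i + 1) = (2 * i + 1) + 1 by ring,
      iter_succ_three h _ _ ((h.le_cent w hw).mul_left ((Commute.refl u).mul_left h.comm.symm)),
      Finset.sum_congr rfl (g := fun _ => (Nat.card W : ZMod 3)) fun x _ => ?_]
    · rw [Finset.sum_const, Finset.card_univ, ← Nat.card_eq_fintype_card, nsmul_eq_mul, ← sq, hk]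
    rw [show w * (u * t) * ((x : G) * t) = w * (x : G)⁻¹ * u by
      rw [← h.inv x x.2, hti]
      have hxu : Commute (x : G) u := h.le_cent x x.2
      calc w * (u * t) * ((x : G) * t) = w * (u * (t * (x : G) * t)) := by group
        _ = w * (u * (x : G)⁻¹) := by rw [← h.inv x x.2, hti]
        _ = w * (x : G)⁻¹ * u := by rw [← hxu.inv_left.eq, mul_assoc]
        _ = w * (t * (x : G) * t) * u := by rw [← h.inv x x.2, hti]]
    exact hodd _ (W.mul_mem hw (W.inv_mem x.2))

omit [Fintype G] in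
theorem noBadRow [Finite G] (h : CountHyp t u q W) : NoBadRow t (u * t) := by
  haveI : Fintype G := Fintype.ofFinite G
  intro χ₀ hne n hn hdvd
  obtain ⟨b, hb⟩ := h.q_pow
  have hz : ∀ χ : IrrCharacter G, ∃ z : ℤ, Char.omega (χ : G → ℂ) t = z := by
    intro χ
    obtain ⟨m, hm⟩ := ZStar.exists_int_value_involution (χ := χ) (t := t)
      (by rw [← sq, ← h.orderOf_t, pow_orderOf_eq_one])
    obtain ⟨d, hd, -⟩ := Char.exists_degree_dvd_card χ.2
    have he : Char.omega (χ : G → ℂ) t =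
        ((((Subgroup.centralizer ({t} : Set G)).index : ℚ) * m / d : ℚ) : ℂ) := by
      simp [Char.omega, hm, hd]
    obtain ⟨z, hz⟩ := Char.exists_int_of_isIntegral_rat (he ▸ Char.isIntegral_omega_irr χ.2 t)
    exact ⟨z, by rw [he, hz]; simp⟩
  choose z hz using hz
  have hz0 : z χ₀ = n := by
    obtain ⟨d, hd, hd0, -⟩ := Char.exists_degree_dvd_card χ₀.2
    have hd1 : (χ₀ : G → ℂ) 1 ≠ 0 := by rw [hd]; exact Nat.cast_ne_zero.mpr hd0.ne'
    have : Char.omega (χ₀ : G → ℂ) t = (n : ℂ) := by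
      rw [Char.omega, hn, mul_div_cancel_right₀ _ hd1]
    exact_mod_cast (hz χ₀).symm.trans this
  set B : IrrCharacter G → ℝ := fun χ => Complex.normSq ((χ : G → ℂ) (u * t)) with hB
  have hsum : ∀ j, (2 * (q : ℂ)) * (iter t (u * t) j (u * t) : ℂ) =
      ∑ χ, (B χ : ℂ) * (z χ : ℂ) ^ j := by
    intro j
    have := iter_eq t (u * t) j (u * t)
    rw [h.card_cent] at this
    push_cast at this
    rw [this]
    exact Finset.sum_congr rfl fun χ _ => by rw [hz, Complex.mul_conj]
  obtain ⟨N, hN⟩ : ∃ N, N = 3 ^ b := ⟨_, rfl⟩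
  set C : ℤ := ∑ i ∈ range (N + 1), (-1) ^ i * (N.choose i) * iter t (u * t) (2 * i) (u * t)
    with hC
  have hCdvd : (3 : ℤ) ∣ C := by
    rw [show (3 : ℤ) = ((3 : ℕ) : ℤ) from rfl, ← ZMod.intCast_zmod_eq_zero_iff_dvd, hC]
    push_cast
    have hpos : N ≠ 0 := hN ▸ pow_ne_zero _ three_ne_zero
    have h0 := add_pow (-1 : ZMod 3) 1 N
    rw [neg_add_cancel, zero_pow hpos] at h0
    rw [h0]
    refine Finset.sum_congr rfl fun i _ => ?_
    have he := iter_even h i 1 W.one_mem
    rw [one_mul] at he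
    rw [he, one_pow, mul_one, mul_one]
  have hCsum : ∑ χ, (B χ : ℂ) * (((1 - z χ ^ 2) ^ N : ℤ) : ℂ) = 2 * (q : ℂ) * C := by
    have hexp : ∀ χ, (((1 - z χ ^ 2) ^ N : ℤ) : ℂ) =
        ∑ i ∈ range (N + 1), (-1 : ℂ) ^ i * (N.choose i) * (z χ : ℂ) ^ (2 * i) := by
      intro χ
      push_cast
      rw [show (1 : ℂ) - (z χ : ℂ) ^ 2 = -(z χ : ℂ) ^ 2 + 1 by ring, add_pow]
      refine Finset.sum_congr rfl fun i _ => ?_
      rw [neg_pow, pow_mul]
      ring
    simp only [hexp, Finset.mul_sum, hC, Int.cast_sum]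
    rw [Finset.sum_comm]
    refine Finset.sum_congr rfl fun i _ => ?_
    push_cast
    rw [show (2 : ℂ) * q * ((-1) ^ i * (N.choose i) * (iter t (u * t) (2 * i) (u * t) : ℂ)) =
      (-1) ^ i * (N.choose i) * (2 * q * (iter t (u * t) (2 * i) (u * t) : ℂ)) by ring, hsum,
      Finset.mul_sum]
    exact Finset.sum_congr rfl fun χ _ => by ring
  have he : ∀ χ, ∃ e : ℤ, (1 - z χ ^ 2) ^ N =
      (if (3 : ℤ) ∣ z χ then 1 else 0) + 3 ^ (b + 1) * e := by
    intro χ
    split_ifs with h3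
    · have hd : (3 : ℤ) ∣ (1 - z χ ^ 2) - 1 := by
        rw [show (1 - z χ ^ 2) - 1 = -(z χ ^ 2) by ring, dvd_neg]
        exact dvd_pow h3 two_ne_zero
      obtain ⟨e, he⟩ := dvd_sub_pow_of_dvd_sub (R := ℤ) (p := 3) (by exact_mod_cast hd) b
      refine ⟨e, ?_⟩
      rw [one_pow, ← hN] at he
      push_cast at he
      linarith
    · have hd : (3 : ℤ) ∣ 1 - z χ ^ 2 := by
        rw [show (3 : ℤ) = ((3 : ℕ) : ℤ) from rfl, ← ZMod.intCast_zmod_eq_zero_iff_dvd] at h3 ⊢
        push_cast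
        rw [(show ∀ x : ZMod 3, x ≠ 0 → x ^ 2 = 1 by decide) _ h3, sub_self]
      have hle : b + 1 ≤ N := hN ▸ Nat.lt_pow_self (show 1 < 3 by norm_num)
      obtain ⟨e, he⟩ := (pow_dvd_pow (3 : ℤ) hle).trans (pow_dvd_pow_of_dvd hd N)
      exact ⟨e, by rw [he, zero_add]⟩
  choose e he using he
  set S0 : ℝ := ∑ χ, if (3 : ℤ) ∣ z χ then B χ else 0 with hS0
  set Y : ℂ := 2 * ((C / 3 : ℤ) : ℂ) - ∑ χ, (B χ : ℂ) * (e χ : ℂ) with hY
  have hSY : (S0 : ℂ) = 3 * (q : ℂ) * Y := by
    have hC3 : (C : ℂ) = 3 * ((C / 3 : ℤ) : ℂ) := by exact_mod_cast (Int.mul_ediv_cancel' hCdvd).symm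
    have hsplit : ∑ χ, (B χ : ℂ) * (((1 - z χ ^ 2) ^ N : ℤ) : ℂ) =
        (S0 : ℂ) + 3 * (q : ℂ) * ∑ χ, (B χ : ℂ) * (e χ : ℂ) := by
      rw [hS0, Complex.ofReal_sum, Finset.mul_sum, ← Finset.sum_add_distrib]
      refine Finset.sum_congr rfl fun χ _ => ?_
      rw [he χ, hb]
      split_ifs <;> push_cast <;> ring
    rw [hCsum, hC3] at hsplit
    rw [hY]
    linear_combination -hsplit
  have hYint : IsIntegral ℤ Y := by
    have hint : ∀ m : ℤ, IsIntegral ℤ (m : ℂ) := fun m => isIntegral_algebraMap (x := m)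
    have hBint : ∀ χ, IsIntegral ℤ (B χ : ℂ) := fun χ => by
      have := (Char.isIntegral_value (Char.isCharacter_of_isIrr χ.2) (u * t)).mul
        (Char.isIntegral_conj (Char.isIntegral_value (Char.isCharacter_of_isIrr χ.2) (u * t)))
      rwa [Complex.mul_conj] at this
    have h2 : IsIntegral ℤ (2 * ((C / 3 : ℤ) : ℂ)) := by
      have := hint (2 * (C / 3))
      push_cast at this
      exact this
    exact h2.sub (IsIntegral.sum _ fun χ _ => (hBint χ).mul (hint (e χ)))
  obtain ⟨r, hr⟩ : ∃ r : ℚ, (S0 : ℂ) = (r : ℂ) := by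
    set V : Finset ℤ := univ.image z
    set P := Lagrange.interpolate V (fun x : ℤ => (x : ℚ))
      (fun x => if (3 : ℤ) ∣ x then (1 : ℚ) else 0)
    refine ⟨∑ i ∈ range (P.natDegree + 1), P.coeff i * (2 * q * iter t (u * t) i (u * t)), ?_⟩
    have hev : ∀ χ, (if (3 : ℤ) ∣ z χ then (1 : ℂ) else 0) =
        ∑ i ∈ range (P.natDegree + 1), (P.coeff i : ℂ) * (z χ : ℂ) ^ i := by
      intro χ
      have hP : P.eval (z χ : ℚ) = if (3 : ℤ) ∣ z χ then 1 else 0 :=
        Lagrange.eval_interpolate_at_node _ (fun x _ y _ hxy => Int.cast_injective hxy)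
          (Finset.mem_image_of_mem _ (Finset.mem_univ χ))
      rw [Polynomial.eval_eq_sum_range] at hP
      have := congrArg (fun x : ℚ => (x : ℂ)) hP
      split_ifs at this ⊢ <;> simpa using this.symm
    rw [hS0, Complex.ofReal_sum]
    push_cast
    simp only [hsum, Finset.mul_sum]
    rw [Finset.sum_comm]
    refine Finset.sum_congr rfl fun χ _ => ?_
    rw [Finset.sum_congr rfl (g := fun i => (B χ : ℂ) * ((P.coeff i : ℂ) * (z χ : ℂ) ^ i))
      fun i _ => by ring, ← Finset.mul_sum, ← hev]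
    split_ifs <;> simp
  have hq0 : (q : ℂ) ≠ 0 := by rw [hb]; exact Nat.cast_ne_zero.mpr (pow_ne_zero _ (by norm_num))
  have hYr : Y = ((r / (3 * q) : ℚ) : ℂ) := by
    push_cast
    rw [← hr, hSY]
    field_simp
  obtain ⟨k, hk⟩ := Char.exists_int_of_isIntegral_rat (hYr ▸ hYint)
  have hSk : S0 = 3 * (q : ℝ) * k := by
    have : (S0 : ℂ) = 3 * (q : ℂ) * (k : ℂ) := by rw [hSY, hYr, hk]; simp
    exact_mod_cast this
  have hB0 : ∀ χ, 0 ≤ B χ := fun χ => Complex.normSq_nonneg _
  have htot : ∑ χ, B χ = 2 * (q : ℝ) := by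
    have := hsum 0
    simp only [pow_zero, mul_one, iter, if_pos (IsConj.refl (u * t)), Int.cast_one] at this
    exact_mod_cast this.symm
  have hle : S0 ≤ 2 * (q : ℝ) := htot ▸ Finset.sum_le_sum fun χ _ => by
    split_ifs
    exacts [le_rfl, hB0 χ]
  have hmem : B χ₀ ≤ S0 := by
    refine le_trans (le_of_eq ?_) (Finset.single_le_sum (f := fun χ => if (3 : ℤ) ∣ z χ then B χ
      else 0) (fun χ _ => by split_ifs; exacts [hB0 χ, le_rfl]) (Finset.mem_univ χ₀))
    simp [hz0, hdvd]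
  have hpos : 0 < B χ₀ := Complex.normSq_pos.mpr hne
  have hq : (0 : ℝ) < q := by rw [hb]; positivity
  have hk1 : (1 : ℤ) ≤ k := by
    by_contra hcon
    have : (k : ℝ) ≤ 0 := by exact_mod_cast (by omega : k ≤ 0)
    nlinarith
  have : (1 : ℝ) ≤ (k : ℝ) := by exact_mod_cast hk1
  nlinarith

end CfsgLib.ReeTypeSThree
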