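import Cfsg.Prelude.Def_Characters

/-!
Interface for the proof that a group of Ree type involves `S₃` (`notes/s2755_ree_branch.md`):
the class functions of the linear group `L`, the data in `G`, and the counting congruence.
-/

set_option autoImplicit false
set_option linter.style.haveILetI false

namespace CfsgLib.ReeTypeSThree

open Cfsg

universe u v

section LinearGroup

variable {L : Type v} [Group L] [Fintype L]

/-- The class function induced from a linear character of a subgroup. -/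
noncomputable def indLin (T : Subgroup L) (z : T →* ℂˣ) : L → ℂ :=
  indFun T fun g => (z g : ℂ)

/-- The facts about `L = PSL₂(q)`, `q = 3^(odd)`, used in the character argument: `R` is induced
from `ω + ω⁻¹` on the Sylow 3-subgroup, `I i` from the linear characters of the Borel subgroup, and
`indLin T z` from the cyclic subgroup of order `m = (q + 1)/4`. -/
structure LData (L : Type v) [Group L] [Fintype L] (q m : ℕ) where
  T : Subgroup L
  card_T : Nat.card T = m
  cyclic_T : IsCyclic T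
  u : L
  orderOf_u : orderOf u = 3
  R : L → ℂ
  I : Fin ((q - 1) / 2) → L → ℂ
  i₀ : Fin ((q - 1) / 2)
  gen_R : IsGeneralizedCharacter L R
  gen_I : ∀ i, IsGeneralizedCharacter L (I i)
  supp_R : ∀ g, R g ≠ 0 → Odd (orderOf g)
  supp_I : ∀ i g, I i g ≠ 0 → Odd (orderOf g)
  supp_Y : ∀ (z : T →* ℂˣ) (g : L), indLin T z g ≠ 0 → Odd (orderOf g)
  real_R : ∀ g, (starRingEnd ℂ) (R g) = R g
  real_Y : ∀ (z : T →* ℂˣ) (g : L), (starRingEnd ℂ) (indLin T z g) = indLin T z g
  R_one : R 1 = (q : ℂ) ^ 2 - 1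
  R_u : R u = -1
  R_u_inv : R u⁻¹ = -1
  Y_one : ∀ z : T →* ℂˣ, indLin T z 1 = 2 * (q : ℂ) * ((q : ℂ) - 1)
  Y_u : ∀ z : T →* ℂˣ, indLin T z u = 0
  Y_u_inv : ∀ z : T →* ℂˣ, indLin T z u⁻¹ = 0
  inner_RR : classInner R R = 2 * (q : ℂ)
  inner_RY : ∀ z : T →* ℂˣ, classInner R (indLin T z) = 4 * ((q : ℂ) - 1)
  inner_YY : ∀ z w : T →* ℂˣ, classInner (indLin T z) (indLin T w) =
    8 * ((q : ℂ) - 2) + 2 * (open Classical in if w = z then 1 else 0) +
      2 * (open Classical in if w = z⁻¹ then 1 else 0)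
  inner_RI : ∀ i, classInner R (I i) = 2
  inner_YI : ∀ (z : T →* ℂˣ) i, classInner (indLin T z) (I i) = 4
  inner_II₀ : classInner (I i₀) (I i₀) = 2
  inner_II : ∀ i, i ≠ i₀ → classInner (I i) (I i) = 1
  inner_one_I₀ : classInner (fun _ => 1) (I i₀) = 1
  inner_f_R : ∀ f : L → ℂ, IsClassFunction L f →
    classInner f R = (2 * f 1 - (f u + f u⁻¹)) / (q : ℂ)
  inner_f_I : ∀ f : L → ℂ, IsClassFunction L f →
    ∑ i, classInner f (I i) = (f 1 + ((q : ℂ) - 1) / 2 * (f u + f u⁻¹)) / (q : ℂ)

end LinearGroup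

/-- The data in `G`: `C(t) = ⟨t⟩ × L`, the index of `C(t)` is prime to three and some element `y`
normalises `T`, acting on it fixed-point-freely with order three. -/
structure GData (G : Type u) [Group G] {L : Type v} [Group L] [Fintype L] {q m : ℕ}
    (D : LData L q m) where
  q_eq : q + 1 = 4 * m
  odd_m : Odd m
  le_q : 27 ≤ q
  three_dvd : 3 ∣ q
  emb : L →* G
  inj : Function.Injective emb
  t : G
  orderOf_t : orderOf t = 2
  comm : ∀ l, Commute t (emb l)
  not_mem : t ∉ emb.range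
  cent : ∀ c : G, Commute c t → ∃ l, c = emb l ∨ c = t * emb l
  index_three : ¬ 3 ∣ (Subgroup.centralizer ({t} : Set G)).index
  y : G
  act : MulAut D.T
  y_act : ∀ g : D.T, y * emb g * y⁻¹ = emb (act g)
  act_fix : ∀ g : D.T, act g = g → g = 1
  act_cube : act ^ 3 = 1

/-- The conclusion of the counting congruence: a character not vanishing at `a` has a central
character value at `t` which is not divisible by three. -/
def NoBadRow {G : Type u} [Group G] (t a : G) : Prop :=
  ∀ χ : IrrCharacter G, (χ : G → ℂ) a ≠ 0 → ∀ n : ℤ,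
    ((Subgroup.centralizer ({t} : Set G)).index : ℂ) * (χ : G → ℂ) t = (n : ℂ) * (χ : G → ℂ) 1 →
      ¬ (3 : ℤ) ∣ n

/-- The hypotheses of the counting congruence for `a = u * t`. -/
structure CountHyp {G : Type u} [Group G] (t u : G) (q : ℕ) (W : Subgroup G) : Prop where
  orderOf_t : orderOf t = 2
  orderOf_u : orderOf u = 3
  comm : Commute u t
  three_dvd : 3 ∣ q
  q_pow : ∃ a, q = 3 ^ a
  card_cent : Nat.card (Subgroup.centralizer ({u * t} : Set G)) = 2 * q
  le_cent : ∀ w ∈ W, Commute w u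
  inv : ∀ w ∈ W, t * w * t⁻¹ = w⁻¹
  card_W : ¬ 3 ∣ Nat.card W
  invol : ∀ s : G, (IsConj t s ∧ Commute s u) ↔ ∃ w ∈ W, s = w * t
  coset : ∀ w ∈ W, IsConj (u * t) (w * (u * t))

end CfsgLib.ReeTypeSThree
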