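import Mathlib.Data.Complex.Basic
import Mathlib.LinearAlgebra.Matrix.NonsingularInverse
import Mathlib.Tactic.FinCases
import Mathlib.Tactic.Ring
import Mathlib.Tactic.LinearCombination

/-!
Three pairwise orthogonal integer vectors of norm four, orthogonal to a positive vector and congruent
modulo two, live on four common rows with entries `±1` and complete a `4 × 4` orthogonal sign matrix.
-/

set_option autoImplicit false

namespace CfsgLib.ReeTypeSThree

universe w

variable {ι : Type w} [Fintype ι]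

private theorem entry_small (a : ι → ℤ) (n : ι → ℕ) (hn : ∀ i, 0 < n i)
    (hnorm : ∑ i, a i ^ 2 = 4) (hdeg : ∑ i, a i * (n i : ℤ) = 0) (i : ι) :
    a i = 0 ∨ a i = 1 ∨ a i = -1 := by
  classical
  have h1 : ∑ j ∈ Finset.univ.erase i, a j ^ 2 = 4 - a i ^ 2 := by
    rw [← hnorm, ← Finset.add_sum_erase _ _ (Finset.mem_univ i)]; ring
  have h0 : 0 ≤ ∑ j ∈ Finset.univ.erase i, a j ^ 2 := Finset.sum_nonneg fun j _ => sq_nonneg _
  have hb : -2 ≤ a i ∧ a i ≤ 2 := by constructor <;> nlinarith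
  by_contra hc
  have h2 : a i = 2 ∨ a i = -2 := by omega
  have h4 : a i ^ 2 = 4 := by rcases h2 with h | h <;> simp [h]
  have hz : ∀ j ∈ Finset.univ.erase i, a j = 0 := fun j hj =>
    sq_eq_zero_iff.mp <| (Finset.sum_eq_zero_iff_of_nonneg (f := fun j => a j ^ 2)
      fun j _ => sq_nonneg _).mp (by rw [h1, h4, sub_self]) j hj
  have h3 : a i * (n i : ℤ) = 0 := by
    rw [← hdeg]
    exact (Finset.sum_eq_single i (f := fun j => a j * (n j : ℤ)) (fun j _ hj => by
      simp [hz j (Finset.mem_erase.mpr ⟨hj, Finset.mem_univ j⟩)]) (by simp)).symm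
  rcases mul_eq_zero.mp h3 with h | h
  · rcases h2 with h2 | h2 <;> omega
  · have := hn i; omega

/-- The four rows of three orthogonal vectors of norm four. -/
theorem exists_rows (a : Fin 3 → ι → ℤ) (n : ι → ℕ) (hn : ∀ i, 0 < n i)
    (hnorm : ∀ k, ∑ i, a k i ^ 2 = 4) (horth : ∀ k l, k ≠ l → ∑ i, a k i * a l i = 0)
    (hdeg : ∀ k, ∑ i, a k i * (n i : ℤ) = 0) (hpar : ∀ k i, (2 : ℤ) ∣ a k i - a 0 i) :
    ∃ S : Finset ι, S.card = 4 ∧ (∀ k, ∀ i, i ∉ S → a k i = 0) ∧
      (∀ k, ∀ i ∈ S, a k i = 1 ∨ a k i = -1) ∧ (∀ i ∈ S, ∀ j ∈ S, n i = n j) ∧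
      (∀ k, ∑ i ∈ S, a k i = 0) ∧
      (∀ i ∈ S, ∀ j ∈ S, (∀ k, a k i = a k j) → i = j) ∧
      (∀ v : ι → ℂ, ∀ i ∈ S,
        4 * v i = ∑ k, (a k i : ℂ) * ∑ j, (a k j : ℂ) * v j + ∑ j ∈ S, v j) ∧
      ∃ i₀ ∈ S, ∃ i₁ ∈ S, ∃ ε : ℤ, (ε = 1 ∨ ε = -1) ∧
        ∑ k, a k i₀ = 3 * ε ∧ ∑ k, a k i₁ = -ε := by
  classical
  have hsmall : ∀ k i, a k i = 0 ∨ a k i = 1 ∨ a k i = -1 := fun k i =>
    entry_small (a k) n hn (hnorm k) (hdeg k) i
  let S : Finset ι := Finset.univ.filter fun i => a 0 i ≠ 0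
  have hS : ∀ k i, i ∈ S ↔ a k i ≠ 0 := by
    intro k i
    have := hpar k i
    rcases hsmall k i with h | h | h <;> rcases hsmall 0 i with h' | h' | h' <;>
      simp [S, h, h'] at this ⊢
  have hout : ∀ k, ∀ i, i ∉ S → a k i = 0 := fun k i hi => by
    by_contra h
    exact hi ((hS k i).mpr h)
  have hin : ∀ k, ∀ i ∈ S, a k i = 1 ∨ a k i = -1 := fun k i hi =>
    (hsmall k i).resolve_left ((hS k i).mp hi)
  have hsq : ∀ k, ∀ i ∈ S, a k i * a k i = 1 := fun k i hi => by
    rcases hin k i hi with h | h <;> simp [h]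
  have hcard : S.card = 4 := by
    have h := hnorm 0
    rw [← Finset.sum_subset (Finset.subset_univ S)
      (fun i _ hi => by rw [hout 0 i hi]; simp)] at h
    rw [Finset.sum_congr rfl (fun i hi => (sq (a 0 i)).trans (hsq 0 i hi))] at h
    have h' : (S.card : ℤ) = 4 := by simpa using h
    exact_mod_cast h'
  have hrestrict : ∀ (k : Fin 3) (v : ι → ℤ), ∑ i ∈ S, a k i * v i = ∑ i, a k i * v i := fun k v =>
    Finset.sum_subset (Finset.subset_univ S) fun i _ hi => by rw [hout k i hi, zero_mul]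
  let w : ι → ℤ := fun i => a 0 i * a 1 i * a 2 i
  let b : Fin 4 → ι → ℤ := ![a 0, a 1, a 2, w]
  have hw1 : ∀ i ∈ S, w i * w i = 1 := fun i hi => by
    rw [show w i * w i = a 0 i * a 0 i * (a 1 i * a 1 i) * (a 2 i * a 2 i) by simp only [w]; ring,
      hsq 0 i hi, hsq 1 i hi, hsq 2 i hi]
    norm_num
  have horth' : ∀ k l, k ≠ l → ∑ i ∈ S, a k i * a l i = 0 := fun k l hkl => by
    rw [hrestrict k (a l)]; exact horth k l hkl
  have hrow : ∀ p q : Fin 4, ∑ i ∈ S, b p i * b q i = if p = q then 4 else 0 := by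
    have hk : ∀ k, ∑ i ∈ S, a k i * a k i = 4 := fun k => by
      rw [Finset.sum_congr rfl (hsq k)]; simp [hcard]
    have hw : ∑ i ∈ S, w i * w i = 4 := by rw [Finset.sum_congr rfl hw1]; simp [hcard]
    have hkw : ∀ k l m : Fin 3, (∀ i, w i = a k i * (a l i * a m i)) → l ≠ m →
        ∑ i ∈ S, a k i * w i = 0 := fun k l m e hlm => by
      rw [← horth' l m hlm]
      refine Finset.sum_congr rfl fun i hi => ?_
      rw [e i, ← mul_assoc, hsq k i hi, one_mul]
    have h0w := hkw 0 1 2 (fun i => by simp only [w]; ring) (by decide)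
    have h1w := hkw 1 0 2 (fun i => by simp only [w]; ring) (by decide)
    have h2w := hkw 2 0 1 (fun i => by simp only [w]; ring) (by decide)
    have c : ∀ u v : ι → ℤ, ∑ i ∈ S, u i * v i = ∑ i ∈ S, v i * u i := fun u v =>
      Finset.sum_congr rfl fun i _ => mul_comm _ _
    have h01 := horth' 0 1 (by decide)
    have h02 := horth' 0 2 (by decide)
    have h12 := horth' 1 2 (by decide)
    intro p q
    fin_cases p <;> fin_cases q <;>
      simp [b, hk, hw, h0w, h1w, h2w, h01, h02, h12, c w (a 0), c w (a 1), c w (a 2), c (a 1) (a 0),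
        c (a 2) (a 0), c (a 2) (a 1)]
  have hcol : ∀ i ∈ S, ∀ j ∈ S, ∑ k, a k i * a k j + w i * w j = if i = j then 4 else 0 := by
    intro i hi j hj
    let M : Matrix (Fin 4) S ℚ := Matrix.of fun p x => (b p x.1 : ℚ)
    have e : Fin 4 ≃ S := (Finset.equivFinOfCardEq hcard).symm
    have h1 : M * ((4 : ℚ)⁻¹ • M.transpose) = 1 := by
      ext p q
      have h := congrArg (fun x : ℤ => (x : ℚ)) (hrow p q)
      rw [← Finset.sum_coe_sort S] at h
      simp only [M, Matrix.mul_apply, Matrix.smul_apply, Matrix.transpose_apply, Matrix.of_apply,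
        smul_eq_mul, Matrix.one_apply]
      push_cast at h
      rw [Finset.sum_congr rfl (fun x _ => mul_left_comm _ _ _), ← Finset.mul_sum, h]
      split_ifs <;> norm_num
    have h2 := congrFun₂ ((Matrix.mul_eq_one_comm_of_equiv e).mp h1) ⟨i, hi⟩ ⟨j, hj⟩
    simp only [M, Matrix.mul_apply, Matrix.smul_apply, Matrix.transpose_apply, Matrix.of_apply,
      smul_eq_mul, Matrix.one_apply, Subtype.mk.injEq] at h2
    have h3 : ((∑ k, a k i * a k j + w i * w j : ℤ) : ℚ) = ((if i = j then 4 else 0 : ℤ) : ℚ) := by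
      push_cast
      simp only [b, Fin.sum_univ_four, Matrix.cons_val_zero, Matrix.cons_val_one, Matrix.cons_val,
        Fin.sum_univ_three] at h2 ⊢
      split_ifs with h <;> simp [h] at h2 ⊢ <;> linear_combination 4 * h2
    exact_mod_cast h3
  -- the product of the three entries is constant
  have hn4 : ∀ i ∈ S, 4 * (n i : ℤ) = w i * ∑ j ∈ S, w j * (n j : ℤ) := by
    intro i hi
    have : ∑ j ∈ S, (∑ k, a k i * a k j + w i * w j) * (n j : ℤ) = 4 * (n i : ℤ) := by
      rw [Finset.sum_congr rfl (fun j hj => by rw [hcol i hi j hj])]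
      simp [hi]
    rw [← this]
    simp only [add_mul, Finset.sum_add_distrib, Finset.sum_mul, mul_assoc, Finset.mul_sum]
    rw [Finset.sum_comm]
    simp only [← Finset.mul_sum]
    simp only [hrestrict _ (fun j => (n j : ℤ)), hdeg, mul_zero, Finset.sum_const_zero, zero_add]
  have hconst : ∀ i ∈ S, ∀ j ∈ S, w i * w j = 1 := by
    intro i hi j hj
    have h : 0 < (4 * (n i : ℤ)) * (4 * (n j : ℤ)) := by
      have := hn i; have := hn j; positivity
    rw [hn4 i hi, hn4 j hj] at h
    have hw : w i * w j = 1 ∨ w i * w j = -1 := sq_eq_one_iff.mp (by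
      rw [show (w i * w j) ^ 2 = (w i * w i) * (w j * w j) by ring, hw1 i hi, hw1 j hj, one_mul])
    refine hw.resolve_right fun hneg => ?_
    nlinarith [sq_nonneg (∑ j ∈ S, w j * (n j : ℤ))]
  have hcol' : ∀ i ∈ S, ∀ j ∈ S, ∑ k, a k i * a k j + 1 = if i = j then 4 else 0 := fun i hi j hj => by
    rw [← hcol i hi j hj, hconst i hi j hj]
  have hne : ∀ i ∈ S, ∀ j ∈ S, n i = n j := fun i hi j hj => by
    have h1 := hn4 i hi
    have h2 := hn4 j hj
    have h3 : w i = w j := by
      rw [← mul_one (w i), ← hw1 j hj, ← mul_assoc, hconst i hi j hj, one_mul]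
    rw [h3] at h1
    omega
  have hinj : ∀ i ∈ S, ∀ j ∈ S, (∀ k, a k i = a k j) → i = j := by
    intro i hi j hj h
    by_contra hij
    have h1 := hcol' i hi j hj
    rw [if_neg hij, Finset.sum_congr rfl (fun k _ => by rw [h k, hsq k j hj])] at h1
    simp at h1
  obtain ⟨x, hx⟩ : S.Nonempty := Finset.card_pos.mp (by omega)
  have hsum0 : ∀ k, ∑ i ∈ S, a k i = 0 := by
    intro k
    have h := hdeg k
    rw [← hrestrict k, Finset.sum_congr rfl (fun i hi => by rw [hne i hi x hx]),
      ← Finset.sum_mul] at h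
    exact (mul_eq_zero.mp h).resolve_right (by have := hn x; omega)
  refine ⟨S, hcard, hout, hin, hne, hsum0, hinj, fun v i hi => ?_, ?_⟩
  · have h : ∑ j ∈ S, ((∑ k, a k i * a k j + 1 : ℤ) : ℂ) * v j = 4 * v i := by
      rw [Finset.sum_congr rfl (fun j hj => by rw [hcol' i hi j hj])]
      simp [hi]
    rw [← h]
    push_cast
    simp only [add_mul, one_mul, Finset.sum_add_distrib, Finset.sum_mul, mul_assoc, Finset.mul_sum]
    rw [Finset.sum_comm]
    congr 1
    refine Finset.sum_congr rfl fun k _ => Finset.sum_subset (Finset.subset_univ S) fun j _ hj => ?_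
    simp [hout k j hj]
  -- the row with three equal entries
  have hprod : ∀ i ∈ S, a 2 i * w x = a 0 i * a 1 i := by
    intro i hi
    have : w i = w x := by
      rw [← mul_one (w i), ← hw1 x hx, ← mul_assoc, hconst i hi x hx, one_mul]
    rw [← this]
    linear_combination (a 0 i * a 1 i) * hsq 2 i hi
  have hwx : w x = 1 ∨ w x = -1 := sq_eq_one_iff.mp ((sq (w x)).trans (hw1 x hx))
  let f : S → Bool × Bool := fun i => (decide (a 0 i = w x), decide (a 1 i = w x))
  have hf : Function.Bijective f := by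
    refine (Fintype.bijective_iff_injective_and_card f).mpr ⟨fun i j h => ?_, ?_⟩
    · simp only [f, Prod.mk.injEq, decide_eq_decide] at h
      have e0 : a 0 i = a 0 j := by
        rcases hin 0 i i.2 with p | p <;> rcases hin 0 j j.2 with q | q <;>
          rcases hwx with r | r <;> simp [p, q, r] at h ⊢
      have e1 : a 1 i = a 1 j := by
        rcases hin 1 i i.2 with p | p <;> rcases hin 1 j j.2 with q | q <;>
          rcases hwx with r | r <;> simp [p, q, r] at h ⊢
      have e2 : a 2 i = a 2 j := by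
        have p := hprod i i.2
        have q := hprod j j.2
        rw [e0, e1, ← q] at p
        exact mul_right_cancel₀ (by rcases hwx with r | r <;> simp [r]) p
      refine Subtype.ext (hinj i i.2 j j.2 fun k => ?_)
      fin_cases k <;> assumption
    · simp [hcard]
  obtain ⟨⟨i₀, hi₀⟩, hfi⟩ := hf.2 (true, true)
  obtain ⟨i₁, hi₁, hne₁⟩ := Finset.exists_mem_ne (by omega : 1 < S.card) i₀
  simp only [f, Prod.mk.injEq, decide_eq_true_eq] at hfi
  have he2 : a 2 i₀ = w x := by
    have h := hprod i₀ hi₀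
    rw [hfi.1, hfi.2] at h
    exact mul_right_cancel₀ (by rcases hwx with r | r <;> simp [r]) h
  refine ⟨i₀, hi₀, i₁, hi₁, w x, hwx, ?_, ?_⟩
  · rw [Fin.sum_univ_three, hfi.1, hfi.2, he2]; ring
  · have h := hcol' i₀ hi₀ i₁ hi₁
    rw [if_neg (Ne.symm hne₁), Fin.sum_univ_three, hfi.1, hfi.2, he2] at h
    rw [Fin.sum_univ_three]
    rcases hwx with r | r <;> rw [r] at h ⊢ <;> linarith

end CfsgLib.ReeTypeSThree
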