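import Cfsg.Agent.Lib.ReeTypeSThree.Pairing
import Cfsg.Agent.Lib.ReeTypeSThree.Rows
import Cfsg.Agent.Lib.Char.Central
import Cfsg.Agent.Lib.Char.Counting

/-!
The character argument for a group of Ree type: some character not vanishing at `u t` has a central
character value at `t` divisible by three, against the counting congruence.
-/

set_option autoImplicit false
set_option linter.style.haveILetI false
set_option linter.unusedSectionVars false

namespace CfsgLib.ReeTypeSThree

open Cfsg CfsgLib.Char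
open scoped ComplexConjugate

universe u v

variable {L : Type v} [Group L] [Fintype L] {q m : ℕ} (D : LData L q m)

/-- The function `2 R - Y_z`. -/
noncomputable def Phi (z : D.T →* ℂˣ) : L → ℂ := (2 : ℂ) • D.R - indLin D.T z

theorem adm_R : Adm D.R := ⟨D.gen_R, D.supp_R⟩

theorem adm_I (i : Fin ((q - 1) / 2)) : Adm (D.I i) := ⟨D.gen_I i, D.supp_I i⟩

theorem adm_Y (z : D.T →* ℂˣ) : Adm (indLin D.T z) :=
  ⟨isGeneralized_indFun D.T (isGeneralized_of_isCharacter (isCharacter_monoidHom z)), D.supp_Y z⟩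

theorem adm_Phi (z : D.T →* ℂˣ) : Adm (Phi D z) := by
  refine ⟨?_, fun g hg => ?_⟩
  · have h := isGeneralized_sub (isGeneralized_intCast_smul D.gen_R 2) (adm_Y D z).gen
    simpa [Phi] using h
  · by_contra h
    refine hg ?_
    have h1 : D.R g = 0 := by_contra fun e => h (D.supp_R g e)
    have h2 : indLin D.T z g = 0 := by_contra fun e => h (D.supp_Y z g e)
    simp [Phi, h1, h2]

theorem inner_left_Phi (f : L → ℂ) (z : D.T →* ℂˣ) :
    classInner f (Phi D z) = 2 * classInner f D.R - classInner f (indLin D.T z) := by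
  rw [Phi, classInner_sub_right, classInner_smul_right, map_ofNat]

theorem inner_Phi_Phi (z w : D.T →* ℂˣ) : classInner (Phi D z) (Phi D w) =
    2 * (open Classical in if w = z then 1 else 0) +
      2 * (open Classical in if w = z⁻¹ then 1 else 0) := by
  have hYR : classInner (indLin D.T z) D.R = 4 * ((q : ℂ) - 1) := by
    rw [← classInner_conj_symm, D.inner_RY, map_mul, map_sub, map_natCast, map_one, map_ofNat]
  rw [Phi, Phi, classInner_sub_left, classInner_sub_right, classInner_sub_right,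
    classInner_smul_left, classInner_smul_left, classInner_smul_right, classInner_smul_right,
    D.inner_RR, D.inner_RY, D.inner_YY, hYR, map_ofNat]
  split_ifs <;> ring

theorem hom_inv_inv (z : D.T →* ℂˣ) : z⁻¹⁻¹ = z := MonoidHom.ext fun g => inv_inv (z g)

theorem hom_inv_one : (1 : D.T →* ℂˣ)⁻¹ = 1 := MonoidHom.ext fun _ => inv_one

theorem inner_I_Phi (i : Fin ((q - 1) / 2)) (z : D.T →* ℂˣ) :
    classInner (D.I i) (Phi D z) = 0 := by
  rw [← classInner_conj_symm, Phi, classInner_sub_left, classInner_smul_left, D.inner_RI,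
    D.inner_YI]
  norm_num

theorem Phi_inv (z : D.T →* ℂˣ) : Phi D z⁻¹ = Phi D z := by
  classical
  refine sub_eq_zero.mp (eq_zero_of_classInner_self ?_)
  rw [classInner_sub_left, classInner_sub_right, classInner_sub_right, inner_Phi_Phi, inner_Phi_Phi,
    inner_Phi_Phi, inner_Phi_Phi]
  rw [hom_inv_inv]
  by_cases h : z⁻¹ = z
  · simp [h]
  · simp [h, Ne.symm h]

theorem Phi_one (z : D.T →* ℂˣ) : Phi D z 1 = 2 * ((q : ℂ) - 1) := by
  simp only [Phi, Pi.sub_apply, Pi.smul_apply, smul_eq_mul, D.R_one, D.Y_one]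
  ring

theorem Phi_u (z : D.T →* ℂˣ) : Phi D z D.u = -2 := by
  simp [Phi, D.R_u, D.Y_u]

theorem Phi_real (z : D.T →* ℂˣ) (g : L) : conj (Phi D z g) = Phi D z g := by
  simp only [Phi, Pi.sub_apply, Pi.smul_apply, smul_eq_mul, map_sub, map_mul, map_ofNat, D.real_R,
    D.real_Y]

theorem mul_comm_T (a b : D.T) : a * b = b * a :=
  haveI := D.cyclic_T
  (IsCyclic.commGroup (α := D.T)).mul_comm a b

/-- The linear characters of `T` sum to the regular character. -/
theorem sum_hom_T [Fintype (D.T →* ℂˣ)] (a : D.T) :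
    ∑ ψ : D.T →* ℂˣ, ((ψ a : ℂˣ) : ℂ) = open Classical in if a = 1 then (m : ℂ) else 0 := by
  classical
  have hcard : Nat.card (D.T →* ℂˣ) = m := by
    let _ : CommGroup D.T := { (inferInstance : Group D.T) with mul_comm := mul_comm_T D }
    exact (card_hom_units D.T).trans D.card_T
  split_ifs with h
  · subst h
    simp [← hcard, Nat.card_eq_fintype_card]
  · let _ : CommGroup D.T := { (inferInstance : Group D.T) with mul_comm := mul_comm_T D }
    haveI : NeZero (Monoid.exponent D.T) := ⟨Monoid.exponent_ne_zero_of_finite⟩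
    obtain ⟨f, hf⟩ := CommGroup.exists_apply_ne_one_of_hasEnoughRootsOfUnity D.T ℂ h
    have hmul : ((f a : ℂˣ) : ℂ) * ∑ ψ : D.T →* ℂˣ, ((ψ a : ℂˣ) : ℂ) =
        ∑ ψ : D.T →* ℂˣ, ((ψ a : ℂˣ) : ℂ) := by
      rw [Finset.mul_sum]
      exact Fintype.sum_equiv (Equiv.mulLeft f) _ _ fun ψ => by simp
    by_contra hne
    exact hf (Units.ext (mul_right_cancel₀ hne (hmul.trans (one_mul _).symm)))

variable {G : Type u} [Group G] [Fintype G] (X : GData G D)

/-- `z` moved `k` times by the automorphism. -/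
def shift (z : D.T →* ℂˣ) (k : ℕ) : D.T →* ℂˣ := z.comp (X.act ^ k).toMonoidHom

theorem shift_succ (z : D.T →* ℂˣ) (k : ℕ) :
    (shift D X z k).comp X.act.toMonoidHom = shift D X z (k + 1) := by
  ext g
  simp [shift, pow_succ]

theorem shift_mod (z : D.T →* ℂˣ) (k : ℕ) : shift D X z k = shift D X z (k % 3) := by
  rw [shift, shift]
  conv_lhs => rw [← Nat.div_add_mod k 3, pow_add, pow_mul, X.act_cube, one_pow, one_mul]

theorem shift_zero (z : D.T →* ℂˣ) : shift D X z 0 = z := by
  ext g; simp [shift]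

theorem shift_ne_one {z : D.T →* ℂˣ} (hz : z ≠ 1) (k : ℕ) : shift D X z k ≠ 1 := fun h =>
  hz (MonoidHom.ext fun g => by
    simpa [shift] using DFunLike.congr_fun h ((X.act ^ k).symm g))

theorem eq_one_of_comp_act {w : D.T →* ℂˣ} (h : w.comp X.act.toMonoidHom = w) : w = 1 := by
  let f : D.T → D.T := fun a => X.act a * a⁻¹
  have hinj : Function.Injective f := fun a b e => by
    have e' : X.act a * a⁻¹ = X.act b * b⁻¹ := e
    rw [mul_inv_eq_iff_eq_mul] at e'
    have h1 : X.act (b⁻¹ * a) = b⁻¹ * a := by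
      rw [map_mul, map_inv, e', ← mul_assoc, ← mul_assoc, inv_mul_cancel, one_mul]
    exact (inv_mul_eq_one.mp (X.act_fix _ h1)).symm
  ext a
  obtain ⟨b, rfl⟩ := (Finite.injective_iff_surjective.mp hinj) a
  have h1 : w (X.act b) = w b := DFunLike.congr_fun h b
  simp [f, h1]

theorem comp_act_ne {w : D.T →* ℂˣ} (hw : w ≠ 1) :
    w.comp X.act.toMonoidHom ≠ w ∧ w.comp X.act.toMonoidHom ≠ w⁻¹ := by
  refine ⟨fun h => hw (eq_one_of_comp_act D X h), fun h => hw (eq_one_of_comp_act D X ?_)⟩
  have h2 : ∀ g, w (X.act g) = (w g)⁻¹ := fun g => DFunLike.congr_fun h g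
  ext g
  have h3 : X.act (X.act (X.act g)) = g := by
    have := DFunLike.congr_fun X.act_cube g
    simpa [pow_succ] using this
  have h4 : w g = w (X.act g) := by
    conv_lhs => rw [← h3, h2, h2, inv_inv]
  simp [← h4]

/-- The coefficients of `Phi z` and of `Phi (z ∘ act)` are congruent modulo two. -/
theorem coef_parity {χ : G → ℂ} (hχ : IsCharacter G χ) (z : D.T →* ℂˣ) :
    ∃ k : ℤ, classInner (beta X χ) (Phi D (z.comp X.act.toMonoidHom)) -
      classInner (beta X χ) (Phi D z) = 2 * (k : ℂ) := by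
  classical
  obtain ⟨n, hn⟩ := exists_int_add X hχ (adm_Y D z).gen
  obtain ⟨n', hn'⟩ := exists_int_add X hχ (adm_Y D (z.comp X.act.toMonoidHom)).gen
  have hN : classInner (fun l => χ (X.emb l)) (indLin D.T (z.comp X.act.toMonoidHom)) =
      classInner (fun l => χ (X.emb l)) (indLin D.T z) := by
    have hc := isClassFunction_of_isCharacter hχ
    rw [indLin, indLin, frobenius_reciprocity' _ _ (isClassFunction_comp X.emb hc),
      frobenius_reciprocity' _ _ (isClassFunction_comp X.emb hc)]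
    simp only [classInner]
    congr 1
    rw [← Equiv.sum_comp X.act.toEquiv (fun g : D.T => χ (X.emb g) * conj (z g : ℂ))]
    refine Finset.sum_congr rfl fun g _ => ?_
    show χ (X.emb g) * conj (z (X.act g) : ℂ) = χ (X.emb (X.act g : L)) * conj (z (X.act g) : ℂ)
    rw [← X.y_act g, hc]
  refine ⟨n - n', ?_⟩
  rw [inner_left_Phi, inner_left_Phi]
  push_cast
  linear_combination hn - hn' + hN

/-- **The character argument.** -/
theorem endgame (hB : NoBadRow X.t (X.emb D.u * X.t)) : False := by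
  classical
  have hq := X.q_eq
  have hqle := X.le_q
  have hm1 : 1 < m := by omega
  have hT1 : (1 : ℕ) < Nat.card D.T := by rw [D.card_T]; exact hm1
  have hhom : Nat.card (D.T →* ℂˣ) = m := by
    let _ : CommGroup D.T := { (inferInstance : Group D.T) with mul_comm := mul_comm_T D }
    exact (card_hom_units D.T).trans D.card_T
  haveI : Finite (D.T →* ℂˣ) := Nat.finite_of_card_ne_zero (by omega)
  haveI : Fintype (D.T →* ℂˣ) := Fintype.ofFinite _
  obtain ⟨z, hz⟩ : ∃ z : D.T →* ℂˣ, z ≠ 1 := by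
    haveI : Nontrivial (D.T →* ℂˣ) := Finite.one_lt_card_iff_nontrivial.mp (by omega)
    exact exists_ne 1
  have hinvne : ∀ w : D.T →* ℂˣ, w ≠ 1 → w ≠ w⁻¹ := fun w hw h => by
    refine hw (MonoidHom.ext fun g => ?_)
    have h2 : w g ^ 2 = 1 := by
      rw [sq]; nth_rewrite 1 [h]; simp
    have h3 : w g ^ m = 1 := by
      have e := congrArg w (pow_card_eq_one' (x := g))
      rwa [map_pow, map_one, D.card_T] at e
    have hg := Nat.coprime_two_left.mpr X.odd_m
    exact (orderOf_eq_one_iff.mp <| Nat.eq_one_of_dvd_coprimes hg (orderOf_dvd_of_pow_eq_one h2)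
      (orderOf_dvd_of_pow_eq_one h3))
  have horder1 : Odd (orderOf (1 : L)) := by simp
  have horderu : Odd (orderOf D.u) := by rw [D.orderOf_u]; decide
  -- the three columns
  let zk : Fin 3 → (D.T →* ℂˣ) := fun k => shift D X z k
  have hzk : ∀ k, zk k ≠ 1 := fun k => shift_ne_one D X hz k
  have hsep : ∀ k l : Fin 3, k ≠ l → zk l ≠ zk k ∧ zk l ≠ (zk k)⁻¹ := by
    have hstep : ∀ k : ℕ, shift D X z (k + 1) ≠ shift D X z k ∧
        shift D X z (k + 1) ≠ (shift D X z k)⁻¹ := fun k => by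
      rw [← shift_succ]; exact comp_act_ne D X (shift_ne_one D X hz k)
    have h20 := hstep 2
    rw [shift_mod D X z (2 + 1)] at h20
    have hsymm : ∀ a b : D.T →* ℂˣ, a ≠ b ∧ a ≠ b⁻¹ → b ≠ a ∧ b ≠ a⁻¹ := fun a b h =>
      ⟨h.1.symm, fun e => h.2 (by rw [e, hom_inv_inv])⟩
    intro k l hkl
    fin_cases k <;> fin_cases l <;> first
      | exact absurd rfl hkl
      | exact hstep 0
      | exact hstep 1
      | exact h20
      | exact hsymm _ _ (hstep 0)
      | exact hsymm _ _ (hstep 1)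
      | exact hsymm _ _ h20
  have hPhiOrth : ∀ k l : Fin 3, k ≠ l → classInner (Phi D (zk k)) (Phi D (zk l)) = 0 := fun k l hkl =>
    by simp [inner_Phi_Phi, (hsep k l hkl).1, (hsep k l hkl).2]
  have hPhiNorm : ∀ w, w ≠ 1 → classInner (Phi D w) (Phi D w) = ((2 : ℤ) : ℂ) := fun w hw => by
    simp [inner_Phi_Phi, hinvne w hw]
  choose a ha using fun (k : Fin 3) (χ : IrrCharacter G) =>
    exists_int_beta X (isCharacter_of_isIrr χ.2) (adm_Phi D (zk k)).gen
  choose n hn0 hn using fun χ : IrrCharacter G => exists_nat_degree_irr χ.2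
  have hnpos : ∀ χ, 0 < n χ := fun χ => Nat.pos_of_ne_zero fun h =>
    irr_degree_ne_zero χ.2 (by rw [hn χ, h, Nat.cast_zero])
  have hgram : ∀ (k : Fin 3) (Ψ : L → ℂ) (c : IrrCharacter G → ℤ),
      Adm Ψ → (∀ χ : IrrCharacter G, classInner (beta X χ) Ψ = c χ) →
      ((∑ χ, a k χ * c χ : ℤ) : ℂ) = 2 * classInner Ψ (Phi D (zk k)) := fun k Ψ c hΨ hc => by
    rw [← gram X (adm_Phi D (zk k)) hΨ]
    push_cast
    exact Finset.sum_congr rfl fun χ _ => by rw [ha, hc]
  have hnorm : ∀ k, ∑ χ, a k χ ^ 2 = 4 := fun k => by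
    have h := hgram k _ (a k) (adm_Phi D (zk k)) (ha k)
    rw [hPhiNorm _ (hzk k), Int.cast_ofNat] at h
    have h' : ∑ χ, a k χ * a k χ = 4 := by
      refine Int.cast_injective (α := ℂ) ?_
      rw [h]; norm_num
    rw [← h']; exact Finset.sum_congr rfl fun χ _ => sq _
  have horth : ∀ k l, k ≠ l → ∑ χ, a k χ * a l χ = 0 := fun k l hkl => by
    have h := hgram k _ (a l) (adm_Phi D (zk l)) (ha l)
    rw [hPhiOrth l k (Ne.symm hkl), mul_zero] at h
    exact_mod_cast h
  have hdeg : ∀ k, ∑ χ, a k χ * (n χ : ℤ) = 0 := fun k => by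
    have h : ((∑ χ, a k χ * (n χ : ℤ) : ℤ) : ℂ) = 0 := by
      rw [← sum_degree_coef X (adm_Phi D (zk k))]
      push_cast
      exact Finset.sum_congr rfl fun χ _ => by rw [hn, ha, mul_comm]
    exact_mod_cast h
  have hpar : ∀ k χ, (2 : ℤ) ∣ a k χ - a 0 χ := by
    intro k χ
    have step : ∀ k l : Fin 3, (l : ℕ) = k + 1 → (2 : ℤ) ∣ a l χ - a k χ := fun k l hkl => by
      obtain ⟨j, hj⟩ := coef_parity D X (isCharacter_of_isIrr χ.2) (zk k)
      refine ⟨j, ?_⟩
      have e : (zk k).comp X.act.toMonoidHom = zk l := by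
        show _ = shift D X z l
        rw [hkl]; exact shift_succ D X z k
      rw [e, ha, ha] at hj
      exact_mod_cast hj
    fin_cases k
    · simp
    · exact step 0 1 rfl
    · have := (step 1 2 rfl).add (step 0 1 rfl)
      simpa using this
  obtain ⟨S, hcard, hout, hin, hne, hsum, hinj, hexp, i₀, hi₀, i₁, hi₁, ε, hε, hA₀, hA₁⟩ :=
    exists_rows a n hnpos hnorm horth hdeg hpar
  -- the common part of the four rows
  let h : L → ℂ := (4 : ℂ)⁻¹ • ∑ χ ∈ S, beta X (χ : G → ℂ)
  have hcf : IsClassFunction L h := fun g x => by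
    simp only [h, Pi.smul_apply, Finset.sum_apply]
    rw [Finset.sum_congr rfl fun χ _ => isClassFunction_beta X (isClassFunction_irr χ) g x]
  have hinner : ∀ Ψ : L → ℂ, classInner h Ψ =
      (4 : ℂ)⁻¹ * ∑ χ ∈ S, classInner (beta X (χ : G → ℂ)) Ψ := fun Ψ => by
    rw [classInner_smul_left, classInner_sum_left]
  have hval : ∀ g, Odd (orderOf g) → ∀ χ ∈ S, ∀ Φ0 : ℂ, (∀ k, Phi D (zk k) g = Φ0) →
      beta X (χ : G → ℂ) g = h g + ((∑ k, a k χ : ℤ) : ℂ) * Φ0 / 2 := by
    intro g hg χ hχ Φ0 hΦ0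
    have e := hexp (fun j => beta X (j : G → ℂ) g) χ hχ
    have e2 : ∀ k, ∑ j, (a k j : ℂ) * beta X (j : G → ℂ) g = 2 * Φ0 := fun k => by
      rw [← hΦ0 k, ← sum_beta_mul X (adm_Phi D (zk k)) hg]
      exact Finset.sum_congr rfl fun j _ => by rw [ha, map_intCast, mul_comm]
    simp only [e2, ← Finset.sum_mul] at e
    simp only [h, Pi.smul_apply, Finset.sum_apply, smul_eq_mul]
    push_cast
    linear_combination e / 4
  have hperp : ∀ Ψ : L → ℂ, Adm Ψ → (∀ k, classInner Ψ (Phi D (zk k)) = 0) → ∀ N : ℤ,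
      classInner Ψ Ψ = N → ∀ c : IrrCharacter G → ℤ,
      (∀ χ : IrrCharacter G, classInner (beta X χ) Ψ = c χ) → ∃ s : ℤ,
        classInner h Ψ = s ∧ (∀ χ ∈ S, c χ = s) ∧ 4 * s ^ 2 ≤ 2 * N ∧
          (4 * s ^ 2 = 2 * N → ∀ χ, χ ∉ S → c χ = 0) := by
    intro Ψ hΨ hort N hN c hc
    have hz0 : ∀ k, ∑ j, (a k j : ℂ) * (c j : ℂ) = 0 := fun k => by
      have := hgram k Ψ c hΨ hc
      rw [hort k, mul_zero] at this
      exact_mod_cast this
    have h4 : ∀ χ ∈ S, 4 * c χ = ∑ j ∈ S, c j := fun χ hχ => by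
      have e := hexp (fun j => (c j : ℂ)) χ hχ
      simp only [hz0, mul_zero, Finset.sum_const_zero, zero_add] at e
      exact_mod_cast e
    have hcc : ∀ χ ∈ S, c χ = c i₀ := fun χ hχ => by
      have := h4 χ hχ; have := h4 i₀ hi₀; omega
    have hsq : ∑ j, c j ^ 2 = 2 * N := by
      refine Int.cast_injective (α := ℂ) ?_
      push_cast
      rw [← hN, ← gram X hΨ hΨ]
      exact Finset.sum_congr rfl fun j _ => by rw [hc, sq]
    have hsplit : 4 * c i₀ ^ 2 + ∑ j ∈ Sᶜ, c j ^ 2 = 2 * N := by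
      have hS4 : ∑ j ∈ S, c j ^ 2 = 4 * c i₀ ^ 2 := by
        rw [Finset.sum_congr rfl (fun j hj => congrArg (· ^ 2) (hcc j hj)), Finset.sum_const, hcard]
        simp
      rw [← hsq, ← Finset.sum_add_sum_compl S, hS4]
    have hnn : 0 ≤ ∑ j ∈ Sᶜ, c j ^ 2 := Finset.sum_nonneg fun j _ => sq_nonneg _
    refine ⟨c i₀, ?_, hcc, by omega, fun heq j hj => ?_⟩
    · rw [hinner, Finset.sum_congr rfl (fun j hj => by rw [hc, hcc j hj]), Finset.sum_const, hcard]
      simp
    · refine sq_eq_zero_iff.mp ((Finset.sum_eq_zero_iff_of_nonneg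
        (f := fun j => c j ^ 2) fun j _ => sq_nonneg _).mp ?_ j (Finset.mem_compl.mpr hj))
      omega
  -- the principal and the other linear characters of the Borel subgroup
  have hI : ∀ i, classInner h (D.I i) = 0 := by
    intro i
    choose c hc using fun χ : IrrCharacter G =>
      exists_int_beta X (isCharacter_of_isIrr χ.2) (D.gen_I i)
    have hort := fun k => inner_I_Phi D i (zk k)
    by_cases hi : i = D.i₀
    · subst hi
      obtain ⟨s, hs, -, hle, hout'⟩ :=
        hperp _ (adm_I D _) hort 2 (by rw [D.inner_II₀]; norm_num) c hc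
      rcases eq_or_ne s 0 with rfl | hs0
      · simpa using hs
      exfalso
      have hs1 : 4 * s ^ 2 = 2 * 2 := by
        have : 0 < s ^ 2 := by positivity
        omega
      let one : IrrCharacter G := ⟨fun _ => 1, isIrrCharacter_one⟩
      have hone : beta X (one : G → ℂ) = fun _ => 1 := rfl
      have hc1 : c one = 1 := by
        have := hc one
        rw [hone, D.inner_one_I₀] at this
        exact_mod_cast this.symm
      have hmem : one ∈ S := by
        by_contra hm
        rw [hout' hs1 one hm] at hc1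
        exact zero_ne_one hc1
      have h0 : a 0 one = 0 := by
        have := ha 0 one
        rw [hone, inner_left_Phi, D.inner_f_R _ (fun _ _ => rfl), indLin,
          frobenius_reciprocity' _ _ (fun _ _ => rfl)] at this
        have hne1 : classInner (fun _ : D.T => (1 : ℂ)) (fun g => (zk 0 g : ℂ)) = 0 :=
          classInner_irr_ne isIrrCharacter_one (isIrrCharacter_monoidHom _) fun e =>
            hzk 0 (MonoidHom.ext fun g => Units.ext (congrFun e g).symm)
        rw [hne1] at this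
        exact_mod_cast (by linear_combination -this : (a 0 one : ℂ) = 0)
      rcases hin 0 one hmem with e | e <;> omega
    · obtain ⟨s, hs, -, hle, -⟩ :=
        hperp _ (adm_I D _) hort 1 (by rw [D.inner_II i hi]; norm_num) c hc
      have : s ^ 2 = 0 := by have := sq_nonneg s; omega
      rw [hs, sq_eq_zero_iff.mp this, Int.cast_zero]
  have hk : ∀ k, classInner h (Phi D (zk k)) = 0 := fun k => by
    rw [hinner, Finset.sum_congr rfl (fun j _ => ha k j), ← Int.cast_sum, hsum, Int.cast_zero,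
      mul_zero]
  -- all the other nontrivial linear characters of `T`
  have horbit : ∀ w : D.T →* ℂˣ, w ≠ 1 → classInner h (Phi D w) = 0 := by
    intro w hw
    by_cases horb : ∃ k : ℕ, w = shift D X z k ∨ w = (shift D X z k)⁻¹
    · obtain ⟨k, hk'⟩ := horb
      rw [shift_mod] at hk'
      have hk0 : classInner h (Phi D (shift D X z (k % 3))) = 0 :=
        hk ⟨k % 3, Nat.mod_lt k (by norm_num)⟩
      rcases hk' with rfl | rfl
      · exact hk0
      · rwa [Phi_inv]
    push Not at horb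
    have hperpk : ∀ w : D.T →* ℂˣ, (∀ k, w ≠ shift D X z k ∧ w ≠ (shift D X z k)⁻¹) →
        ∀ k, classInner (Phi D w) (Phi D (zk k)) = 0 := fun w hw k => by
      have h1 : zk k ≠ w := fun e => (hw k).1 e.symm
      have h2 : zk k ≠ w⁻¹ := fun e => (hw k).2 (by
        show w = (zk k)⁻¹
        rw [e, hom_inv_inv])
      simp [inner_Phi_Phi, h1, h2]
    have hback : w = ((w.comp X.act.toMonoidHom).comp X.act.toMonoidHom).comp X.act.toMonoidHom := by
      ext g
      have := DFunLike.congr_fun X.act_cube g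
      simp [pow_succ] at this
      simp [this]
    set w' := w.comp X.act.toMonoidHom with hw'
    have horb' : ∀ k, w' ≠ shift D X z k ∧ w' ≠ (shift D X z k)⁻¹ := fun k => by
      refine ⟨fun e => (horb (k + 2)).1 ?_, fun e => (horb (k + 2)).2 ?_⟩
      · rw [hback, e, shift_succ, shift_succ]
      · rw [hback, e, MonoidHom.inv_comp, MonoidHom.inv_comp, shift_succ, shift_succ]
    have hw1 : w' ≠ 1 := fun e => hw (by rw [hback, e, MonoidHom.one_comp, MonoidHom.one_comp])
    choose c hc using fun χ : IrrCharacter G =>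
      exists_int_beta X (isCharacter_of_isIrr χ.2) (adm_Phi D w).gen
    choose c' hc' using fun χ : IrrCharacter G =>
      exists_int_beta X (isCharacter_of_isIrr χ.2) (adm_Phi D w').gen
    obtain ⟨s, hs, hcs, hle, hout'⟩ :=
      hperp _ (adm_Phi D w) (hperpk w horb) 2 (hPhiNorm w hw) c hc
    obtain ⟨s', -, hcs', hle', -⟩ :=
      hperp _ (adm_Phi D w') (hperpk w' horb') 2 (hPhiNorm w' hw1) c' hc'
    rcases eq_or_ne s 0 with rfl | hs0
    · simpa using hs
    exfalso
    have hs2 : s ^ 2 = 1 := by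
      have : 0 < s ^ 2 := by positivity
      omega
    obtain ⟨j, hj⟩ := coef_parity D X (isCharacter_of_isIrr i₀.2) w
    rw [← hw', hc, hc', hcs i₀ hi₀, hcs' i₀ hi₀] at hj
    have hj' : s' - s = 2 * j := by exact_mod_cast hj
    have hzero : ∑ χ, c χ * c' χ = 0 := by
      refine Int.cast_injective (α := ℂ) ?_
      push_cast
      rw [Finset.sum_congr rfl (fun χ _ => by rw [← hc, ← hc']),
        gram X (adm_Phi D w) (adm_Phi D w')]
      have h1 : w ≠ w' := fun e => (comp_act_ne D X hw).1 e.symm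
      have h2 : w ≠ w'⁻¹ := fun e => (comp_act_ne D X hw).2 (by rw [← hw', e, hom_inv_inv])
      simp [inner_Phi_Phi, h1, h2]
    rw [← Finset.sum_subset (Finset.subset_univ S)
      (fun χ _ hχ => by rw [hout' (by omega) χ hχ, zero_mul]),
      Finset.sum_congr rfl (fun χ hχ => by rw [hcs χ hχ, hcs' χ hχ]), Finset.sum_const, hcard] at hzero
    simp at hzero
    have hs3 := sq_eq_one_iff.mp hs2
    rcases hzero with e | e <;> omega
  obtain ⟨s, hs, hsb⟩ : ∃ s : ℤ, classInner h (Phi D 1) = s ∧ -1 ≤ s ∧ s ≤ 1 := by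
    choose c hc using fun χ : IrrCharacter G =>
      exists_int_beta X (isCharacter_of_isIrr χ.2) (adm_Phi D 1).gen
    obtain ⟨s, hs, -, hle, -⟩ := hperp _ (adm_Phi D 1)
      (fun k => by simp [inner_Phi_Phi, hzk k, hom_inv_one])
      4 (by simp [inner_Phi_Phi, hom_inv_one]; norm_num) c hc
    refine ⟨s, hs, ?_, ?_⟩ <;> nlinarith
  -- the regular character of `L` is the sum of all `Y`
  have hY : ∑ w : D.T →* ℂˣ, classInner h (indLin D.T w) = h 1 := by
    have hm0 : (m : ℂ) ≠ 0 := Nat.cast_ne_zero.mpr (by omega)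
    have e : ∀ w : D.T →* ℂˣ, classInner h (indLin D.T w) =
        classInner (fun g : D.T => h g) (fun g => (w g : ℂ)) := fun w =>
      frobenius_reciprocity' _ _ hcf
    rw [Finset.sum_congr rfl fun w _ => e w]
    simp only [classInner, D.card_T]
    rw [← Finset.mul_sum, Finset.sum_comm]
    simp only [← Finset.mul_sum, ← map_sum, sum_hom_T]
    rw [Finset.sum_eq_single (1 : D.T) (fun b _ hb => by rw [if_neg hb, map_zero, mul_zero])
      (fun h1 => absurd (Finset.mem_univ _) h1), if_pos rfl, map_natCast, OneMemClass.coe_one]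
    field_simp
  have hY' : h 1 = 2 * (m : ℂ) * classInner h D.R - s := by
    rw [← hY, ← Finset.add_sum_erase _ _ (Finset.mem_univ (1 : D.T →* ℂˣ))]
    have e1 := inner_left_Phi D h 1
    rw [hs] at e1
    rw [Finset.sum_congr rfl (fun w hw => show classInner h (indLin D.T w) = 2 * classInner h D.R by
      have e := inner_left_Phi D h w
      rw [horbit w (Finset.ne_of_mem_erase hw)] at e
      linear_combination e), Finset.sum_const, Finset.card_erase_of_mem (Finset.mem_univ _),
      Finset.card_univ, ← Nat.card_eq_fintype_card, hhom, nsmul_eq_mul,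
      Nat.cast_sub (by omega : 1 ≤ m)]
    push_cast
    linear_combination e1
  have hIsum := D.inner_f_I h hcf
  rw [Finset.sum_eq_zero (fun i _ => hI i)] at hIsum
  have hR := D.inner_f_R h hcf
  -- the four rows are real
  have hreal : ∀ χ ∈ S, ∀ g, conj ((χ : G → ℂ) g) = (χ : G → ℂ) g := by
    intro χ hχ g
    let χ' : IrrCharacter G := ⟨fun x => conj ((χ : G → ℂ) x), isIrrCharacter_conj χ.2⟩
    have hak : ∀ k, a k χ' = a k χ := fun k => by
      have e : classInner (beta X (χ' : G → ℂ)) (Phi D (zk k)) =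
          conj (classInner (beta X (χ : G → ℂ)) (Phi D (zk k))) := by
        simp [classInner, beta, χ', map_sum, Phi_real]
      rw [ha, ha, map_intCast] at e
      exact_mod_cast e
    have hmem : χ' ∈ S := by
      by_contra hm
      have := hout 0 χ' hm
      rw [hak] at this
      rcases hin 0 χ hχ with e | e <;> omega
    exact congrFun (congrArg Subtype.val (hinj χ' hmem χ hχ hak)) g
  have hu : h D.u⁻¹ = h D.u := by
    simp only [h, Pi.smul_apply, Finset.sum_apply]
    refine congrArg _ (Finset.sum_congr rfl fun χ hχ => ?_)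
    simp only [beta, map_inv]
    have hinv : X.t * (X.emb D.u)⁻¹ = (X.t * X.emb D.u)⁻¹ := by
      rw [mul_inv_rev, inv_eq_of_mul_eq_one_right (t_sq X), ((X.comm D.u).inv_right).eq]
    rw [hinv, value_inv_eq_conj (isCharacter_of_isIrr χ.2), hreal χ hχ]
  have hq0 : (q : ℂ) ≠ 0 := Nat.cast_ne_zero.mpr (by omega)
  have hqm : (q : ℂ) + 1 = 4 * (m : ℂ) := by exact_mod_cast hq
  rw [hu] at hIsum hR
  rw [eq_div_iff hq0, zero_mul] at hIsum
  rw [eq_div_iff hq0] at hR
  have hr : classInner h D.R = -2 * h D.u := mul_right_cancel₀ hq0 (by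
    linear_combination hR - 2 * hIsum)
  have hhu : 2 * h D.u = -(s : ℂ) := by
    rw [hr] at hY'
    linear_combination hIsum + hY' + h D.u * hqm
  have h0u : h D.u = 0 ∧ s = 0 := by
    have hbu := hval D.u horderu i₁ hi₁ (-2) fun k => Phi_u D (zk k)
    rw [hA₁] at hbu
    have hint : IsIntegral ℤ (((-(s : ℚ) / 2 : ℚ)) : ℂ) := by
      have e : (((-(s : ℚ) / 2 : ℚ)) : ℂ) = beta X (i₁ : G → ℂ) D.u + ((-ε : ℤ) : ℂ) := by
        push_cast at hbu ⊢
        linear_combination -hhu / 2 - hbu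
      rw [e]
      exact (isIntegral_value (isCharacter_of_isIrr i₁.2) _).add isIntegral_algebraMap
    obtain ⟨j, hj⟩ := exists_int_of_isIntegral_rat hint
    have hj' : -s = 2 * j := by
      have : ((-s : ℤ) : ℚ) = ((2 * j : ℤ) : ℚ) := by push_cast; linarith
      exact_mod_cast this
    have hs0 : s = 0 := by omega
    rw [hs0, Int.cast_zero, neg_zero] at hhu
    exact ⟨by linear_combination hhu / 2, hs0⟩
  have h1 : h 1 = 0 := by rw [h0u.1] at hIsum; linear_combination -hIsum
  -- the values at `t` and at `u t`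
  have hv : ∀ χ ∈ S, (χ : G → ℂ) X.t = ((∑ k, a k χ : ℤ) : ℂ) * ((q : ℂ) - 1) := fun χ hχ => by
    have e := hval 1 horder1 χ hχ (2 * ((q : ℂ) - 1)) fun k => Phi_one D (zk k)
    simp only [beta, map_one, mul_one, h1] at e
    linear_combination e
  have hne0 : (i₀ : G → ℂ) (X.emb D.u * X.t) ≠ 0 := by
    have e := hval D.u horderu i₀ hi₀ (-2) fun k => Phi_u D (zk k)
    simp only [beta, h0u.1, hA₀] at e
    rw [← (X.comm D.u).eq, e]
    rcases hε with r | r <;> simp [r]
  set K := (Subgroup.centralizer ({X.t} : Set G)).index with hK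
  have hf : (n i₁ : ℚ) ≠ 0 := Nat.cast_ne_zero.mpr (hnpos i₁).ne'
  have hfC : (n i₁ : ℂ) ≠ 0 := Nat.cast_ne_zero.mpr (hnpos i₁).ne'
  have hw : omega (i₁ : G → ℂ) X.t = (((-(ε : ℚ) * K * ((q : ℚ) - 1) / n i₁ : ℚ)) : ℂ) := by
    rw [omega, hv i₁ hi₁, hA₁, hn i₁, ← hK]
    push_cast
    ring
  obtain ⟨j, hj⟩ := exists_int_of_isIntegral_rat (hw ▸ isIntegral_omega_irr i₁.2 X.t)
  refine hB i₀ hne0 (-3 * j) ?_ (by omega)
  rw [hv i₀ hi₀, hA₀, hn i₀, hne i₀ hi₀ i₁ hi₁, ← hK]
  have hjC : (j : ℂ) = -(ε : ℂ) * K * ((q : ℂ) - 1) / n i₁ := by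
    have h' := congrArg (fun x : ℚ => (x : ℂ)) hj
    push_cast at h'
    exact h'.symm
  rw [eq_div_iff hfC] at hjC
  push_cast
  linear_combination 3 * hjC

end CfsgLib.ReeTypeSThree
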