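import Cfsg.Agent.Lib.ReeTypeSThree.Sections
import Cfsg.Agent.Lib.SL2.PSL
import Cfsg.Agent.Lib.AutPSL.Sylow
import Cfsg.Agent.Lib.AutPSL.Out

/-!
The two-dimensional linear groups: sections isomorphic to symmetric groups of degrees three and four.
-/

set_option autoImplicit false
set_option linter.style.haveILetI false
set_option linter.unusedSectionVars false

namespace CfsgLib.ReeTypeSThree

open Matrix
open scoped MatrixGroups

local notation "S₃" => Equiv.Perm (Fin 3)
local notation "S₄" => Equiv.Perm (Fin 4)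

variable {F : Type*} [Field F] [Fintype F]

theorem exists_norm_neg_one (h3 : (3 : F) ≠ 0) : ∃ a b : F, a * a + a * b + b * b = -1 := by
  classical
  by_cases h2 : (2 : F) = 0
  · exact ⟨1, 0, by linear_combination h2⟩
  have hodd : Fintype.card F % 2 = 1 := FiniteField.odd_card_of_char_ne_two
    fun h => h2 (by
      haveI := ringChar.of_eq h
      exact CharTwo.two_eq_zero)
  obtain ⟨u, v, huv⟩ := FiniteField.exists_root_sum_quadratic
    (f := Polynomial.X ^ 2) (g := Polynomial.C (3 : F) * Polynomial.X ^ 2 + Polynomial.C 1)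
    (by rw [Polynomial.degree_X_pow]; rfl)
    (by
      rw [Polynomial.degree_add_eq_left_of_degree_lt
        (by rw [Polynomial.degree_C_mul_X_pow 2 h3]; exact lt_of_le_of_lt Polynomial.degree_C_le (by decide)),
        Polynomial.degree_C_mul_X_pow 2 h3]
      rfl)
    hodd
  simp only [Polynomial.eval_pow, Polynomial.eval_X, Polynomial.eval_add, Polynomial.eval_mul,
    Polynomial.eval_C] at huv
  exact ⟨u - v, 2 * v, by linear_combination huv⟩

/-- Outside characteristic three there is an element of order three inverted by an involution. -/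
theorem psl_involves_three (h3 : (3 : F) ≠ 0) : Cfsg.Involves S₃ PSL(2, F) := by
  classical
  obtain ⟨a, b, hab⟩ := exists_norm_neg_one h3
  let y : SL(2, F) := ⟨!![0, -1; 1, -1], by simp [Matrix.det_fin_two]⟩
  let x : SL(2, F) := ⟨!![a, b; a + b, -a], by
    rw [Matrix.det_fin_two_of]; linear_combination -hab⟩
  have hy3 : y ^ 3 = 1 := by
    refine Subtype.ext ?_
    show (!![0, -1; 1, -1] : Matrix (Fin 2) (Fin 2) F) ^ 3 = 1
    simp [pow_succ, Matrix.one_fin_two]
  refine involves_three_quot (x := x) (y := y) ?_ hy3 ?_ ?_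
  · refine Subgroup.mem_center_iff.mpr fun g => Subtype.ext ?_
    have hxx : ((x * x : SL(2, F)) : Matrix (Fin 2) (Fin 2) F) = -1 := by
      show (!![a, b; a + b, -a] : Matrix (Fin 2) (Fin 2) F) * !![a, b; a + b, -a] = -1
      ext i j
      fin_cases i <;> fin_cases j <;> simp [Matrix.mul_apply, Fin.sum_univ_two] <;>
        first | linear_combination hab | ring1
    show (g : Matrix (Fin 2) (Fin 2) F) * ((x * x : SL(2, F)) : Matrix (Fin 2) (Fin 2) F) =
      ((x * x : SL(2, F)) : Matrix (Fin 2) (Fin 2) F) * (g : Matrix (Fin 2) (Fin 2) F)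
    rw [hxx]
    simp
  · intro e
    have := congrArg (fun g : SL(2, F) => (g : Matrix (Fin 2) (Fin 2) F) 1 0) e
    simp [y] at this
  · rw [mul_inv_eq_iff_eq_mul]
    refine eq_inv_mul_iff_mul_eq.mpr (Subtype.ext ?_)
    show (!![0, -1; 1, -1] : Matrix (Fin 2) (Fin 2) F) *
      (!![a, b; a + b, -a] * !![0, -1; 1, -1]) = !![a, b; a + b, -a]
    ext i j
    fin_cases i <;> fin_cases j <;> simp [Matrix.mul_apply, Fin.sum_univ_two] <;> ring

/-- Over a field with `3 ^ odd` elements no element of order three is inverted. -/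
theorem psl_not_involves_three {n : ℕ} (hF : Fintype.card F = 3 ^ (2 * n + 1)) :
    ¬ Cfsg.Involves S₃ PSL(2, F) := by
  classical
  haveI : Fact (Nat.Prime 3) := ⟨Nat.prime_three⟩
  haveI := CfsgLib.AutPSL.charP_of_card (F := F) hF
  have h3 : (3 : F) = 0 := by exact_mod_cast CharP.cast_eq_zero F 3
  have hsq : ¬ IsSquare (-1 : F) := by
    rw [FiniteField.isSquare_neg_one_iff, hF, not_not, pow_succ, pow_mul, Nat.mul_mod, Nat.pow_mod]
    simp
  have hne : (1 : F) ≠ -1 := fun h => one_ne_zero (α := F) (by linear_combination h3 - h)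
  intro h
  obtain ⟨x, y, -, hy, hy1, hxy⟩ := exists_inverted_of_involves h
  obtain ⟨X, rfl⟩ := QuotientGroup.mk'_surjective _ x
  obtain ⟨Y₀, rfl⟩ := QuotientGroup.mk'_surjective _ y
  set q := QuotientGroup.mk' (Subgroup.center SL(2, F)) with hq
  have hscal : ∀ z : SL(2, F), z ∈ Subgroup.center SL(2, F) →
      ∃ r : F, (r = 1 ∨ r = -1) ∧ (z : Matrix (Fin 2) (Fin 2) F) = r • 1 := by
    intro z hz
    obtain ⟨r, hr, hrz⟩ := Matrix.SpecialLinearGroup.mem_center_iff.mp hz
    rw [Fintype.card_fin, pow_two] at hr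
    refine ⟨r, ?_, ?_⟩
    · exact mul_self_eq_one_iff.mp hr
    · rw [← hrz, Matrix.scalar_apply, Matrix.smul_one_eq_diagonal]
  -- a lift of order three
  obtain ⟨Y, hY, hY3⟩ : ∃ Y, q Y = q Y₀ ∧ Y ^ 3 = 1 := by
    obtain ⟨r, hr, hYr⟩ := hscal (Y₀ ^ 3) ((QuotientGroup.eq_one_iff _).mp (by rw [← hy]; exact map_pow q Y₀ 3))
    rcases hr with rfl | rfl
    · exact ⟨Y₀, rfl, Subtype.ext (by rw [hYr, one_smul]; rfl)⟩
    · refine ⟨Y₀ ^ 3 * Y₀, ?_, Subtype.ext ?_⟩
      · rw [map_mul, map_pow, hy, one_mul]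
      · rw [Matrix.SpecialLinearGroup.coe_pow, Matrix.SpecialLinearGroup.coe_mul, hYr, neg_one_smul,
          neg_one_mul, neg_pow, ← Matrix.SpecialLinearGroup.coe_pow, hYr]
        simp [pow_succ]
  obtain ⟨r, hr, hrz⟩ := hscal ((Y⁻¹)⁻¹ * (X * Y * X⁻¹)) (by
    refine (QuotientGroup.eq_one_iff _).mp (show q _ = 1 from ?_)
    rw [map_mul, map_mul, map_mul, map_inv, map_inv, map_inv, hY, hxy, inv_inv, mul_inv_cancel])
  -- the scalar is one, as both sides have order three
  have hr1 : r = 1 := by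
    have hz3 : ((Y⁻¹)⁻¹ * (X * Y * X⁻¹)) ^ 3 = 1 := by
      have hc : Commute ((Y⁻¹)⁻¹ * (X * Y * X⁻¹)) Y⁻¹ :=
        (Subgroup.mem_center_iff.mp ((QuotientGroup.eq_one_iff _).mp (show q _ = 1 from by
          rw [map_mul, map_mul, map_mul, map_inv, map_inv, map_inv, hY, hxy, inv_inv, mul_inv_cancel])) _).symm
      have he := hc.mul_pow 3
      rw [inv_pow, hY3, inv_one, mul_one] at he
      rw [← he, show (Y⁻¹)⁻¹ * (X * Y * X⁻¹) * Y⁻¹ = Y⁻¹ * ((Y⁻¹)⁻¹ * (X * Y * X⁻¹)) from hc.eq,
        ← mul_assoc, mul_inv_cancel, one_mul, conj_pow, hY3, mul_one, mul_inv_cancel]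
    have hm := congrArg (fun g : SL(2, F) => (g : Matrix (Fin 2) (Fin 2) F) 0 0) hz3
    simp only [Matrix.SpecialLinearGroup.coe_pow, hrz] at hm
    rcases hr with rfl | rfl
    · rfl
    · exact absurd (show (-1 : F) = 1 by simpa [pow_succ] using hm).symm hne
  subst hr1
  have hXY : Y * (X * Y) = X := by
    have : (Y⁻¹)⁻¹ * (X * Y * X⁻¹) = 1 := Subtype.ext (by rw [hrz, one_smul]; rfl)
    rw [inv_inv, ← mul_assoc, mul_inv_eq_one] at this
    exact this
  have hY1 : Y ≠ 1 := fun e => hy1 (by rw [← hY, e, map_one])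
  -- entries
  set A := (Y : Matrix (Fin 2) (Fin 2) F) with hA
  set P := (X : Matrix (Fin 2) (Fin 2) F) with hP
  have hAdet : A 0 0 * A 1 1 - A 0 1 * A 1 0 = 1 := by rw [← Matrix.det_fin_two]; exact Y.2
  have hPdet : P 0 0 * P 1 1 - P 0 1 * P 1 0 = 1 := by rw [← Matrix.det_fin_two]; exact X.2
  have hdet0 : (A 0 0 - 1) * (A 1 1 - 1) - A 0 1 * A 1 0 = 0 := by
    have hN : (A - 1) ^ 3 = 0 := by
      haveI : CharP (Matrix (Fin 2) (Fin 2) F) 3 := Matrix.charP 3
      rw [sub_pow_char_of_commute 3 (Commute.one_right A), one_pow, hA,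
        ← Matrix.SpecialLinearGroup.coe_pow, hY3, Matrix.SpecialLinearGroup.coe_one, sub_self]
    have := congrArg Matrix.det hN
    rw [Matrix.det_pow, Matrix.det_zero] at this
    have h0 := pow_eq_zero_iff (n := 3) (by norm_num) |>.mp this
    rw [Matrix.det_fin_two] at h0
    simpa using h0
  have htr : A 0 0 + A 1 1 = 2 := by linear_combination hAdet - hdet0
  have hE : ∀ i j, (A * (P * A)) i j = P i j := fun i j => by
    have := congrArg (fun g : SL(2, F) => (g : Matrix (Fin 2) (Fin 2) F) i j) hXY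
    simpa [Matrix.SpecialLinearGroup.coe_mul, hA, hP] using this
  have e00 := hE 0 0
  have e01 := hE 0 1
  have e10 := hE 1 0
  have e11 := hE 1 1
  simp only [Matrix.mul_apply, Fin.sum_univ_two] at e00 e01 e10 e11
  set a := A 0 0 - 1 with ha'
  have ha : A 0 0 = 1 + a := by rw [ha']; ring
  have hd : A 1 1 = 1 - a := by linear_combination htr - ha
  simp only [ha, hd] at e00 e01 e10 e11
  have hn0 : a * a + A 0 1 * A 1 0 = 0 := by
    rw [hd] at hdet0
    linear_combination -hdet0
  set b := A 0 1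
  set c := A 1 0
  set p := P 0 0
  set s := P 1 1
  set u := P 0 1
  set v := P 1 0
  -- `X` anticommutes with the nilpotent `Y - 1`
  have k00 : 2 * p * a + u * c + b * v = 0 := by
    linear_combination (1 - a) * e00 - b * e10 + (p + p * a + u * c) * hn0
  have k01 : b * (p + s) = 0 := by
    linear_combination (1 - a) * e01 - b * e11 + (u + p * b - u * a) * hn0
  have k10 : c * (p + s) = 0 := by
    linear_combination -c * e00 + (1 + a) * e10 + (v + v * a + s * c) * hn0
  have k11 : u * c + b * v - 2 * s * a = 0 := by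
    linear_combination -c * e01 + (1 + a) * e11 + (s - s * a + v * b) * hn0
  have hbc : b ≠ 0 ∨ c ≠ 0 := by
    by_contra hcon
    push Not at hcon
    have ha0 : a = 0 := by
      have : a * a = 0 := by rw [hcon.1] at hn0; linear_combination hn0
      exact mul_self_eq_zero.mp this
    refine hY1 (Subtype.ext (Matrix.ext fun i j => ?_))
    fin_cases i <;> fin_cases j
    · show A 0 0 = 1; rw [ha, ha0, add_zero]
    · show A 0 1 = 0; exact hcon.1
    · show A 1 0 = 0; exact hcon.2
    · show A 1 1 = 1; rw [hd, ha0, sub_zero]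
  have hps : p + s = 0 := by
    rcases hbc with hb | hc
    · exact (mul_eq_zero.mp k01).resolve_left hb
    · exact (mul_eq_zero.mp k10).resolve_left hc
  apply hsq
  by_cases hb : b = 0
  · have hc := hbc.resolve_left (not_not.mpr hb)
    have ha0 : a = 0 := mul_self_eq_zero.mp (by rw [hb] at hn0; linear_combination hn0)
    rw [hb, ha0] at k00
    have hu : u = 0 := (mul_eq_zero.mp (show u * c = 0 by linear_combination k00)).resolve_right hc
    refine ⟨p, ?_⟩
    rw [hu] at hPdet
    linear_combination hPdet - p * hps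
  · refine ⟨p - u * a / b, ?_⟩
    have hv : v = -(2 * p * a + u * c) / b := by
      field_simp
      linear_combination k00
    have hc : c = -(a * a) / b := by
      field_simp
      linear_combination hn0
    rw [hv, hc] at hPdet
    have hs : s = -p := by linear_combination hps
    rw [hs] at hPdet
    field_simp at hPdet ⊢
    linear_combination hPdet

/-- Characteristic two: abelian Sylow two-subgroups. -/
theorem psl_even_not_involves_four {n : ℕ} (hF : Fintype.card F = 2 ^ n) :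
    ¬ Cfsg.Involves S₄ PSL(2, F) := by
  haveI : Fact (Nat.Prime 2) := ⟨Nat.prime_two⟩
  haveI := CfsgLib.AutPSL.charP_of_card (F := F) hF
  let S := CfsgLib.AutPSL.sylowU (n := 2) (F := F) 2
  refine not_involves_four_of_abelian _ S.2 S.not_dvd_index ?_
  rintro _ ⟨a, ha, rfl⟩ _ ⟨b, hb, rfl⟩
  rw [← map_mul, ← map_mul]
  congr 1
  refine Subtype.ext ?_
  rw [Matrix.SpecialLinearGroup.coe_mul, Matrix.SpecialLinearGroup.coe_mul]
  have a10 := ha 1 0 (by decide)
  have a00 := ha 0 0 le_rfl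
  have a11 := ha 1 1 le_rfl
  have b10 := hb 1 0 (by decide)
  have b00 := hb 0 0 le_rfl
  have b11 := hb 1 1 le_rfl
  ext i j
  fin_cases i <;> fin_cases j <;>
    simp_all [Matrix.mul_apply, Fin.sum_univ_two, add_comm]

/-- `q ≡ 3, 5 (mod 8)`: Sylow two-subgroups of order at most four. -/
theorem psl_odd_not_involves_four (hq : Fintype.card F % 8 = 3 ∨ Fintype.card F % 8 = 5) :
    ¬ Cfsg.Involves S₄ PSL(2, F) := by
  classical
  haveI : Fact (Nat.Prime 2) := ⟨Nat.prime_two⟩
  obtain ⟨S⟩ := (inferInstance : Nonempty (Sylow 2 PSL(2, F)))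
  refine not_involves_four_of_abelian _ S.2 S.not_dvd_index ?_
  have hc := CfsgLib.SL2.card_PSL (F := F)
  rw [Nat.card_eq_fintype_card (α := F)] at hc
  obtain ⟨k, hk⟩ : ∃ k, Fintype.card F = 8 * k + 3 ∨ Fintype.card F = 8 * k + 5 :=
    ⟨Fintype.card F / 8, by omega⟩
  have hg : Nat.gcd 2 (Fintype.card F - 1) = 2 :=
    Nat.gcd_eq_left (by omega)
  rw [hg] at hc
  obtain ⟨o, ho, ho'⟩ : ∃ o, Odd o ∧ Nat.card PSL(2, F) = 4 * o := by
    rcases hk with hk | hk
    · refine ⟨(8 * k + 3) * (8 * k ^ 2 + 6 * k + 1), (Odd.mul ⟨4 * k + 1, by omega⟩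
        ⟨4 * k ^ 2 + 3 * k, by ring⟩), ?_⟩
      rw [hk, show 8 * k + 3 - 1 = 8 * k + 2 by omega] at hc
      refine Nat.eq_of_mul_eq_mul_left two_pos (hc.trans ?_)
      ring
    · refine ⟨(8 * k + 5) * (8 * k ^ 2 + 10 * k + 3), (Odd.mul ⟨4 * k + 2, by omega⟩
        ⟨4 * k ^ 2 + 5 * k + 1, by ring⟩), ?_⟩
      rw [hk, show 8 * k + 5 - 1 = 8 * k + 4 by omega] at hc
      refine Nat.eq_of_mul_eq_mul_left two_pos (hc.trans ?_)
      ring
  obtain ⟨j, hj⟩ := IsPGroup.iff_card.mp S.2
  have hd : 2 ^ j ∣ 4 * o := hj ▸ ho' ▸ Subgroup.card_subgroup_dvd_card _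
  have h4 : 2 ^ j ∣ 4 := (Nat.Coprime.pow_left j (Nat.coprime_two_left.mpr ho)).dvd_of_dvd_mul_right hd
  obtain ⟨i, hi, hi'⟩ := (Nat.dvd_prime_pow Nat.prime_two (m := 2)).mp h4
  have hj2 : j ≤ 2 := by rw [Nat.pow_right_injective le_rfl hi']; exact hi
  have hcomm : IsMulCommutative (S : Subgroup PSL(2, F)) := by
    interval_cases j
    · haveI : Subsingleton (S : Subgroup PSL(2, F)) := (Nat.card_eq_one_iff_unique.mp (by simpa using hj)).1
      exact ⟨⟨fun a b => Subsingleton.elim _ _⟩⟩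
    · haveI := isCyclic_of_prime_card (p := 2) (α := (S : Subgroup PSL(2, F))) (by simpa using hj)
      infer_instance
    · exact ⟨⟨IsPGroup.commutative_of_card_eq_prime_sq hj⟩⟩
  intro a ha b hb
  exact congrArg Subtype.val (hcomm.is_comm.comm ⟨a, ha⟩ ⟨b, hb⟩)

end CfsgLib.ReeTypeSThree
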