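import Cfsg.Agent.Lib.ReeTypeSThree.LocalCount
import Cfsg.Agent.Lib.Invol.AIC
import Cfsg.Agent.Lib.AutPSL.FourCentral

/-!
The local data of a group of Ree type without a section `S₃` (S2755): an element of order three
permuting the involutions of a four-group `⟨t, v⟩` and acting fixed-point-freely on the cyclic
subgroup of order `(q + 1)/4` centralised by it, and the hypotheses of the counting congruence.
-/

set_option autoImplicit false
set_option linter.style.haveILetI false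
set_option linter.unusedSectionVars false

namespace CfsgLib.ReeTypeSThree

open Matrix (ProjectiveSpecialLinearGroup)
open CfsgLib.SL2

universe u v

/-- An odd cover of `PSL(2, 2^n)` involves `S₃`. -/
theorem involves_of_isOddCover {H : Type u} [Group H] [Finite H] (h : CfsgLib.Invol.AIC.IsOddCover H) :
    Cfsg.Involves (Equiv.Perm (Fin 3)) H := by
  obtain ⟨F, iF, iF', f, hf, hF, φ, hφ, -, -⟩ := h
  haveI := Fact.mk Nat.prime_two
  haveI : CharP F 2 := charP_of_card_eq_prime_pow hF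
  have h2 : (2 : F) = 0 := CharP.cast_eq_zero F 2
  let x : Matrix.SpecialLinearGroup (Fin 2) F := ⟨!![0, 1; 1, 0], by
    rw [Matrix.det_fin_two_of]; linear_combination (-1 : F) * h2⟩
  let w : Matrix.SpecialLinearGroup (Fin 2) F := ⟨!![0, 1; 1, 1], by
    rw [Matrix.det_fin_two_of]; linear_combination (-1 : F) * h2⟩
  have hx : x * x = 1 := Subtype.ext (by
    show !![(0 : F), 1; 1, 0] * !![(0 : F), 1; 1, 0] = 1
    simp [Matrix.one_fin_two])
  have hw : w ^ 3 = 1 := Subtype.ext (by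
    rw [pow_succ, pow_two]
    show !![(0 : F), 1; 1, 1] * !![(0 : F), 1; 1, 1] * !![(0 : F), 1; 1, 1] = 1
    simp [Matrix.one_fin_two, one_add_one_eq_two, h2])
  have hxw : x * w * x = w ^ 2 := Subtype.ext (by
    rw [pow_two]
    show !![(0 : F), 1; 1, 0] * !![(0 : F), 1; 1, 1] * !![(0 : F), 1; 1, 0] =
      !![(0 : F), 1; 1, 1] * !![(0 : F), 1; 1, 1]
    simp [one_add_one_eq_two, h2])
  have hnc : ∀ a : Matrix.SpecialLinearGroup (Fin 2) F, a = x ∨ a = w →
      (QuotientGroup.mk a : ProjectiveSpecialLinearGroup (Fin 2) F) ≠ 1 := by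
    intro a ha e
    have hc := Subgroup.mem_center_iff.1 ((QuotientGroup.eq_one_iff a).1 e)
    have hne : !![(0 : F), 1; 1, 1] * !![(0 : F), 1; 1, 0] ≠
        !![(0 : F), 1; 1, 0] * !![(0 : F), 1; 1, 1] := by
      intro e'
      have := congrFun (congrFun e' 0) 1
      simp at this
    rcases ha with rfl | rfl
    · exact hne (congrArg Subtype.val (hc w))
    · exact hne (congrArg Subtype.val (hc x)).symm
  have hX : (QuotientGroup.mk x : ProjectiveSpecialLinearGroup (Fin 2) F) * QuotientGroup.mk x = 1 := by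
    rw [← QuotientGroup.mk_mul, hx]; rfl
  have hW : (QuotientGroup.mk w : ProjectiveSpecialLinearGroup (Fin 2) F) ^ 3 = 1 := by
    rw [← QuotientGroup.mk_pow, hw]; rfl
  refine CfsgLib.Offender.involves_of_surjective φ hφ
    (CfsgLib.Offender.involves_of_injective (⊤ : Subgroup _).subtype Subtype.val_injective
      (Cfsg.Agent.S3755.involves_three (Subgroup.mem_top _) (Subgroup.mem_top _) hX (hnc x (Or.inl rfl))
        hW (hnc w (Or.inr rfl)) ?_))
  rw [inv_eq_of_mul_eq_one_right hX, ← QuotientGroup.mk_mul, ← QuotientGroup.mk_mul, hxw,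
    QuotientGroup.mk_pow]
  exact eq_inv_of_mul_eq_one_left (by rw [← pow_succ]; exact hW)

variable {G : Type u} [Group G] [Finite G] {F : Type v} [Field F] [Finite F]

local notation "PSL" => ProjectiveSpecialLinearGroup (Fin 2) F

/-- A four-group `⟨v, d⟩` attached to the cyclic subgroup `T` of order `(q + 1)/4`. -/
structure Tor (T : Subgroup (ProjectiveSpecialLinearGroup (Fin 2) F))
    (v d : ProjectiveSpecialLinearGroup (Fin 2) F) : Prop where
  hv : Invol v
  hd : Partner v d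
  comm_v : ∀ g ∈ T, Commute g v
  inv : ∀ g ∈ T, d * g * d⁻¹ = g⁻¹
  odd_v : ∀ y, Commute y v → Odd (orderOf y) → y ∈ T
  cent : ∀ g ∈ T, g ≠ 1 → ∀ y, Commute y g → Commute y v ∧ ∃ z ∈ T, y = z ∨ y = z * v
  cyclic : IsCyclic T
  odd : Odd (Nat.card T)
  three : ¬ 3 ∣ Nat.card T

/-- Membership of `⟨t⟩ × ι V`. -/
def InE (t : G) (ι : ProjectiveSpecialLinearGroup (Fin 2) F →* G)
    (V : Subgroup (ProjectiveSpecialLinearGroup (Fin 2) F)) (e : G) : Prop :=
  ∃ w ∈ V, e = ι w ∨ e = t * ι w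

namespace Loc

variable {t : G} {ι : ProjectiveSpecialLinearGroup (Fin 2) F →* G} (S : Loc t ι)
include S

theorem inE_one (V : Subgroup PSL) : InE t ι V 1 := ⟨1, one_mem _, Or.inl (map_one ι).symm⟩

theorem inE_t (V : Subgroup PSL) : InE t ι V t := ⟨1, one_mem _, Or.inr (by rw [map_one, mul_one])⟩

theorem inE_mul {V : Subgroup PSL} {a b : G} (ha : InE t ι V a) (hb : InE t ι V b) :
    InE t ι V (a * b) := by
  obtain ⟨w, hw, ha⟩ := ha
  obtain ⟨w', hw', hb⟩ := hb
  refine ⟨w * w', mul_mem hw hw', ?_⟩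
  rw [map_mul]
  rcases ha with rfl | rfl <;> rcases hb with rfl | rfl
  · exact Or.inl rfl
  · exact Or.inr (by rw [← mul_assoc, ← (S.comm w).eq, mul_assoc])
  · exact Or.inr (mul_assoc _ _ _)
  · exact Or.inl (by rw [mul_assoc, ← mul_assoc (ι w), ← (S.comm w).eq, mul_assoc t (ι w), ← mul_assoc,
      S.tt, one_mul])

theorem inE_inv {V : Subgroup PSL} {a : G} (ha : InE t ι V a) : InE t ι V a⁻¹ := by
  obtain ⟨w, hw, ha⟩ := ha
  refine ⟨w⁻¹, inv_mem hw, ?_⟩
  rcases ha with rfl | rfl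
  · exact Or.inl (map_inv ι w).symm
  · exact Or.inr (by rw [mul_inv_rev, S.tinv, map_inv, (S.comm w).inv_right.eq])

theorem exists_eGroup (V : Subgroup PSL) : ∃ E : Subgroup G, ∀ e, e ∈ E ↔ InE t ι V e :=
  ⟨{ carrier := {e | InE t ι V e}
     one_mem' := S.inE_one V
     mul_mem' := fun ha hb => S.inE_mul ha hb
     inv_mem' := fun ha => S.inE_inv ha }, fun _ => Iff.rfl⟩

variable {T : Subgroup (ProjectiveSpecialLinearGroup (Fin 2) F)}
  {v d : ProjectiveSpecialLinearGroup (Fin 2) F} (D : Tor T v d)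
include D

theorem mem_four {w : PSL} (hw : w ∈ vGroup D.hv D.hd) : w = 1 ∨ w = v ∨ w = d ∨ w = v * d := by
  simpa [vGroup] using hw

theorem v_mem : v ∈ vGroup D.hv D.hd := by simp [vGroup]

theorem d_mem : d ∈ vGroup D.hv D.hd := by simp [vGroup]

theorem z_cases {z : G} (hz : InE t ι (Subgroup.zpowers v) z) :
    z = 1 ∨ z = t ∨ z = ι v ∨ z = t * ι v := by
  obtain ⟨w, hw, hz⟩ := hz
  rcases eq_of_mem_zpowers_two D.hv.1 hw with rfl | rfl <;> rcases hz with rfl | rfl <;> simp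

theorem z_le {z : G} (hz : InE t ι (Subgroup.zpowers v) z) : InE t ι (vGroup D.hv D.hd) z := by
  obtain ⟨w, hw, hz⟩ := hz
  exact ⟨w, Subgroup.zpowers_le.2 (S.v_mem D) hw, hz⟩

theorem inE_sq {e : G} (he : InE t ι (vGroup D.hv D.hd) e) : e * e = 1 := by
  obtain ⟨w, hw, he⟩ := he
  have h : w * w = 1 := by
    rcases eq_or_ne w 1 with rfl | h1
    · simp
    · exact (invol_of_mem_klein (isKleinFour_vGroup D.hv D.hd) hw h1).1
  rcases he with rfl | rfl
  · rw [← map_mul, h, map_one]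
  · rw [(S.comm w).symm.mul_mul_mul_comm, S.tt, one_mul, ← map_mul, h, map_one]

theorem inE_comm {a b : G} (ha : InE t ι (vGroup D.hv D.hd) a) (hb : InE t ι (vGroup D.hv D.hd) b) :
    Commute a b := by
  have h := S.inE_sq D (S.inE_mul ha hb)
  show a * b = b * a
  calc a * b = (a * b)⁻¹ := (inv_eq_of_mul_eq_one_right h).symm
    _ = b * a := by
      rw [mul_inv_rev, inv_eq_of_mul_eq_one_right (S.inE_sq D ha), inv_eq_of_mul_eq_one_right (S.inE_sq D hb)]

theorem ne_one_v : ι v ≠ 1 := fun e => D.hv.2 (S.inj (by rw [e, map_one]))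

theorem tv_ne : t * ι v ≠ 1 := fun e => S.ne_t v (by
  rw [← one_mul (ι v), ← S.tt, mul_assoc, e, mul_one])

theorem vv : ι v * ι v = 1 := by rw [← map_mul, D.hv.1, map_one]

theorem h8 : Nat.card F % 8 = 3 := by
  obtain ⟨n, -, hF⟩ := S.card_field
  exact mod_eight hF

theorem cent_inE {c : G} (h : ∀ e, InE t ι (vGroup D.hv D.hd) e → Commute c e) :
    InE t ι (vGroup D.hv D.hd) c := by
  obtain ⟨l, hl⟩ := S.cent c (h _ (S.inE_t _))
  have hc : ∀ w ∈ vGroup D.hv D.hd, Commute l w := by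
    intro w hw
    refine S.commute_iff.1 ?_
    rcases hl with e | e
    · exact e ▸ h _ ⟨w, hw, Or.inl rfl⟩
    · have h' := (S.comm w).mul_left (h _ ⟨w, hw, Or.inl rfl⟩)
      rwa [e, ← mul_assoc, S.tt, one_mul] at h'
  exact ⟨l, (four_data (S.h8 D) D.hv D.hd).1 l (hc v (S.v_mem D)) (hc d (S.d_mem D)), hl⟩

theorem exists_sylow : ∃ P : Sylow 2 G, ∀ e, e ∈ (P : Subgroup G) ↔ InE t ι (vGroup D.hv D.hd) e := by
  haveI := Fact.mk Nat.prime_two
  obtain ⟨E, hE⟩ := S.exists_eGroup (vGroup D.hv D.hd)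
  have hcE : Nat.card E = 8 := by
    let f : Bool × vGroup D.hv D.hd → E := fun p => ⟨(if p.1 then t else 1) * ι p.2, (hE _).2
      ⟨p.2, p.2.2, by rcases p.1 with _ | _ <;> simp⟩⟩
    have hf : Function.Bijective f := by
      refine ⟨?_, ?_⟩
      · rintro ⟨b, l⟩ ⟨b', l'⟩ e
        have e' := congrArg Subtype.val e
        simp only [f] at e'
        rcases b with _ | _ <;> rcases b' with _ | _ <;> simp only [Bool.false_eq_true, if_false, if_true,
          one_mul] at e'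
        · rw [Subtype.ext (S.inj e')]
        · exact (S.ne_t (l * (l' : PSL)⁻¹) (by rw [map_mul, map_inv, e', mul_inv_cancel_right])).elim
        · exact (S.ne_t ((l' : PSL) * (l : PSL)⁻¹) (by rw [map_mul, map_inv, ← e', mul_inv_cancel_right])).elim
        · rw [Subtype.ext (S.inj (mul_left_cancel e'))]
      · rintro ⟨c, hc⟩
        obtain ⟨w, hw, e | e⟩ := (hE c).1 hc
        · exact ⟨(false, ⟨w, hw⟩), Subtype.ext (by simp [f, e])⟩
        · exact ⟨(true, ⟨w, hw⟩), Subtype.ext (by simp [f, e])⟩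
    rw [← Nat.card_eq_of_bijective f hf, Nat.card_prod, (isKleinFour_vGroup D.hv D.hd).card_four]
    simp
  obtain ⟨P, hP⟩ := (IsPGroup.of_card (p := 2) (n := 3) (by rw [hcE]; norm_num) :
    IsPGroup 2 E).exists_le_sylow
  suffices heq : E = (P : Subgroup G) from ⟨P, fun e => by rw [← heq]; exact hE e⟩
  refine Subgroup.eq_of_le_of_card_ge hP ?_
  obtain ⟨k, hk⟩ := IsPGroup.iff_card.1 P.isPGroup'
  rw [hcE, hk, show (8 : ℕ) = 2 ^ 3 by norm_num]
  refine Nat.pow_le_pow_right two_pos ?_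
  by_contra hk4
  have h16 : 16 ∣ Nat.card G :=
    ((Nat.pow_dvd_pow 2 (show 4 ≤ k by omega)).trans (hk ▸ Subgroup.card_subgroup_dvd_card _))
  have hCt : Nat.card (Subgroup.centralizer ({t} : Set G)) = 2 * Nat.card PSL := by
    let f : Bool × PSL → Subgroup.centralizer ({t} : Set G) := fun p => ⟨(if p.1 then t else 1) * ι p.2,
      Subgroup.mem_centralizer_singleton_iff.2 (by
        rcases p.1 with _ | _
        · simpa using (S.comm p.2).eq.symm
        · simpa using ((Commute.refl t).mul_left (S.comm p.2).symm).eq)⟩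
    have hf : Function.Bijective f := by
      refine ⟨?_, ?_⟩
      · rintro ⟨b, l⟩ ⟨b', l'⟩ e
        have e' := congrArg Subtype.val e
        simp only [f] at e'
        rcases b with _ | _ <;> rcases b' with _ | _ <;> simp only [Bool.false_eq_true, if_false, if_true,
          one_mul] at e'
        · rw [S.inj e']
        · exact (S.ne_t (l * l'⁻¹) (by rw [map_mul, map_inv, e', mul_inv_cancel_right])).elim
        · exact (S.ne_t (l' * l⁻¹) (by rw [map_mul, map_inv, ← e', mul_inv_cancel_right])).elim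
        · rw [S.inj (mul_left_cancel e')]
      · rintro ⟨c, hc⟩
        obtain ⟨l, e | e⟩ := S.cent c (Subgroup.mem_centralizer_singleton_iff.1 hc)
        · exact ⟨(false, l), Subtype.ext (by simp [f, e])⟩
        · exact ⟨(true, l), Subtype.ext (by simp [f, e])⟩
    rw [← Nat.card_eq_of_bijective f hf, Nat.card_prod]
    simp
  have hodd : Odd (Nat.card F) := Nat.odd_iff.2 (by have := S.h8 D; omega)
  have h8L : ¬ 8 ∣ Nat.card PSL := CfsgLib.MinNonCA.not_eight_dvd (Or.inl (S.h8 D))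
  rw [← (Subgroup.centralizer ({t} : Set G)).card_mul_index, hCt, mul_assoc,
    show 16 = 2 * 8 from rfl, Nat.mul_dvd_mul_iff_left two_pos] at h16
  exact h8L ((Nat.Coprime.dvd_mul_right (show Nat.Coprime 8 _ from
    Nat.Coprime.pow_left 3 (Nat.coprime_two_left.2 S.odd_index))).1 h16)

/-- An element normalising `E`. -/
theorem two_mem {P : Sylow 2 G} {g : G} (hg : g ∈ Subgroup.normalizer ((P : Subgroup G) : Set G))
    {k : ℕ} (hk : g ^ 2 ^ k = 1) : g ∈ (P : Subgroup G) := by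
  haveI := Fact.mk Nat.prime_two
  obtain ⟨i, -, hi⟩ := (Nat.dvd_prime_pow Nat.prime_two).1 (orderOf_dvd_of_pow_eq_one hk)
  have hp : IsPGroup 2 (Subgroup.zpowers g) := IsPGroup.of_card (n := i) (by rw [Nat.card_zpowers, hi])
  exact (P.3 (IsPGroup.to_sup_of_normal_left' P.2 hp (Subgroup.zpowers_le.2 hg)) le_sup_left).le
    (Subgroup.mem_sup_right (Subgroup.mem_zpowers g))

theorem no_swap {P : Sylow 2 G} (hP : ∀ e, e ∈ (P : Subgroup G) ↔ InE t ι (vGroup D.hv D.hd) e)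
    {g : G} (hg : g ∈ Subgroup.normalizer ((P : Subgroup G) : Set G)) {a b : G}
    (ha : InE t ι (vGroup D.hv D.hd) a) (h1 : g * a * g⁻¹ = b) (h2 : g * b * g⁻¹ = a) : a = b := by
  obtain ⟨i, n, hn, ho⟩ := Nat.exists_eq_two_pow_mul_odd (orderOf_pos g).ne'
  have hm : g ^ n ∈ (P : Subgroup G) := S.two_mem D (pow_mem hg n) (k := i) (by
    rw [← pow_mul, mul_comm, ← ho, pow_orderOf_eq_one])
  have heven : ∀ j : ℕ, g ^ (2 * j) * a * (g ^ (2 * j))⁻¹ = a := by
    intro j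
    induction j with
    | zero => simp
    | succ j ih =>
      calc g ^ (2 * (j + 1)) * a * (g ^ (2 * (j + 1)))⁻¹
          = g ^ (2 * j) * (g * (g * a * g⁻¹) * g⁻¹) * (g ^ (2 * j))⁻¹ := by
            rw [show 2 * (j + 1) = 2 * j + 1 + 1 by ring, pow_succ, pow_succ]; group
        _ = a := by rw [h1, h2, ih]
  have hb : g ^ n * b * (g ^ n)⁻¹ = a := by
    obtain ⟨j, rfl⟩ := hn
    calc g ^ (2 * j + 1) * b * (g ^ (2 * j + 1))⁻¹
        = g ^ (2 * j) * (g * b * g⁻¹) * (g ^ (2 * j))⁻¹ := by rw [pow_succ]; group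
      _ = a := by rw [h2, heven]
  have hbE : InE t ι (vGroup D.hv D.hd) b := h1 ▸ (hP _).1
    ((Subgroup.mem_normalizer_iff.1 hg a).1 ((hP a).2 ha))
  rw [← hb, (S.inE_comm D ((hP _).1 hm) hbE).eq, mul_inv_cancel_right]

/-- Normalising the four-group inside `C(t)`. -/
theorem move {P : Sylow 2 G} (hP : ∀ e, e ∈ (P : Subgroup G) ↔ InE t ι (vGroup D.hv D.hd) e) {e : G}
    (he : InE t ι (vGroup D.hv D.hd) e) (he1 : e ≠ 1) (het : e ≠ t) :
    ∃ s ∈ Subgroup.normalizer ((P : Subgroup G) : Set G), Commute s t ∧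
      (s * e * s⁻¹ = ι v ∨ s * e * s⁻¹ = t * ι v) := by
  obtain ⟨w, hw, he⟩ := he
  have hw1 : w ≠ 1 := by
    rintro rfl
    rcases he with rfl | rfl
    · exact he1 (map_one ι)
    · exact het (by rw [map_one, mul_one])
  obtain ⟨s, hsV, hsw⟩ := (four_data (S.h8 D) D.hv D.hd).2 w hw hw1 v (S.v_mem D) D.hv.2
  refine ⟨ι s, ?_, (S.comm s).symm, ?_⟩
  · rw [CfsgLib.SL2.CA.mem_normalizer_iff_forall]
    intro x hx
    obtain ⟨y, hy, e'⟩ := (hP x).1 hx
    refine (hP _).2 ⟨s * y * s⁻¹, hsV y hy, ?_⟩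
    rw [map_mul, map_mul, map_inv]
    rcases e' with rfl | rfl
    · exact Or.inl rfl
    · exact Or.inr (by rw [← mul_assoc (ι s), ← (S.comm s).eq]; group)
  · rw [← hsw, map_mul, map_mul, map_inv]
    rcases he with rfl | rfl
    · exact Or.inl rfl
    · exact Or.inr (by rw [← mul_assoc (ι s), ← (S.comm s).eq]; group)

theorem cent_four {c : G} (hct : Commute c t) (hcv : Commute c (ι v)) (ho : Odd (orderOf c)) :
    ∃ g ∈ T, c = ι g := by
  obtain ⟨l, rfl⟩ := S.cent_of_odd hct ho (pow_orderOf_eq_one c)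
  rw [orderOf_injective ι S.inj] at ho
  exact ⟨l, D.odd_v l (S.commute_iff.1 hcv) ho, rfl⟩

theorem exists_cycle {P : Sylow 2 G} (hP : ∀ e, e ∈ (P : Subgroup G) ↔ InE t ι (vGroup D.hv D.hd) e) :
    ∃ k ∈ Subgroup.normalizer ((P : Subgroup G) : Set G),
      k * ι v * k⁻¹ = t ∧ k * t * k⁻¹ = t * ι v := by
  haveI := Fact.mk Nat.prime_two
  haveI : IsMulCommutative (P : Subgroup G) := ⟨⟨fun a b => Subtype.ext
    (S.inE_comm D ((hP _).1 a.2) ((hP _).1 b.2)).eq⟩⟩
  obtain ⟨n, hn, hnt⟩ : ∃ n ∈ Subgroup.normalizer ((P : Subgroup G) : Set G), n * t * n⁻¹ ≠ t := by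
    by_contra h
    push Not at h
    exact S.t_ne (CfsgLib.FourCentral.eq_one_of_normalizer_fixes S.perfect P inferInstance
      ((hP t).2 (S.inE_t _)) h)
  have hmem : ∀ k ∈ Subgroup.normalizer ((P : Subgroup G) : Set G),
      InE t ι (vGroup D.hv D.hd) (k * t * k⁻¹) := fun k hk =>
    (hP _).1 ((Subgroup.mem_normalizer_iff.1 hk t).1 ((hP t).2 (S.inE_t _)))
  obtain ⟨s, hs, hst, hsn⟩ := S.move D hP (hmem n hn) (fun e => S.t_ne (conj_eq_one_iff.1 e)) hnt
  -- `f` maps `t` to `x ∈ {v, tv}`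
  have step : ∀ f ∈ Subgroup.normalizer ((P : Subgroup G) : Set G), ∀ x : G,
      (x = ι v ∨ x = t * ι v) → f * t * f⁻¹ = x →
      ∃ k ∈ Subgroup.normalizer ((P : Subgroup G) : Set G), k * x * k⁻¹ = t ∧ k * t * k⁻¹ = t * x := by
    intro f hf x hx hfx
    have hxE : InE t ι (vGroup D.hv D.hd) x := by
      rcases hx with rfl | rfl
      · exact ⟨v, S.v_mem D, Or.inl rfl⟩
      · exact ⟨v, S.v_mem D, Or.inr rfl⟩
    have hxt : x ≠ t := by
      rcases hx with rfl | rfl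
      · exact S.ne_t v
      · exact fun e => S.ne_one_v D (mul_eq_left.1 e)
    have hfi : f⁻¹ * x * f = t := by rw [← hfx]; group
    have hne : f⁻¹ * t * f ≠ t := fun e => hxt (by
      have h : f * t * f⁻¹ = t := by
        conv_lhs => rw [← e]
        group
      rw [← hfx, h])
    have hmf : InE t ι (vGroup D.hv D.hd) (f⁻¹ * t * f) := by
      have := hmem f⁻¹ (inv_mem hf); rwa [inv_inv] at this
    obtain ⟨s, hs, hst, hse⟩ := S.move D hP hmf (fun e => S.t_ne (by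
      calc t = f * (f⁻¹ * t * f) * f⁻¹ := by group
        _ = 1 := by rw [e]; group)) hne
    have hkx : s * f⁻¹ * x * (s * f⁻¹)⁻¹ = t := by
      calc s * f⁻¹ * x * (s * f⁻¹)⁻¹ = s * (f⁻¹ * x * f) * s⁻¹ := by group
        _ = t := by rw [hfi, hst.eq, mul_inv_cancel_right]
    have hkt : s * f⁻¹ * t * (s * f⁻¹)⁻¹ = s * (f⁻¹ * t * f) * s⁻¹ := by group
    refine ⟨s * f⁻¹, mul_mem hs (inv_mem hf), hkx, ?_⟩
    rw [hkt]
    have hnx : s * (f⁻¹ * t * f) * s⁻¹ ≠ x := fun e =>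
      hxt (S.no_swap D hP (mul_mem hs (inv_mem hf)) hxE hkx (hkt.trans e))
    rcases hx with rfl | rfl
    · rcases hse with h | h
      · exact absurd h hnx
      · exact h
    · rw [show t * (t * ι v) = ι v by rw [← mul_assoc, S.tt, one_mul]]
      rcases hse with h | h
      · exact h
      · exact absurd h hnx
  have hsnt : s * n * t * (s * n)⁻¹ = s * (n * t * n⁻¹) * s⁻¹ := by group
  rcases hsn with h | h
  · exact step (s * n) (mul_mem hs hn) _ (Or.inl rfl) (hsnt.trans h)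
  · obtain ⟨k, hk, hk1, hk2⟩ := step (s * n) (mul_mem hs hn) _ (Or.inr rfl) (hsnt.trans h)
    rw [← mul_assoc, S.tt, one_mul] at hk2
    have hkv : k * ι v * k⁻¹ = t * ι v := by
      calc k * ι v * k⁻¹ = k * t * k⁻¹ * (k * (t * ι v) * k⁻¹) := by
            rw [show k * t * k⁻¹ * (k * (t * ι v) * k⁻¹) = k * (t * t) * ι v * k⁻¹ by group, S.tt,
              mul_one]
        _ = t * ι v := by rw [hk2, hk1, (S.comm v).eq]
    refine ⟨k⁻¹, inv_mem hk, ?_, ?_⟩ <;> rw [inv_inv]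
    · conv_lhs => rw [← hk2]
      group
    · conv_lhs => rw [← hk1]
      group

theorem exists_y {P : Sylow 2 G} (hP : ∀ e, e ∈ (P : Subgroup G) ↔ InE t ι (vGroup D.hv D.hd) e) :
    ∃ y ∈ Subgroup.normalizer ((P : Subgroup G) : Set G),
      y * ι v * y⁻¹ = t ∧ y * t * y⁻¹ = t * ι v ∧ y ^ 3 = 1 := by
  obtain ⟨k, hk, hkv, hkt⟩ := S.exists_cycle D hP
  have hkw : k * (t * ι v) * k⁻¹ = ι v := by
    rw [show k * (t * ι v) * k⁻¹ = k * t * k⁻¹ * (k * ι v * k⁻¹) by group, hkt, hkv,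
      mul_assoc, ← (S.comm v).eq, ← mul_assoc, S.tt, one_mul]
  have h3 : ∀ j : ℕ, Commute (k ^ (3 * j)) t ∧ Commute (k ^ (3 * j)) (ι v) := by
    intro j
    rw [pow_mul]
    refine ⟨Commute.pow_left ?_ j, Commute.pow_left ?_ j⟩ <;> refine mul_inv_eq_iff_eq_mul.1 ?_
    · calc k ^ 3 * t * (k ^ 3)⁻¹ = k * (k * (k * t * k⁻¹) * k⁻¹) * k⁻¹ := by
            rw [pow_succ, pow_two]; group
        _ = t := by rw [hkt, hkw, hkv]
    · calc k ^ 3 * ι v * (k ^ 3)⁻¹ = k * (k * (k * ι v * k⁻¹) * k⁻¹) * k⁻¹ := by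
            rw [pow_succ, pow_two]; group
        _ = ι v := by rw [hkv, hkt, hkw]
  have hfix : ∀ j : ℕ, k ^ (3 * j) * t * (k ^ (3 * j))⁻¹ = t ∧
      k ^ (3 * j) * ι v * (k ^ (3 * j))⁻¹ = ι v := fun j =>
    ⟨by rw [(h3 j).1.eq, mul_inv_cancel_right], by rw [(h3 j).2.eq, mul_inv_cancel_right]⟩
  obtain ⟨a, b, hb, ho⟩ := Nat.exists_eq_pow_mul_and_not_dvd (orderOf_pos k).ne' 3 (by norm_num)
  suffices h : ∃ y ∈ Subgroup.normalizer ((P : Subgroup G) : Set G),
      y * ι v * y⁻¹ = t ∧ y * t * y⁻¹ = t * ι v ∧ y ^ 3 ^ a = 1 by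
    obtain ⟨y, hy, hyv, hyt, hya⟩ := h
    refine ⟨y, hy, hyv, hyt, ?_⟩
    have hyw : y * (t * ι v) * y⁻¹ = ι v := by
      rw [show y * (t * ι v) * y⁻¹ = y * t * y⁻¹ * (y * ι v * y⁻¹) by group, hyt, hyv,
        mul_assoc, ← (S.comm v).eq, ← mul_assoc, S.tt, one_mul]
    have hct : Commute (y ^ 3) t := mul_inv_eq_iff_eq_mul.1 (by
      calc y ^ 3 * t * (y ^ 3)⁻¹ = y * (y * (y * t * y⁻¹) * y⁻¹) * y⁻¹ := by
            rw [pow_succ, pow_two]; group
        _ = t := by rw [hyt, hyw, hyv])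
    have hcv : Commute (y ^ 3) (ι v) := mul_inv_eq_iff_eq_mul.1 (by
      calc y ^ 3 * ι v * (y ^ 3)⁻¹ = y * (y * (y * ι v * y⁻¹) * y⁻¹) * y⁻¹ := by
            rw [pow_succ, pow_two]; group
        _ = ι v := by rw [hyv, hyt, hyw])
    have h3a : (y ^ 3) ^ 3 ^ a = 1 := by rw [← pow_mul, mul_comm, pow_mul, hya, one_pow]
    obtain ⟨g, hg, e⟩ := S.cent_four D hct hcv
      ((Odd.pow (by decide : Odd 3)).of_dvd_nat (orderOf_dvd_of_pow_eq_one h3a))
    rw [e, ← map_pow, ← map_one ι] at h3a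
    rw [e, eq_one_of_pow_coprime (x := g) (a := Nat.card T) (orderOf_dvd_iff_pow_eq_one.1
      (Subgroup.orderOf_dvd_natCard T hg)) (S.inj h3a)
      (Nat.Coprime.pow_right _ (Nat.prime_three.coprime_iff_not_dvd.2 D.three).symm), map_one]
  have hya : (k ^ b) ^ 3 ^ a = 1 := by rw [← pow_mul, mul_comm, ← ho, pow_orderOf_eq_one]
  rcases (show b % 3 = 1 ∨ b % 3 = 2 by omega) with h | h
  · refine ⟨k ^ b, pow_mem hk b, ?_, ?_, hya⟩ <;>
      rw [show b = 3 * (b / 3) + 1 by omega, pow_succ]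
    · calc k ^ (3 * (b / 3)) * k * ι v * (k ^ (3 * (b / 3)) * k)⁻¹
          = k ^ (3 * (b / 3)) * (k * ι v * k⁻¹) * (k ^ (3 * (b / 3)))⁻¹ := by group
        _ = t := by rw [hkv, (hfix _).1]
    · calc k ^ (3 * (b / 3)) * k * t * (k ^ (3 * (b / 3)) * k)⁻¹
          = k ^ (3 * (b / 3)) * (k * t * k⁻¹) * (k ^ (3 * (b / 3)))⁻¹ := by group
        _ = k ^ (3 * (b / 3)) * t * (k ^ (3 * (b / 3)))⁻¹ *
              (k ^ (3 * (b / 3)) * ι v * (k ^ (3 * (b / 3)))⁻¹) := by rw [hkt]; group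
        _ = t * ι v := by rw [(hfix _).1, (hfix _).2]
  · refine ⟨(k ^ b)⁻¹, inv_mem (pow_mem hk b), ?_, ?_, by rw [inv_pow, hya, inv_one]⟩ <;>
      rw [inv_inv, show b = 3 * (b / 3) + 1 + 1 by omega, pow_succ, pow_succ]
    · have e : k ^ (3 * (b / 3)) * k * k * t * (k ^ (3 * (b / 3)) * k * k)⁻¹ = ι v := by
        calc _ = k ^ (3 * (b / 3)) * (k * (k * t * k⁻¹) * k⁻¹) * (k ^ (3 * (b / 3)))⁻¹ := by group
          _ = ι v := by rw [hkt, hkw, (hfix _).2]
      conv_lhs => rw [← e]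
      group
    · have e : k ^ (3 * (b / 3)) * k * k * (t * ι v) * (k ^ (3 * (b / 3)) * k * k)⁻¹ = t := by
        calc _ = k ^ (3 * (b / 3)) * (k * (k * (t * ι v) * k⁻¹) * k⁻¹) * (k ^ (3 * (b / 3)))⁻¹ := by
              group
          _ = t := by rw [hkw, hkv, (hfix _).1]
      conv_lhs => rw [← e]
      group

/-- The conjugates of `t` under the powers of `y`. -/
theorem exists_pow_conj {y : G} (hyv : y * ι v * y⁻¹ = t) (hyt : y * t * y⁻¹ = t * ι v) {z : G}
    (hz : InE t ι (Subgroup.zpowers v) z) (hz1 : z ≠ 1) : ∃ i : ℕ, i < 3 ∧ z = y ^ i * t * (y ^ i)⁻¹ := by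
  rcases S.z_cases D hz with rfl | rfl | rfl | rfl
  · exact absurd rfl hz1
  · exact ⟨0, by norm_num, by simp⟩
  · refine ⟨2, by norm_num, ?_⟩
    calc ι v = y * (t * ι v) * y⁻¹ := by
          rw [show y * (t * ι v) * y⁻¹ = y * t * y⁻¹ * (y * ι v * y⁻¹) by group, hyt, hyv,
            mul_assoc, ← (S.comm v).eq, ← mul_assoc, S.tt, one_mul]
      _ = y * (y * t * y⁻¹) * y⁻¹ := by rw [hyt]
      _ = y ^ 2 * t * (y ^ 2)⁻¹ := by rw [pow_two]; group
  · exact ⟨1, by norm_num, by rw [pow_one, hyt]⟩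

/-- An element of `C(t) ∩ C(g)`, `g ∈ T`. -/
theorem cent_g {g : PSL} (hg : g ∈ T) (hg1 : g ≠ 1) {c : G} (hct : Commute c t)
    (hcg : Commute c (ι g)) : ∃ z ∈ T, ∃ e, InE t ι (Subgroup.zpowers v) e ∧ c = ι z * e := by
  obtain ⟨l, hl⟩ := S.cent c hct
  have hlg : Commute l g := by
    refine S.commute_iff.1 ?_
    rcases hl with e | e
    · exact e ▸ hcg
    · have h' := (S.comm g).mul_left hcg
      rwa [e, ← mul_assoc, S.tt, one_mul] at h'
  obtain ⟨-, z, hz, e' | e'⟩ := D.cent g hg hg1 l hlg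
  · subst e'
    rcases hl with rfl | rfl
    · exact ⟨l, hz, 1, S.inE_one _, by rw [mul_one]⟩
    · exact ⟨l, hz, t, S.inE_t _, (S.comm l).eq⟩
  · subst e'
    rcases hl with rfl | rfl
    · exact ⟨z, hz, ι v, ⟨v, Subgroup.mem_zpowers v, Or.inl rfl⟩, map_mul ι _ _⟩
    · exact ⟨z, hz, t * ι v, ⟨v, Subgroup.mem_zpowers v, Or.inr rfl⟩, by
        rw [map_mul, ← mul_assoc, ← mul_assoc, (S.comm z).eq]⟩

theorem z_commute {z : PSL} (hz : z ∈ T) {e : G} (he : InE t ι (Subgroup.zpowers v) e) :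
    Commute (ι z) e := by
  rcases S.z_cases D he with rfl | rfl | rfl | rfl
  · exact Commute.one_right _
  · exact (S.comm z).symm
  · exact (D.comm_v z hz).map ι
  · exact (S.comm z).symm.mul_right ((D.comm_v z hz).map ι)

theorem T_comm {a b : PSL} (ha : a ∈ T) (hb : b ∈ T) : Commute a b := by
  haveI := D.cyclic
  exact congrArg Subtype.val (IsCyclic.isMulCommutative.is_comm.comm (α := T) ⟨a, ha⟩ ⟨b, hb⟩)

theorem T_eq_one {z : PSL} (hz : z ∈ T) (h : z * z = 1) : z = 1 :=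
  eq_one_of_pow_coprime (a := 2) (by rw [pow_two, h]) (orderOf_dvd_iff_pow_eq_one.1
    (Subgroup.orderOf_dvd_natCard T hz)) (Nat.coprime_two_left.2 D.odd)

variable {P : Sylow 2 G} (hP : ∀ e, e ∈ (P : Subgroup G) ↔ InE t ι (vGroup D.hv D.hd) e)
  {y : G} (hy : y ∈ Subgroup.normalizer ((P : Subgroup G) : Set G))
  (hyv : y * ι v * y⁻¹ = t) (hyt : y * t * y⁻¹ = t * ι v) (hy3 : y ^ 3 = 1)
include hP hy hyv hyt hy3

theorem y_not_commute : ¬ Commute y t := fun h => S.ne_one_v D (by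
  rw [h.eq, mul_inv_cancel_right] at hyt
  exact mul_eq_left.1 hyt.symm)

theorem y_fix_z {z : G} (hz : InE t ι (Subgroup.zpowers v) z) (h : Commute y z) : z = 1 := by
  rcases S.z_cases D hz with rfl | rfl | rfl | rfl
  · rfl
  · exact absurd h (S.y_not_commute D hP hy hyv hyt hy3)
  · rw [h.eq, mul_inv_cancel_right] at hyv
    exact absurd hyv (S.ne_t v)
  · have e : y * (t * ι v) * y⁻¹ = ι v := by
      rw [show y * (t * ι v) * y⁻¹ = y * t * y⁻¹ * (y * ι v * y⁻¹) by group, hyt, hyv,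
        mul_assoc, ← (S.comm v).eq, ← mul_assoc, S.tt, one_mul]
    rw [h.eq, mul_inv_cancel_right] at e
    exact absurd (mul_eq_right.1 e) S.t_ne

theorem y_maps_T {g : PSL} (hg : g ∈ T) : ∃ g' ∈ T, y * ι g * y⁻¹ = ι g' := by
  refine S.cent_four D ?_ ?_ ?_
  · have h := (Commute.conj_iff y).2 ((D.comm_v g hg).map ι)
    rwa [hyv] at h
  · have h := (Commute.conj_iff y).2 ((S.comm g).symm.mul_right ((D.comm_v g hg).map ι))
    rw [show y * (t * ι v) * y⁻¹ = ι v by
      rw [show y * (t * ι v) * y⁻¹ = y * t * y⁻¹ * (y * ι v * y⁻¹) by group, hyt, hyv,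
        mul_assoc, ← (S.comm v).eq, ← mul_assoc, S.tt, one_mul]] at h
    exact h
  · have e : y * ι g * y⁻¹ = (MulAut.conj y).toMonoidHom (ι g) := rfl
    rw [e, orderOf_injective _ (MulAut.conj y).injective, orderOf_injective ι S.inj]
    exact D.odd.of_dvd_nat (Subgroup.orderOf_dvd_natCard T hg)

/-- An involution of `E` outside `⟨t, v⟩` commuting with `y`. -/
theorem exists_d₀ : ∃ d₀, InE t ι (vGroup D.hv D.hd) d₀ ∧ d₀ ≠ 1 ∧ Commute y d₀ ∧
    (∃ c, c * d₀ * c⁻¹ = t) ∧ ∀ g ∈ T, d₀ * ι g * d₀⁻¹ = ι g⁻¹ := by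
  obtain ⟨Z, hZ⟩ := S.exists_eGroup (Subgroup.zpowers v)
  have hdd : d * d = 1 := D.hd.1.1
  have hdv : Commute d v := D.hd.2.2
  have hdZ : ι d ∉ Z := by
    intro h
    rcases S.z_cases D ((hZ _).1 h) with e | e | e | e
    · exact D.hd.1.2 (S.inj (by rw [e, map_one]))
    · exact S.ne_t d e
    · exact D.hd.2.1 (S.inj e)
    · exact S.ne_t (d * v⁻¹) (by rw [map_mul, map_inv, e, mul_inv_cancel_right])
  have hout : ∀ e, InE t ι (vGroup D.hv D.hd) e → e ∉ Z → e * ι d ∈ Z := by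
    rintro e ⟨w, hw, he⟩ heZ
    have hwd : w * d ∈ Subgroup.zpowers v := by
      rcases S.mem_four D hw with rfl | rfl | rfl | rfl
      · exact absurd ((hZ e).2 ⟨1, one_mem _, he⟩) heZ
      · exact absurd ((hZ e).2 ⟨_, Subgroup.mem_zpowers _, he⟩) heZ
      · rw [hdd]; exact one_mem _
      · rw [mul_assoc, hdd, mul_one]; exact Subgroup.mem_zpowers _
    refine (hZ _).2 ⟨w * d, hwd, ?_⟩
    rcases he with rfl | rfl
    · exact Or.inl (map_mul ι _ _).symm
    · exact Or.inr (by rw [mul_assoc, map_mul])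
  have hyZ : ∀ e, InE t ι (vGroup D.hv D.hd) e → e ∉ Z →
      InE t ι (vGroup D.hv D.hd) (y * e * y⁻¹) ∧ y * e * y⁻¹ ∉ Z := by
    intro e he heZ
    refine ⟨(hP _).1 ((Subgroup.mem_normalizer_iff.1 hy e).1 ((hP e).2 he)), fun h => heZ ?_⟩
    have hmem : ∀ z ∈ Z, y⁻¹ * z * y ∈ Z := by
      intro z hz
      rcases S.z_cases D ((hZ z).1 hz) with e' | e' | e' | e' <;> rw [e']
      · rw [mul_one, inv_mul_cancel]; exact one_mem _
      · rw [show y⁻¹ * t * y = ι v by nth_rw 1 [← hyv]; group]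
        exact (hZ _).2 ⟨v, Subgroup.mem_zpowers v, Or.inl rfl⟩
      · rw [show y⁻¹ * ι v * y = t * ι v by
          have e1 : y * (t * ι v) * y⁻¹ = ι v := by
            rw [show y * (t * ι v) * y⁻¹ = y * t * y⁻¹ * (y * ι v * y⁻¹) by group, hyt, hyv,
              mul_assoc, ← (S.comm v).eq, ← mul_assoc, S.tt, one_mul]
          conv_lhs => rw [← e1]
          group]
        exact (hZ _).2 ⟨v, Subgroup.mem_zpowers v, Or.inr rfl⟩
      · rw [show y⁻¹ * (t * ι v) * y = t by conv_lhs => rw [← hyt]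
                                            group]
        exact (hZ _).2 (S.inE_t _)
    have := hmem _ h
    rwa [show y⁻¹ * (y * e * y⁻¹) * y = e by group] at this
  have hdE : InE t ι (vGroup D.hv D.hd) (ι d) := ⟨d, S.d_mem D, Or.inl rfl⟩
  obtain ⟨h1, h1Z⟩ := hyZ _ hdE hdZ
  obtain ⟨h2, h2Z⟩ := hyZ _ h1 h1Z
  generalize he0 : ι d = e0 at hdE hdZ h1 h1Z h2 h2Z hout
  generalize he1 : y * e0 * y⁻¹ = e1 at h1 h1Z h2 h2Z
  generalize he2 : y * e1 * y⁻¹ = e2 at h2 h2Z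
  have he3 : y * e2 * y⁻¹ = e0 := by
    rw [← he2, ← he1, show y * (y * (y * e0 * y⁻¹) * y⁻¹) * y⁻¹ = y ^ 3 * e0 * (y ^ 3)⁻¹ by
      rw [pow_succ, pow_two]; group, hy3]
    group
  have hprod : e0 * e1 * e2 ∉ Z := by
    intro h
    have h01 : e1 * e0 ∈ Z := hout e1 h1 h1Z
    rw [← (S.inE_comm D hdE h1).eq] at h01
    have := mul_mem (inv_mem h01) h
    rw [inv_mul_cancel_left] at this
    exact h2Z this
  have hfix : Commute y (e0 * e1 * e2) := by
    refine mul_inv_eq_iff_eq_mul.1 ?_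
    calc y * (e0 * e1 * e2) * y⁻¹ = y * e0 * y⁻¹ * (y * e1 * y⁻¹) * (y * e2 * y⁻¹) := by group
      _ = e1 * e2 * e0 := by rw [he1, he2, he3]
      _ = e0 * e1 * e2 := by
        rw [mul_assoc e0, ← (S.inE_comm D hdE (S.inE_mul h1 h2)).eq]
  have hpE := S.inE_mul (S.inE_mul hdE h1) h2
  generalize e0 * e1 * e2 = d₀ at hfix hprod hpE
  have hd1 : d₀ ≠ 1 := fun e => hprod (e ▸ one_mem Z)
  refine ⟨d₀, hpE, hd1, hfix, ?_, ?_⟩
  · have hdt : d₀ ≠ t := fun e => hprod ((hZ _).2 (e ▸ S.inE_t _))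
    obtain ⟨s, -, -, h | h⟩ := S.move D hP hpE hd1 hdt
    · refine ⟨y * s, ?_⟩
      rw [show y * s * d₀ * (y * s)⁻¹ = y * (s * d₀ * s⁻¹) * y⁻¹ by group, h, hyv]
    · refine ⟨y⁻¹ * s, ?_⟩
      rw [show y⁻¹ * s * d₀ * (y⁻¹ * s)⁻¹ = y⁻¹ * (s * d₀ * s⁻¹) * y by group, h, ← hyt]
      group
  · intro g hg
    obtain ⟨z, hz, hd'⟩ : ∃ z, InE t ι (Subgroup.zpowers v) z ∧ d₀ = z * ι d := by
      refine ⟨d₀ * ι d, (hZ _).1 (he0 ▸ hout d₀ hpE hprod), ?_⟩
      rw [mul_assoc, ← map_mul, hdd, map_one, mul_one]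
    rw [hd', show z * ι d * ι g * (z * ι d)⁻¹ = z * (ι d * ι g * (ι d)⁻¹) * z⁻¹ by group,
      ← map_inv, ← map_mul, ← map_mul, D.inv g hg, map_inv]
    rw [← map_inv, ← (S.z_commute D (inv_mem hg) hz).eq, mul_inv_cancel_right]

/-- `y` fixes no non-identity element of `T`. -/
theorem no_fixed {g : PSL} (hg : g ∈ T) (hgy : Commute y (ι g)) : g = 1 := by
  haveI := Fact.mk Nat.prime_two
  by_contra hg0
  -- reduce to prime order
  obtain ⟨p, hp, hpd⟩ := Nat.exists_prime_and_dvd (show orderOf g ≠ 1 from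
    fun e => hg0 (orderOf_eq_one_iff.1 e))
  obtain ⟨g₁, hg₁, hgy₁, hop⟩ : ∃ g₁ ∈ T, Commute y (ι g₁) ∧ orderOf g₁ = p :=
    ⟨g ^ (orderOf g / p), pow_mem hg _, by rw [map_pow]; exact hgy.pow_right _,
      orderOf_pow_orderOf_div (orderOf_pos g).ne' hpd⟩
  haveI := Fact.mk hp
  have hg1 : g₁ ≠ 1 := fun e => by rw [e, orderOf_one] at hop; exact hp.ne_one hop.symm
  have hpo : Odd p := hop ▸ D.odd.of_dvd_nat (Subgroup.orderOf_dvd_natCard T hg₁)
  have hp3 : ¬ 3 ∣ p := fun h => D.three (h.trans (hop ▸ Subgroup.orderOf_dvd_natCard T hg₁))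
  set H := Subgroup.centralizer ({ι g₁} : Set G) with hH
  have hmH : ∀ {x : G}, x ∈ H ↔ Commute x (ι g₁) := Subgroup.mem_centralizer_singleton_iff
  have hyH : y ∈ H := hmH.2 hgy₁
  have hZH : ∀ z, InE t ι (Subgroup.zpowers v) z → z ∈ H := fun z hz =>
    hmH.2 (S.z_commute D hg₁ hz).symm
  -- a Sylow 2-subgroup of `H`
  have hsq : ∀ x : H, ∀ k : ℕ, x ^ 2 ^ k = 1 → x * x = 1 := by
    intro x k hx
    have hxk : (x : G) ^ 2 ^ k = 1 := congrArg Subtype.val hx
    obtain ⟨i, -, hi⟩ := (Nat.dvd_prime_pow Nat.prime_two).1 (orderOf_dvd_of_pow_eq_one hxk)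
    obtain ⟨Q, hQ⟩ := (IsPGroup.of_card (p := 2) (n := i) (by rw [Nat.card_zpowers, hi]) :
      IsPGroup 2 (Subgroup.zpowers (x : G))).exists_le_sylow
    obtain ⟨c, hc⟩ := MulAction.exists_smul_eq G Q P
    have hm : c * x * c⁻¹ ∈ (P : Subgroup G) := by
      rw [← hc, Sylow.coe_subgroup_smul]
      exact Subgroup.smul_mem_pointwise_smul _ (MulAut.conj c) _ (hQ (Subgroup.mem_zpowers _))
    have h := S.inE_sq D ((hP _).1 hm)
    rw [show c * (x : G) * c⁻¹ * (c * x * c⁻¹) = c * (x * x) * c⁻¹ by group, conj_eq_one_iff] at h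
    exact Subtype.ext h
  obtain ⟨Z, hZ⟩ := S.exists_eGroup (Subgroup.zpowers v)
  have hZ2 : IsPGroup 2 (Z.subgroupOf H) := fun x => ⟨1, Subtype.ext (Subtype.ext (by
    have := S.inE_sq D (S.z_le D ((hZ _).1 x.2))
    show ((x : H) : G) ^ 2 ^ 1 = 1
    rw [pow_one, pow_two]
    exact this))⟩
  obtain ⟨R, hR⟩ := hZ2.exists_le_sylow
  have hRZ : ∀ x : H, x ∈ (R : Subgroup H) → InE t ι (Subgroup.zpowers v) (x : G) := by
    intro x hx
    have hRsq : ∀ a ∈ (R : Subgroup H), a * a = 1 := fun a ha => by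
      obtain ⟨k, hk⟩ := R.isPGroup' ⟨a, ha⟩
      exact hsq a k (congrArg Subtype.val hk)
    have hcomm : ∀ a ∈ (R : Subgroup H), ∀ b ∈ (R : Subgroup H), Commute a b := fun a ha b hb => by
      show a * b = b * a
      calc a * b = (a * b)⁻¹ := (inv_eq_of_mul_eq_one_right (hRsq _ (mul_mem ha hb))).symm
        _ = b * a := by
          rw [mul_inv_rev, inv_eq_of_mul_eq_one_right (hRsq a ha), inv_eq_of_mul_eq_one_right (hRsq b hb)]
    have hxt : Commute (x : G) t := (hcomm x hx ⟨t, hZH t (S.inE_t _)⟩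
      (hR (Subgroup.mem_subgroupOf.2 ((hZ t).2 (S.inE_t _))))).map H.subtype
    obtain ⟨z, hz, e, he, hxe⟩ := S.cent_g D hg₁ hg1 hxt (hmH.1 x.2)
    have h2 : (x : G) * x = 1 := congrArg Subtype.val (hRsq x hx)
    rw [hxe, (S.z_commute D hz he).symm.mul_mul_mul_comm, S.inE_sq D (S.z_le D he), mul_one,
      ← map_mul] at h2
    rw [hxe, S.T_eq_one D hz (S.inj (h2.trans (map_one ι).symm)), map_one, one_mul]
    exact he
  have hab : ∀ a b : G, Commute a t → Commute a (ι g₁) → Commute b t → Commute b (ι g₁) →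
      Commute a b := by
    intro a b ha ha' hb hb'
    obtain ⟨z, hz, e, he, rfl⟩ := S.cent_g D hg₁ hg1 ha ha'
    obtain ⟨z', hz', e', he', rfl⟩ := S.cent_g D hg₁ hg1 hb hb'
    exact (((S.T_comm D hz hz').map ι).mul_right (S.z_commute D hz he')).mul_left
      ((S.z_commute D hz' he).symm.mul_right (S.inE_comm D (S.z_le D he) (S.z_le D he')))
  have hAIC : CfsgLib.Invol.AIC.AbInvCent H := by
    intro s a b hs hs1 ha hb
    obtain ⟨Q, hQ⟩ := (IsPGroup.of_card (p := 2) (n := 1) (by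
      rw [Nat.card_zpowers, orderOf_eq_prime (by rw [pow_two, hs]) hs1, pow_one]) :
      IsPGroup 2 (Subgroup.zpowers s)).exists_le_sylow
    obtain ⟨c, hc⟩ := MulAction.exists_smul_eq H Q R
    have hm : c * s * c⁻¹ ∈ (R : Subgroup H) := by
      rw [← hc, Sylow.coe_subgroup_smul]
      exact Subgroup.smul_mem_pointwise_smul _ (MulAut.conj c) _ (hQ (Subgroup.mem_zpowers _))
    obtain ⟨i, -, hi⟩ := S.exists_pow_conj D hyv hyt (hRZ _ hm)
      (fun e => hs1 (conj_eq_one_iff.1 (Subtype.ext e : c * s * c⁻¹ = 1)))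
    obtain ⟨k, hkH, hk⟩ : ∃ k ∈ H, k * (s : G) * k⁻¹ = t := by
      refine ⟨(y ^ i)⁻¹ * c, mul_mem (inv_mem (pow_mem hyH i)) c.2, ?_⟩
      calc (y ^ i)⁻¹ * c * s * ((y ^ i)⁻¹ * c)⁻¹
          = (y ^ i)⁻¹ * ((c * s * c⁻¹ : H) : G) * y ^ i := by push_cast; group
        _ = t := by rw [hi]; group
    have key : ∀ a : H, Commute a s → Commute (k * (a : G) * k⁻¹) t ∧
        Commute (k * (a : G) * k⁻¹) (ι g₁) := fun a ha => by
      refine ⟨hk ▸ (Commute.conj_iff k).2 (ha.map H.subtype), hmH.1 ?_⟩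
      exact mul_mem (mul_mem hkH a.2) (inv_mem hkH)
    exact Subtype.ext ((Commute.conj_iff k).1
      (hab _ _ (key a ha).1 (key a ha).2 (key b hb).1 (key b hb).2)).eq
  have hRn : (R : Subgroup H).Normal := by
    by_contra hnn
    refine S.noS3 (CfsgLib.Offender.involves_of_injective H.subtype H.subtype_injective
      (involves_of_isOddCover (CfsgLib.Invol.AIC.isOddCover hAIC R (fun hc => ?_) hnn)))
    have hinj : ∀ a b : (R : Subgroup H), a * a = 1 → a ≠ 1 → b * b = 1 → b ≠ 1 → a = b := by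
      intro a b ha ha1 hb hb1
      obtain ⟨x, hx⟩ := hc.exists_zpow_surjective
      obtain ⟨i, rfl⟩ := hx a
      obtain ⟨j, rfl⟩ := hx b
      have hxx : x * x = 1 := by
        obtain ⟨k, hk⟩ := R.isPGroup' x
        exact Subtype.ext (hsq x k (congrArg Subtype.val hk))
      rcases eq_of_mem_zpowers_two hxx (⟨i, rfl⟩ : x ^ i ∈ Subgroup.zpowers x) with e | e
      · exact absurd e ha1
      rcases eq_of_mem_zpowers_two hxx (⟨j, rfl⟩ : x ^ j ∈ Subgroup.zpowers x) with e' | e'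
      · exact absurd e' hb1
      exact e.trans e'.symm
    have hvH : ι v ∈ H := hZH _ ⟨v, Subgroup.mem_zpowers v, Or.inl rfl⟩
    have := hinj ⟨⟨t, hZH t (S.inE_t _)⟩, hR (Subgroup.mem_subgroupOf.2 ((hZ t).2 (S.inE_t _)))⟩
      ⟨⟨ι v, hvH⟩, hR (Subgroup.mem_subgroupOf.2 ((hZ _).2 ⟨v, Subgroup.mem_zpowers v, Or.inl rfl⟩))⟩
      (Subtype.ext (Subtype.ext S.tt)) (fun e => S.t_ne (congrArg (fun z : ↥(R : Subgroup H) => ((z : H) : G)) e))
      (Subtype.ext (Subtype.ext (S.vv D)))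
      (fun e => S.ne_one_v D (congrArg (fun z : ↥(R : Subgroup H) => ((z : H) : G)) e))
    exact S.ne_t v (congrArg (fun z : ↥(R : Subgroup H) => ((z : H) : G)) this).symm
  -- `H` permutes the involutions like `⟨y⟩`
  have hperm : ∀ h ∈ H, ∀ z, InE t ι (Subgroup.zpowers v) z →
      InE t ι (Subgroup.zpowers v) (h * z * h⁻¹) := fun h hh z hz =>
    hRZ _ (hRn.conj_mem ⟨z, hZH z hz⟩ (hR (Subgroup.mem_subgroupOf.2 ((hZ z).2 hz))) ⟨h, hh⟩)
  have hdec : ∀ h ∈ H, ∃ i : ℕ, i < 3 ∧ ∃ a : G, Commute a t ∧ Commute a (ι g₁) ∧ h = y ^ i * a := by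
    intro h hh
    obtain ⟨i, hi3, hi⟩ := S.exists_pow_conj D hyv hyt (hperm h hh t (S.inE_t _))
      (fun e => S.t_ne (conj_eq_one_iff.1 e))
    refine ⟨i, hi3, (y ^ i)⁻¹ * h, mul_inv_eq_iff_eq_mul.1 ?_,
      hmH.1 (mul_mem (inv_mem (pow_mem hyH i)) hh), by rw [mul_inv_cancel_left]⟩
    calc (y ^ i)⁻¹ * h * t * ((y ^ i)⁻¹ * h)⁻¹ = (y ^ i)⁻¹ * (h * t * h⁻¹) * y ^ i := by group
      _ = t := by rw [hi]; group
  have hsmall : ∀ h ∈ H, Odd (orderOf h) → ¬ 3 ∣ orderOf h → ∃ z ∈ T, h = ι z := by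
    intro h hh ho h3
    obtain ⟨i, hi3, a, hat, hag, ha⟩ := hdec h hh
    have haz : ∀ z, InE t ι (Subgroup.zpowers v) z → a * z * a⁻¹ = z := fun z hz => by
      rw [(hab a z hat hag ((S.inE_comm D (S.z_le D hz) (S.inE_t _))) (hmH.1 (hZH z hz))).eq,
        mul_inv_cancel_right]
    have hyz : ∀ z, InE t ι (Subgroup.zpowers v) z → ∀ j : ℕ,
        InE t ι (Subgroup.zpowers v) (y ^ j * z * (y ^ j)⁻¹) := fun z hz j =>
      hperm _ (pow_mem hyH j) z hz
    have hpow : ∀ j : ℕ, h ^ j * t * (h ^ j)⁻¹ = y ^ (i * j) * t * (y ^ (i * j))⁻¹ := by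
      intro j
      induction j with
      | zero => simp
      | succ j ih =>
        calc h ^ (j + 1) * t * (h ^ (j + 1))⁻¹ = h * (h ^ j * t * (h ^ j)⁻¹) * h⁻¹ := by
              rw [pow_succ']; group
          _ = y ^ i * (a * (y ^ (i * j) * t * (y ^ (i * j))⁻¹) * a⁻¹) * (y ^ i)⁻¹ := by
              rw [ih, ha]; group
          _ = _ := by
              rw [haz _ (hyz t (S.inE_t _) _), show i * (j + 1) = i + i * j by ring, pow_add]; group
    rcases Nat.eq_zero_or_pos i with rfl | hipos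
    · rw [pow_zero, one_mul] at ha
      subst ha
      refine S.cent_four D hat ?_ ho
      exact hab h (ι v) hat hag (S.comm v).symm
        (hmH.1 (hZH _ ⟨v, Subgroup.mem_zpowers v, Or.inl rfl⟩))
    exfalso
    have h1 := hpow (orderOf h)
    rw [pow_orderOf_eq_one, one_mul, inv_one, mul_one] at h1
    have hc : Commute (y ^ (i * orderOf h)) t := mul_inv_eq_iff_eq_mul.1 h1.symm
    have hndvd : ¬ 3 ∣ i * orderOf h := fun hd => by
      rcases Nat.prime_three.dvd_mul.1 hd with h' | h'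
      · omega
      · exact h3 h'
    refine S.y_not_commute D hP hy hyv hyt hy3 ?_
    rw [← pow_mod_orderOf] at hc
    have hoy : orderOf y = 3 := orderOf_eq_prime hy3 (fun e => by
      rw [e, one_mul, inv_one, mul_one] at hyv
      exact S.ne_t v hyv)
    rw [hoy] at hc
    rcases (show i * orderOf h % 3 = 1 ∨ i * orderOf h % 3 = 2 by omega) with e | e <;> rw [e] at hc
    · rwa [pow_one] at hc
    · have : Commute ((y ^ 2) ^ 2) t := hc.pow_left 2
      rwa [← pow_mul, show 2 * 2 = 3 + 1 from rfl, pow_add, hy3, one_mul, pow_one] at this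
  -- conjugate the involution inverting `T` to `t`
  obtain ⟨d₀, hd₀E, -, hyd, ⟨c, hc⟩, hd₀inv⟩ := S.exists_d₀ D hP hy hyv hyt hy3
  have hy't : Commute (c * y * c⁻¹) t := hc ▸ (Commute.conj_iff c).2 hyd
  have hy'3 : (c * y * c⁻¹) ^ 3 = 1 := by rw [conj_pow, hy3, mul_one, mul_inv_cancel]
  obtain ⟨u, hu'⟩ := S.cent_of_odd hy't (by decide : Odd 3) hy'3
  have hu : orderOf u = 3 := by
    refine orderOf_eq_prime (S.inj (by rw [map_pow, ← hu', hy'3, map_one])) (fun e => ?_)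
    rw [e, map_one, conj_eq_one_iff] at hu'
    rw [hu', one_mul, inv_one, mul_one] at hyv
    exact S.ne_t v hyv
  obtain ⟨W, -, hin, hord, habW, hnorm⟩ := S.exists_countHyp hu
  have hg'W : c * ι g₁ * c⁻¹ ∈ W := by
    have e : c * ι g₁ * c⁻¹ = (MulAut.conj c).toMonoidHom (ι g₁) := rfl
    have ho : orderOf (c * ι g₁ * c⁻¹) = p := by
      rw [e, orderOf_injective _ (MulAut.conj c).injective, orderOf_injective ι S.inj, hop]
    refine hin _ ?_ (ho ▸ hpo) (ho ▸ hp3)
    rw [← hu']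
    exact (Commute.conj_iff c).2 hgy₁.symm
  have hWT : ∀ w ∈ W, ∃ z ∈ T, c⁻¹ * w * c = ι z := by
    intro w hw
    have e : c⁻¹ * w * c = (MulAut.conj c⁻¹).toMonoidHom w := by simp
    have ho : orderOf (c⁻¹ * w * c) = orderOf w := by
      rw [e, orderOf_injective _ (MulAut.conj c⁻¹).injective]
    refine hsmall _ (hmH.2 ?_) (ho ▸ (hord w hw).1) (ho ▸ (hord w hw).2)
    have h := (Commute.conj_iff c⁻¹).2 (habW w hw _ hg'W)
    rwa [inv_inv, show c⁻¹ * (c * ι g₁ * c⁻¹) * c = ι g₁ by group] at h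
  -- the action of `C(u)` on `⟨g₁⟩`
  have hTp : ∀ z ∈ T, z ^ p = 1 → ∃ k : ℕ, z = g₁ ^ k := by
    intro z hz hzp
    haveI := D.cyclic
    haveI := Fintype.ofFinite T
    classical
    let f : Fin p → T := fun k => ⟨g₁ ^ (k : ℕ), pow_mem hg₁ _⟩
    have hfi : Function.Injective f := fun a b e => Fin.ext
      (pow_injOn_Iio_orderOf (by rw [Set.mem_Iio, hop]; exact a.2) (by rw [Set.mem_Iio, hop]; exact b.2)
        (congrArg Subtype.val e :))
    have heq := Finset.eq_of_subset_of_card_le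
      (s := Finset.univ.image f) (t := Finset.univ.filter fun a : T => a ^ p = 1) (by
        intro a ha
        obtain ⟨k, -, rfl⟩ := Finset.mem_image.1 ha
        refine Finset.mem_filter.2 ⟨Finset.mem_univ _, Subtype.ext ?_⟩
        show (g₁ ^ (k : ℕ)) ^ p = 1
        rw [← pow_mul, mul_comm, pow_mul, show g₁ ^ p = 1 by rw [← hop]; exact pow_orderOf_eq_one g₁, one_pow]) (by
        rw [Finset.card_image_of_injective _ hfi, Finset.card_univ, Fintype.card_fin]
        exact IsCyclic.card_pow_eq_one_le (α := T) hp.pos)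
    have hzf : (⟨z, hz⟩ : T) ∈ Finset.univ.image f := by
      rw [heq, Finset.mem_filter]
      exact ⟨Finset.mem_univ _, Subtype.ext hzp⟩
    obtain ⟨k, -, hk⟩ := Finset.mem_image.1 hzf
    exact ⟨k, (congrArg Subtype.val hk).symm⟩
  set g' := c * ι g₁ * c⁻¹ with hg'
  have hog' : orderOf g' = p := by
    have e : g' = (MulAut.conj c).toMonoidHom (ι g₁) := rfl
    rw [e, orderOf_injective _ (MulAut.conj c).injective, orderOf_injective ι S.inj, hop]
  have hact : ∀ x : Subgroup.centralizer ({u} : Set PSL), ∃ k : ℕ,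
      ι x * g' * (ι x)⁻¹ = g' ^ k := by
    intro x
    have hxu : Commute (ι (x : PSL)) (ι u) :=
      Commute.map (Subgroup.mem_centralizer_singleton_iff.1 x.2) ι
    obtain ⟨z, hz, hze⟩ := hWT _ (hnorm _ _ hxu hg'W)
    have hzp : z ^ p = 1 := by
      refine S.inj ?_
      rw [map_pow, ← hze, map_one, show c⁻¹ * (ι x * g' * (ι x)⁻¹) * c =
        c⁻¹ * (ι x * g' * (ι x)⁻¹) * c⁻¹⁻¹ by rw [inv_inv], conj_pow, conj_pow, ← hog',
        pow_orderOf_eq_one, mul_one, mul_inv_cancel, mul_one, mul_inv_cancel]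
    obtain ⟨k, rfl⟩ := hTp z hz hzp
    refine ⟨k, ?_⟩
    rw [map_pow] at hze
    rw [hg', conj_pow, ← hze, hg']
    group
  choose χ hχ using hact
  classical
  haveI := Fintype.ofFinite (Subgroup.centralizer ({u} : Set PSL))
  have hiter : ∀ (x : Subgroup.centralizer ({u} : Set PSL)) (j : ℕ),
      ι x ^ j * g' * (ι x ^ j)⁻¹ = g' ^ (χ x ^ j) := by
    intro x j
    induction j with
    | zero => simp
    | succ j ih =>
      calc ι x ^ (j + 1) * g' * (ι x ^ (j + 1))⁻¹ = ι x * (ι x ^ j * g' * (ι x ^ j)⁻¹) * (ι x)⁻¹ := by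
            rw [pow_succ']; group
        _ = (ι x * g' * (ι x)⁻¹) ^ (χ x ^ j) := by rw [ih]; exact conj_pow.symm
        _ = g' ^ (χ x ^ (j + 1)) := by rw [hχ, ← pow_mul, pow_succ']
  let φ : Subgroup.centralizer ({u} : Set PSL) → ZMod p := fun x => (χ x : ZMod p)
  have hroot : (Finset.univ.image φ).card ≤ 3 := by
    have hsub : Finset.univ.image φ ⊆ (Polynomial.nthRoots 3 (1 : ZMod p)).toFinset := by
      intro r hr
      obtain ⟨x, -, rfl⟩ := Finset.mem_image.1 hr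
      rw [Multiset.mem_toFinset, Polynomial.mem_nthRoots (by norm_num : 0 < 3)]
      have h := hiter x 3
      rw [← map_pow, (S.u_data hu).2.1 _ (Subgroup.mem_centralizer_singleton_iff.1 x.2), map_one,
        one_mul, inv_one, mul_one] at h
      have h' : g' ^ (χ x ^ 3) = g' ^ 1 := by rw [pow_one]; exact h.symm
      rw [pow_eq_pow_iff_modEq, hog', ← ZMod.natCast_eq_natCast_iff, Nat.cast_pow, Nat.cast_one] at h'
      exact h'
    exact (Finset.card_le_card hsub).trans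
      ((Multiset.toFinset_card_le _).trans (Polynomial.card_nthRoots 3 1))
  have hfib : ∀ r ∈ Finset.univ.image φ, (Finset.univ.filter fun x => φ x = r).card ≤ 3 := by
    intro r hr
    obtain ⟨x₀, -, hx₀⟩ := Finset.mem_image.1 hr
    subst hx₀
    have huC : u ∈ Subgroup.centralizer ({u} : Set PSL) :=
      Subgroup.mem_centralizer_singleton_iff.2 rfl
    refine (Finset.card_le_card (t := (Finset.range 3).image fun i : ℕ => x₀ * ⟨u, huC⟩ ^ i) ?_).trans
      (Finset.card_image_le.trans (by simp))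
    intro x hx
    rw [Finset.mem_filter] at hx
    have hk : g' ^ χ x = g' ^ χ x₀ := by
      rw [pow_eq_pow_iff_modEq, hog', ← ZMod.natCast_eq_natCast_iff]
      exact hx.2
    rw [← hχ x, ← hχ x₀] at hk
    obtain ⟨δ, hδ⟩ : ∃ δ, δ = c⁻¹ * ((ι x₀)⁻¹ * ι x) * c := ⟨_, rfl⟩
    have hδH : δ ∈ H := by
      refine hmH.2 (mul_inv_eq_iff_eq_mul.1 ?_)
      calc δ * ι g₁ * δ⁻¹ = c⁻¹ * ((ι x₀)⁻¹ * (ι x * g' * (ι x)⁻¹) * ι x₀) * c := by
            rw [hδ, hg']; group
        _ = ι g₁ := by rw [hk, hg']; group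
    have hl : Commute ((x₀ : PSL)⁻¹ * x) u :=
      (Commute.inv_left (Subgroup.mem_centralizer_singleton_iff.1 x₀.2)).mul_left
        (Subgroup.mem_centralizer_singleton_iff.1 x.2)
    have hxx : (ι (x₀ : PSL))⁻¹ * ι x = ι ((x₀ : PSL)⁻¹ * x) := by rw [map_mul, map_inv]
    have hδy : Commute δ y := by
      have h := (Commute.conj_iff c⁻¹).2 (hl.map ι)
      rw [← hu', inv_inv, ← hxx, ← hδ] at h
      rwa [show c⁻¹ * (c * y * c⁻¹) * c = y by group] at h
    have hδd : Commute δ d₀ := by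
      have h := (Commute.conj_iff c⁻¹).2 (S.comm ((x₀ : PSL)⁻¹ * x)).symm
      rw [inv_inv, ← hxx, ← hδ] at h
      rwa [show c⁻¹ * t * c = d₀ by rw [← hc]; group] at h
    obtain ⟨i, hi3, a, hat, hag, ha⟩ := hdec δ hδH
    have hae : a = (y ^ i)⁻¹ * δ := by rw [ha, inv_mul_cancel_left]
    have hay : Commute a y := hae ▸ ((Commute.refl y).pow_left i).inv_left.mul_left hδy
    have had : Commute a d₀ := hae ▸ (hyd.pow_left i).inv_left.mul_left hδd
    obtain ⟨z, hz, e, he, rfl⟩ := S.cent_g D hg₁ hg1 hat hag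
    have hed : Commute e d₀ := S.inE_comm D (S.z_le D he) hd₀E
    have hzd : Commute (ι z) d₀ := by
      have h := had.mul_left hed.inv_left
      rwa [mul_inv_cancel_right] at h
    have hz1 : z = 1 := by
      refine S.T_eq_one D hz ?_
      have h := hd₀inv z hz
      rw [← hzd.eq, mul_inv_cancel_right] at h
      exact eq_inv_iff_mul_eq_one.1 (S.inj h)
    subst hz1
    rw [map_one, one_mul] at hay ha
    rw [S.y_fix_z D hP hy hyv hyt hy3 he hay.symm, mul_one] at ha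
    refine Finset.mem_image.2 ⟨i, Finset.mem_range.2 hi3, Subtype.ext (S.inj ?_)⟩
    show ι ((x₀ : PSL) * u ^ i) = ι x
    rw [map_mul, map_pow, ← hu', conj_pow, ← ha, hδ]
    group
  have h9 := Finset.card_le_mul_card_image_of_maps_to (f := φ) (s := Finset.univ)
    (t := Finset.univ.image φ) (fun a ha => Finset.mem_image_of_mem φ ha) 3 hfib
  obtain ⟨n, hn, hF⟩ := S.card_field
  rw [Finset.card_univ, ← Nat.card_eq_fintype_card, (S.u_data hu).1, hF] at h9
  have h27 : 3 ^ 3 ≤ 3 ^ (2 * n + 1) := Nat.pow_le_pow_right (by norm_num) (by omega)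
  omega


end Loc


/-- The data in `G` and the hypotheses of the counting congruence. -/
theorem exists_gdata {G : Type u} [Group G] [Finite G] [IsSimpleGroup G] (t : G) (ht : orderOf t = 2)
    (hodd : Odd (Subgroup.centralizer ({t} : Set G)).index) {L : Type*} [Group L] [Fintype L]
    (emb : L →* G) (hinj : Function.Injective emb) (hcomm : ∀ l, Commute t (emb l))
    (hnot : t ∉ emb.range) (hcent : ∀ c : G, Commute c t → ∃ l, c = emb l ∨ c = t * emb l)
    {F : Type v} [Field F] [Fintype F] {n : ℕ} (hn : 1 ≤ n) (hF : Fintype.card F = 3 ^ (2 * n + 1))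
    (e : L ≃* ProjectiveSpecialLinearGroup (Fin 2) F)
    (hS3 : ¬ Cfsg.Involves (Equiv.Perm (Fin 3)) G) {q m : ℕ} (hq : q = Fintype.card F)
    (hm : q + 1 = 4 * m) (D : LData L q m) :
    (∃ X : GData G D, X.t = t ∧ X.emb = emb) ∧
      ∀ u : L, orderOf u = 3 → ∃ W, CountHyp t (emb u) q W := by
  have hqN : q = Nat.card F := by rw [hq, Nat.card_eq_fintype_card]
  have hFN : Nat.card F = 3 ^ (2 * n + 1) := by rw [Nat.card_eq_fintype_card, hF]
  have h8 : q % 8 = 3 := mod_eight (hqN.trans hFN)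
  have h27 : 27 ≤ q := by
    rw [hqN, hFN]
    calc 27 = 3 ^ 3 := by norm_num
      _ ≤ 3 ^ (2 * n + 1) := Nat.pow_le_pow_right (by norm_num) (by omega)
  have hmodd : Odd m := Nat.odd_iff.2 (by omega)
  have h3q : 3 ∣ q := hqN ▸ hFN ▸ dvd_pow_self 3 (by omega)
  set T := D.T.map e.toMonoidHom with hT
  have hTc : Nat.card T = m := by
    rw [← D.card_T]
    exact (Nat.card_congr (D.T.equivMapOfInjective e.toMonoidHom e.injective).toEquiv).symm
  have hTcyc : IsCyclic T := by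
    haveI := D.cyclic_T
    exact isCyclic_of_surjective (D.T.equivMapOfInjective e.toMonoidHom e.injective).toMonoidHom
      (D.T.equivMapOfInjective e.toMonoidHom e.injective).surjective
  obtain ⟨v, d, hv, hd, hcv, hinv, hov, hcg⟩ :=
    torus_data hn hFN (hqN ▸ hm) T hTc hTcyc
  have hTor : Tor T v d := ⟨hv, hd, hcv, hinv, hov, hcg, hTcyc, hTc ▸ hmodd, by rw [hTc]; omega⟩
  set ι : ProjectiveSpecialLinearGroup (Fin 2) F →* G := emb.comp e.symm.toMonoidHom with hι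
  have hιe : ∀ l, ι (e l) = emb l := fun l => congrArg emb (e.symm_apply_apply l)
  have hperf : commutator G = ⊤ := by
    refine ((inferInstance : (commutator G).Normal).eq_bot_or_eq_top).resolve_left fun hbot => ?_
    haveI : Nontrivial T := Finite.one_lt_card_iff_nontrivial.1 (by rw [hTc]; omega)
    obtain ⟨g, hg1⟩ := exists_ne (1 : T)
    have hcomm' : ∀ a b : G, a * b = b * a := fun a b => by
      rw [← commutatorElement_eq_one_iff_mul_comm, ← Subgroup.mem_bot, ← hbot, commutator_def]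
      exact Subgroup.commutator_mem_commutator (Subgroup.mem_top a) (Subgroup.mem_top b)
    have h1 : d * g * d⁻¹ = (g : ProjectiveSpecialLinearGroup (Fin 2) F) := by
      rw [show d * (g : ProjectiveSpecialLinearGroup (Fin 2) F) = g * d from
        (hinj.comp e.symm.injective) (by
          show ι (d * g) = ι (g * d)
          rw [map_mul, map_mul, hcomm']), mul_inv_cancel_right]
    rw [hinv g g.2] at h1
    have h2 : (g : ProjectiveSpecialLinearGroup (Fin 2) F) * g = 1 := by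
      nth_rw 1 [← h1]
      exact inv_mul_cancel _
    refine hg1 (Subtype.ext (eq_one_of_pow_coprime (a := 2) (by rw [pow_two]; exact h2)
      (orderOf_dvd_iff_pow_eq_one.1 (Subgroup.orderOf_dvd_natCard T g.2))
      (Nat.coprime_two_left.2 (hTc ▸ hmodd))))
  have S : Loc t ι :=
    { card_field := ⟨n, hn, hFN⟩
      orderOf_t := ht
      inj := hinj.comp e.symm.injective
      comm := fun l => hcomm _
      not_mem := fun ⟨l, hl⟩ => hnot ⟨_, hl⟩
      cent := fun c hc => by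
        obtain ⟨l, hl⟩ := hcent c hc
        exact ⟨e l, by rwa [hιe]⟩
      odd_index := hodd
      perfect := hperf
      noS3 := hS3 }
  have hcount : ∀ u : L, orderOf u = 3 → ∃ W, CountHyp t (emb u) q W := by
    intro u hu
    obtain ⟨W, hW, -⟩ := S.exists_countHyp (u := e u) (by rw [MulEquiv.orderOf_eq, hu])
    exact ⟨W, by rw [← hιe, hqN]; exact hW⟩
  refine ⟨?_, hcount⟩
  obtain ⟨P, hP⟩ := S.exists_sylow hTor
  obtain ⟨y, hy, hyv, hyt, hy3⟩ := S.exists_y hTor hP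
  have hmap : ∀ g : D.T, ∃ g' : D.T, y * emb g * y⁻¹ = emb g' := by
    intro g
    obtain ⟨z, hz, hz'⟩ := S.y_maps_T hTor hP hy hyv hyt hy3
      (g := e g) (Subgroup.mem_map_of_mem e.toMonoidHom g.2)
    obtain ⟨l, hl, rfl⟩ := Subgroup.mem_map.1 hz
    exact ⟨⟨l, hl⟩, by rw [← hιe, hz']; exact hιe l⟩
  choose a ha using hmap
  have hmul : ∀ g g' : D.T, a (g * g') = a g * a g' := fun g g' => Subtype.ext (hinj (by
    rw [← ha, Subgroup.coe_mul, Subgroup.coe_mul, map_mul, map_mul, ← ha, ← ha]; group))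
  have hainj : Function.Injective a := fun g g' h => Subtype.ext (hinj (by
    have h' : y * emb g * y⁻¹ = y * emb g' * y⁻¹ := by rw [ha, ha, h]
    exact mul_left_cancel (mul_right_cancel h')))
  let act : MulAut D.T := MulEquiv.ofBijective (MonoidHom.mk' a hmul)
    (Finite.injective_iff_bijective.1 hainj)
  have hfix : ∀ g : D.T, act g = g → g = 1 := by
    intro g hg
    have h : Commute y (ι (e g)) := by
      rw [hιe]
      exact mul_inv_eq_iff_eq_mul.1 ((ha g).trans (by rw [show a g = g from hg]))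
    have h1 := S.no_fixed hTor hP hy hyv hyt hy3 (Subgroup.mem_map_of_mem e.toMonoidHom g.2) h
    exact Subtype.ext (e.injective (h1.trans (map_one e).symm))
  have hcube : act ^ 3 = 1 := by
    refine MulEquiv.ext fun g => Subtype.ext (hinj ?_)
    show emb ((a (a (a g)) : D.T) : L) = emb g
    rw [← ha, ← ha, ← ha, show y * (y * (y * emb g * y⁻¹) * y⁻¹) * y⁻¹ =
      y ^ 3 * emb g * (y ^ 3)⁻¹ by rw [pow_succ, pow_two]; group, hy3]
    group
  exact ⟨{ q_eq := hm, odd_m := hmodd, le_q := h27, three_dvd := h3q, emb := emb, inj := hinj,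
           t := t, orderOf_t := ht, comm := hcomm, not_mem := hnot, cent := hcent,
           index_three := S.index_three (u := e D.u) (by rw [MulEquiv.orderOf_eq, D.orderOf_u]),
           y := y, act := act, y_act := fun g => ha g, act_fix := hfix, act_cube := hcube }, rfl, rfl⟩

end CfsgLib.ReeTypeSThree
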