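import Cfsg.Agent.Lib.MinNonCA.Dickson
import Cfsg.Agent.Lib.SL2.Klein

/-!
Facts on `PSL(2, q)`, `q` an odd power of three, for the local analysis of groups of Ree type (S2755).
-/

set_option autoImplicit false
set_option linter.style.haveILetI false

namespace CfsgLib.ReeTypeSThree

open CfsgLib.SL2 CfsgLib.MinNonCA Matrix

variable {F : Type*} [Field F] [Finite F]

local notation "PSL" => ProjectiveSpecialLinearGroup (Fin 2) F

theorem mod_eight {q n : ℕ} (hq : q = 3 ^ (2 * n + 1)) : q % 8 = 3 := by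
  rw [hq, pow_succ, pow_mul, Nat.mul_mod, Nat.pow_mod]
  norm_num

theorem charP_three {n : ℕ} (hF : Nat.card F = 3 ^ (2 * n + 1)) : CharP F 3 := by
  obtain ⟨p, hp⟩ := CharP.exists F
  haveI := Fintype.ofFinite F
  obtain ⟨f, hpp, hf⟩ := FiniteField.card F p
  rw [Nat.card_eq_fintype_card, hf] at hF
  have h3 : 3 ∣ p := Nat.prime_three.dvd_of_dvd_pow (hF ▸ dvd_pow_self 3 (by omega))
  rwa [(Nat.prime_dvd_prime_iff_eq Nat.prime_three hpp).1 h3]

theorem not_involution_of_odd {x : PSL} (h1 : x ≠ 1) (ho : Odd (orderOf x)) : x * x ≠ 1 := by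
  intro h
  have h2 : orderOf x ∣ 2 := orderOf_dvd_of_pow_eq_one (by rw [pow_two, h])
  rcases (Nat.dvd_prime Nat.prime_two).1 h2 with e | e
  · exact h1 (orderOf_eq_one_iff.1 e)
  · rw [e] at ho
    exact absurd ho (by decide)

/-- The data attached to a cyclic subgroup of order `(q + 1)/4`. -/
theorem torus_data {n : ℕ} (hn : 1 ≤ n) (hF : Nat.card F = 3 ^ (2 * n + 1)) {m : ℕ}
    (hm : Nat.card F + 1 = 4 * m) (T : Subgroup PSL) (hT : Nat.card T = m) (hc : IsCyclic T) :
    ∃ v d : PSL, Invol v ∧ Partner v d ∧ (∀ g ∈ T, Commute g v) ∧ (∀ g ∈ T, d * g * d⁻¹ = g⁻¹) ∧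
      (∀ y : PSL, Commute y v → Odd (orderOf y) → y ∈ T) ∧
      ∀ g ∈ T, g ≠ 1 → ∀ y : PSL, Commute y g →
        Commute y v ∧ ∃ z ∈ T, y = z ∨ y = z * v := by
  haveI := charP_three hF
  haveI : Fact (Nat.Prime 3) := ⟨Nat.prime_three⟩
  have h8 : Nat.card F % 8 = 3 := mod_eight hF
  have hodd : Odd (Nat.card F) := Nat.odd_iff.2 (by omega)
  have hmodd : Odd m := Nat.odd_iff.2 (by omega)
  have h27 : 27 ≤ Nat.card F := by
    rw [hF]
    calc 27 = 3 ^ 3 := by norm_num
      _ ≤ 3 ^ (2 * n + 1) := Nat.pow_le_pow_right (by norm_num) (by omega)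
  have hm3 : ¬ 3 ∣ m := by
    have : 3 ∣ Nat.card F := hF ▸ dvd_pow_self 3 (by omega)
    omega
  haveI := hc
  obtain ⟨⟨x, hxT⟩, hx⟩ := IsCyclic.exists_zpow_surjective (G := T)
  have hxo : orderOf x = m := by
    rw [← hT, ← Subgroup.orderOf_mk x hxT]
    exact orderOf_eq_card_of_forall_mem_zpowers fun g => (Subgroup.mem_zpowers_iff.2 (hx g))
  have hTz : ∀ g ∈ T, g ∈ Subgroup.zpowers x := fun g hg => by
    obtain ⟨i, hi⟩ := hx ⟨g, hg⟩
    exact ⟨i, congrArg Subtype.val hi⟩
  have hx1 : x ≠ 1 := fun e => by rw [e, orderOf_one] at hxo; omega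
  have hs : Census.Semi 3 x := ⟨hx1, by rwa [hxo]⟩
  have hcyc := isCyclic_torus 3 hs
  have hTle : T ≤ torus x := fun g hg => (Subgroup.zpowers_le.2 (mem_torus x)) (hTz g hg)
  have hcard : Nat.card (torus x) = 2 * m := by
    have hdvd : m ∣ Nat.card (torus x) := hxo ▸ Subgroup.orderOf_dvd_natCard _ (mem_torus x)
    have h := card_torus_cases 3 hs
    rw [dd_of_odd hodd] at h
    rcases h with e | e
    · exfalso
      rw [e, show (Nat.card F - 1) / 2 = 2 * m - 1 by omega] at hdvd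
      obtain ⟨j, hj⟩ := hdvd
      have h1 : m ∣ 2 * m - (2 * m - 1) := Nat.dvd_sub (dvd_mul_left m 2) (hj ▸ dvd_mul_right m j)
      rw [show 2 * m - (2 * m - 1) = 1 by omega, Nat.dvd_one] at h1
      omega
    · rw [e]; omega
  obtain ⟨⟨v, hvT⟩, hvo⟩ := exists_prime_orderOf_dvd_card' (G := torus x) 2
    (hp := ⟨Nat.prime_two⟩) (hcard ▸ dvd_mul_right 2 m)
  rw [Subgroup.orderOf_mk] at hvo
  have hv : Invol v := by
    refine ⟨?_, fun e => by rw [e, orderOf_one] at hvo; omega⟩
    rw [← pow_two]; have := pow_orderOf_eq_one v; rwa [hvo] at this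
  have htv : torus v = torus x := torus_eq_of_mem 3 hs hvT hv.2
  have hcomm : ∀ {a b : PSL}, a ∈ torus x → b ∈ torus x → Commute a b := fun ha hb =>
    congrArg Subtype.val (IsCyclic.isMulCommutative.is_comm.comm (α := torus x) ⟨_, ha⟩ ⟨_, hb⟩)
  obtain ⟨d, hdN, hdT⟩ : ∃ d ∈ Subgroup.normalizer (torus x : Set PSL), d ∉ torus x := by
    by_contra hall
    push Not at hall
    have h := card_normalizer_torus 3 hs
    rw [le_antisymm (fun y hy => hall y hy) Subgroup.le_normalizer, hcard] at h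
    omega
  have hd : Partner v d := (partner_iff hodd hv d).2 (by rw [htv]; exact ⟨hdN, hdT⟩)
  have hinv : ∀ g ∈ torus x, d * g * d⁻¹ = g⁻¹ := by
    intro g hg
    have h1 := mul_self_of_normalizer_torus 3 hs (mul_mem hdN (Subgroup.le_normalizer hg))
      (fun h => hdT (by simpa using mul_mem h (inv_mem hg)))
    rw [inv_eq_of_mul_eq_one_right hd.1.1]
    exact eq_inv_of_mul_eq_one_left (by rw [mul_assoc]; exact h1)
  have hodT : ∀ y ∈ torus x, Odd (orderOf y) → y ∈ T := by
    intro y hy ho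
    have hym : orderOf y ∣ m := (Nat.Coprime.dvd_mul_left (Nat.Coprime.symm
      (Nat.coprime_two_left.2 ho))).1 (hcard ▸ Subgroup.orderOf_dvd_natCard _ hy)
    haveI := Fintype.ofFinite (torus x)
    classical
    have hmem : ∀ g ∈ T, ∀ hg : g ∈ torus x,
        (⟨g, hg⟩ : torus x) ∈ Finset.univ.filter fun a : torus x => a ^ m = 1 := by
      intro g hg hg'
      rw [Finset.mem_filter]
      refine ⟨Finset.mem_univ _, Subtype.ext ?_⟩
      show g ^ m = 1
      rw [← orderOf_dvd_iff_pow_eq_one, ← hT]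
      exact Subgroup.orderOf_dvd_natCard _ hg
    let f : T → torus x := fun g => ⟨g.1, hTle g.2⟩
    haveI := Fintype.ofFinite T
    have hsub : Finset.univ.image f ⊆ Finset.univ.filter fun a : torus x => a ^ m = 1 := by
      intro a ha
      obtain ⟨g, -, rfl⟩ := Finset.mem_image.1 ha
      exact hmem g.1 g.2 (hTle g.2)
    have hfi : Function.Injective f := fun a b e => Subtype.ext (congrArg Subtype.val e :)
    have heq := Finset.eq_of_subset_of_card_le hsub (by
      rw [Finset.card_image_of_injective _ hfi, Finset.card_univ, ← Nat.card_eq_fintype_card, hT]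
      exact IsCyclic.card_pow_eq_one_le (α := torus x) hmodd.pos)
    have hyf : (⟨y, hy⟩ : torus x) ∈ Finset.univ.image f := by
      rw [heq, Finset.mem_filter]
      exact ⟨Finset.mem_univ _, Subtype.ext (orderOf_dvd_iff_pow_eq_one.1 hym)⟩
    obtain ⟨g, -, hg⟩ := Finset.mem_image.1 hyf
    have : (g : PSL) = y := congrArg Subtype.val hg
    exact this ▸ g.2
  refine ⟨v, d, hv, hd, fun g hg => hcomm (hTle hg) hvT, fun g hg => hinv g (hTle hg), ?_, ?_⟩
  · intro y hy ho
    refine hodT y ?_ ho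
    by_contra hn
    have hyN : y ∈ Subgroup.normalizer (torus x : Set PSL) := by
      rw [← htv, ← centralizer_invol hodd hv]; exact Subgroup.mem_centralizer_singleton_iff.2 hy.eq
    have h1 := mul_self_of_normalizer_torus 3 hs hyN hn
    exact not_involution_of_odd (fun e => hn (by rw [e]; exact one_mem _)) ho h1
  · intro g hg hg1 y hy
    have hgo : Odd (orderOf g) := hmodd.of_dvd_nat (hT ▸ Subgroup.orderOf_dvd_natCard _ hg)
    have hgg := not_involution_of_odd hg1 hgo
    have hyv : Commute y v := commute_of_nonInvol hg1 hgg hy (hcomm hvT (hTle hg))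
    refine ⟨hyv, ?_⟩
    have hyT : y ∈ torus x := by
      by_contra hn
      have hyN : y ∈ Subgroup.normalizer (torus x : Set PSL) := by
        rw [← htv, ← centralizer_invol hodd hv]; exact Subgroup.mem_centralizer_singleton_iff.2 hyv.eq
      have h1 := mul_self_of_normalizer_torus 3 hs (mul_mem hyN (Subgroup.le_normalizer (hTle hg)))
        (fun h => hn (by simpa using mul_mem h (inv_mem (hTle hg))))
      rw [hy.symm.mul_mul_mul_comm, mul_self_of_normalizer_torus 3 hs hyN hn, one_mul] at h1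
      exact hgg h1
    rcases Nat.even_or_odd (orderOf y) with he | ho
    · refine ⟨y * v, hodT _ (mul_mem hyT hvT) ?_, Or.inr (by rw [mul_assoc, hv.1, mul_one])⟩
      rw [← Nat.not_even_iff_odd, even_iff_two_dvd]
      intro h2
      -- the torus has a single involution
      obtain ⟨k, hk⟩ := h2
      obtain ⟨j, hj⟩ := he
      have hwy : (y ^ j : PSL) = v := by
        refine eq_of_invol_mem_torus hodd hv ⟨?_, ?_⟩ (by rw [htv]; exact pow_mem hyT j)
        · rw [← pow_add, ← hj, pow_orderOf_eq_one]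
        · intro e
          have := Nat.le_of_dvd (by have := orderOf_pos y; omega) (orderOf_dvd_of_pow_eq_one e)
          have := orderOf_pos y
          omega
      have hdy : orderOf y ∣ 2 * m := hcard ▸ Subgroup.orderOf_dvd_natCard _ hyT
      have hjo : Odd j := by
        rw [← two_mul] at hj
        rw [hj] at hdy
        exact hmodd.of_dvd_nat ((Nat.mul_dvd_mul_iff_left two_pos).1 hdy)
      have h3 : (y * v) ^ j = 1 := by
        rw [hyv.mul_pow, hwy]
        obtain ⟨i, rfl⟩ := hjo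
        rw [pow_succ, pow_mul, pow_two, hv.1, one_pow, one_mul, hv.1]
      have h4 : Odd (orderOf (y * v)) := hjo.of_dvd_nat (orderOf_dvd_of_pow_eq_one h3)
      rw [hk] at h4
      exact absurd h4 (by simp)
    · exact ⟨y, hodT y hyT ho, Or.inl rfl⟩

/-- The four-group of two commuting involutions and the fusion inside it. -/
theorem four_data (h8 : Nat.card F % 8 = 3) {v d : PSL} (hv : Invol v) (hd : Partner v d) :
    (∀ y : PSL, Commute y v → Commute y d → y ∈ vGroup hv hd) ∧
    (∀ e ∈ vGroup hv hd, e ≠ 1 → ∀ e' ∈ vGroup hv hd, e' ≠ 1 → ∃ s : PSL,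
      (∀ w ∈ vGroup hv hd, s * w * s⁻¹ ∈ vGroup hv hd) ∧ s * e * s⁻¹ = e') := by
  haveI : Fact (Nat.Prime 2) := ⟨Nat.prime_two⟩
  have hodd : Odd (Nat.card F) := Nat.odd_iff.2 (by omega)
  have hK := isKleinFour_vGroup hv hd
  refine ⟨fun y hyv hyd => ?_, ?_⟩
  · have h := inf_centralizers hodd hK (c := v) (d := d) (Or.inr (Or.inl rfl)) hv
      (Or.inr (Or.inr (Or.inl rfl))) hd
    rw [← h]
    exact ⟨Subgroup.mem_centralizer_singleton_iff.2 hyv.eq, Subgroup.mem_centralizer_singleton_iff.2 hyd.eq⟩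
  have hp : IsPGroup 2 (vGroup hv hd) := IsPGroup.of_card (n := 2) (by rw [hK.card_four]; norm_num)
  obtain ⟨P, hP⟩ := hp.exists_le_sylow
  have hPV : (P : Subgroup PSL) = vGroup hv hd := by
    refine (Subgroup.eq_of_le_of_card_ge hP ?_).symm
    obtain ⟨k, hk⟩ := IsPGroup.iff_card.1 P.isPGroup'
    have hd2 : 2 ^ k ∣ Nat.card PSL := hk ▸ Subgroup.card_subgroup_dvd_card _
    have hk3 : k < 3 := by
      by_contra h
      exact not_eight_dvd (Or.inl h8) ((Nat.pow_dvd_pow 2 (not_lt.1 h)).trans hd2)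
    rw [hk, hK.card_four, show (4 : ℕ) = 2 ^ 2 by norm_num]
    exact Nat.pow_le_pow_right two_pos (by omega)
  haveI hab : IsMulCommutative (P : Subgroup PSL) := ⟨⟨fun a b => Subtype.ext
    (commute_of_mem_klein hK (hPV ▸ a.2) (hPV ▸ b.2)).eq⟩⟩
  intro e he he1 e' he' he1'
  obtain ⟨g, hg⟩ := invol_conj hodd (invol_of_mem_klein hK he' he1') (invol_of_mem_klein hK he he1)
  obtain ⟨s, hs, hse⟩ := P.conj_eq_normalizer_conj_of_mem e g (by show e ∈ (P : Subgroup PSL); rw [hPV]; exact he) (by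
    have : g⁻¹ * e * g = e' := by rw [← hg]; group
    rw [this]; show e' ∈ (P : Subgroup PSL); rw [hPV]; exact he')
  refine ⟨s⁻¹, fun w hw => ?_, ?_⟩
  · rw [← hPV] at hw ⊢
    exact (Subgroup.mem_normalizer_iff.1 (inv_mem hs) w).1 hw
  · rw [inv_inv, ← hse, ← hg]; simp [mul_assoc]

/-- The order of `PSL(2, q)`. -/
theorem two_mul_card (hodd : Odd (Nat.card F)) :
    2 * Nat.card PSL = Nat.card F * ((Nat.card F - 1) * (Nat.card F + 1)) := by
  rw [← card_PSL (F := F), show Nat.gcd 2 (Nat.card F - 1) = 2 from dd_of_odd hodd]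

/-- Centralisers of elements of order three. -/
theorem three_data {n : ℕ} (hF : Nat.card F = 3 ^ (2 * n + 1)) {u : PSL} (hu : orderOf u = 3) :
    Nat.card (Subgroup.centralizer ({u} : Set PSL)) = Nat.card F ∧
    (∀ y : PSL, Commute y u → y ^ 3 = 1) ∧
    (∀ y z : PSL, Commute y u → Commute z u → Commute y z) ∧
    ∀ l : PSL, (∀ y : PSL, Commute y u → Commute (l * y * l⁻¹) u) → ∀ k : ℕ,
      (∀ y : PSL, Commute y u → Commute (l ^ 3 ^ k) y) → Commute l u := by
  haveI := charP_three hF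
  haveI : Fact (Nat.Prime 3) := ⟨Nat.prime_three⟩
  have h8 : Nat.card F % 8 = 3 := mod_eight hF
  have hodd : Odd (Nat.card F) := Nat.odd_iff.2 (by omega)
  have hu1 : u ≠ 1 := fun e => by rw [e, orderOf_one] at hu; omega
  have hcube : ∀ y : PSL, Commute y u → y ^ 3 = 1 := fun y hy => pow_eq_one_of_commute 3 hu hy.symm
  have hab : ∀ y z : PSL, Commute y u → Commute z u → Commute y z := fun y z =>
    commute_of_nonInvol hu1 (not_involution_of_odd hu1 (by rw [hu]; decide))
  set C := Subgroup.centralizer ({u} : Set PSL) with hC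
  have hmem : ∀ {y : PSL}, y ∈ C ↔ Commute y u := Subgroup.mem_centralizer_singleton_iff
  have hCp : IsPGroup 3 C := fun y => ⟨1, Subtype.ext (hcube y.1 (hmem.1 y.2))⟩
  have huP : IsPGroup 3 (Subgroup.zpowers u) := IsPGroup.of_card (n := 1) (by rw [Nat.card_zpowers, hu, pow_one])
  obtain ⟨P, hP⟩ := huP.exists_le_sylow
  obtain ⟨k, hk⟩ := exists_conj_mem_upperPSL 3 P.isPGroup'
  have hPab : ∀ a ∈ (P : Subgroup PSL), ∀ b ∈ (P : Subgroup PSL), Commute a b := fun a ha b hb =>
    (Commute.conj_iff k).1 (upperPSL_comm (hk a ha) (hk b hb))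
  have hPC : (P : Subgroup PSL) ≤ C := fun a ha => hmem.2 (hPab a ha u (hP (Subgroup.mem_zpowers u)))
  obtain ⟨Q, hQ⟩ := hCp.exists_le_sylow
  have hCP : C = (P : Subgroup PSL) := by
    refine (Subgroup.eq_of_le_of_card_ge hPC ?_).symm
    rw [P.card_eq_multiplicity, ← Q.card_eq_multiplicity]
    exact Subgroup.card_le_of_le hQ
  have hcard : Nat.card C = Nat.card F := by
    rw [hCP, P.card_eq_multiplicity]
    have hnd : ¬ 3 ∣ (Nat.card F - 1) * (Nat.card F + 1) := by
      have h3 : 3 ∣ Nat.card F := hF ▸ dvd_pow_self 3 (by omega)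
      intro h
      rcases Nat.prime_three.dvd_mul.1 h with h' | h' <;> omega
    have hne : Nat.card PSL ≠ 0 := Nat.card_pos.ne'
    have h1 : (2 * Nat.card PSL).factorization 3 = (Nat.card PSL).factorization 3 := by
      rw [Nat.factorization_mul (by norm_num) hne]
      simp [Nat.factorization_eq_zero_of_not_dvd (show ¬ 3 ∣ 2 by norm_num)]
    rw [← h1, two_mul_card hodd, Nat.factorization_mul Nat.card_pos.ne' (fun h => hnd (by rw [h]; exact dvd_zero 3)),
      Finsupp.add_apply, Nat.factorization_eq_zero_of_not_dvd hnd, add_zero, hF,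
      Nat.prime_three.factorization_pow, Finsupp.single_eq_same]
  refine ⟨hcard, hcube, hab, fun l hl k hlk => ?_⟩
  have hl3 : Commute (l ^ 3 ^ k) u := hlk u (Commute.refl u)
  have hlp : l ^ 3 ^ (k + 1) = 1 := by rw [pow_succ, pow_mul, hcube _ hl3]
  have hln : Subgroup.zpowers l ≤ Subgroup.normalizer (C : Set PSL) := by
    rw [Subgroup.zpowers_le, CA.mem_normalizer_iff_forall]
    exact fun y hy => hmem.2 (hl y (hmem.1 hy))
  have hlP : IsPGroup 3 (Subgroup.zpowers l) := by
    obtain ⟨i, -, hi⟩ := (Nat.dvd_prime_pow Nat.prime_three).1 (orderOf_dvd_of_pow_eq_one hlp)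
    exact IsPGroup.of_card (n := i) (by rw [Nat.card_zpowers, hi])
  obtain ⟨Q', hQ'⟩ := (hCp.to_sup_of_normal_left' hlP hln).exists_le_sylow
  have hQC : (Q' : Subgroup PSL) = C := by
    refine (Subgroup.eq_of_le_of_card_ge (le_sup_left.trans hQ') ?_).symm
    rw [Q'.card_eq_multiplicity, hCP, P.card_eq_multiplicity]
  exact hmem.1 (hQC ▸ hQ' (le_sup_right (α := Subgroup PSL) (Subgroup.mem_zpowers l)))

end CfsgLib.ReeTypeSThree
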