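import Cfsg.Agent.Lib.ReeTypeSThree.Defs
import Cfsg.Agent.Lib.ReeTypeSThree.LocalPSL
import Cfsg.Agent.Lib.OneToFive.Count
import Cfsg.Agent.S3755
import Cfsg.Agent.Lib.Offender.Involves

/-!
Centralisers of elements of order three in a group of Ree type without a section `S₃` (S2755): the
hypotheses of the counting congruence and the Sylow 3-subgroups.
-/

set_option autoImplicit false
set_option linter.style.haveILetI false
set_option linter.unusedSectionVars false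

namespace CfsgLib.ReeTypeSThree

open Matrix (ProjectiveSpecialLinearGroup)

universe u v

variable {G : Type u} [Group G] [Finite G] {F : Type v} [Field F] [Finite F]

local notation "PSL" => ProjectiveSpecialLinearGroup (Fin 2) F

/-- The hypotheses: `C(t) = ⟨t⟩ × PSL(2, q)`, of odd index, and no section is `S₃`. -/
structure Loc (t : G) (ι : ProjectiveSpecialLinearGroup (Fin 2) F →* G) : Prop where
  card_field : ∃ n, 1 ≤ n ∧ Nat.card F = 3 ^ (2 * n + 1)
  orderOf_t : orderOf t = 2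
  inj : Function.Injective ι
  comm : ∀ l, Commute t (ι l)
  not_mem : t ∉ ι.range
  cent : ∀ c, Commute c t → ∃ l, c = ι l ∨ c = t * ι l
  odd_index : Odd (Subgroup.centralizer ({t} : Set G)).index
  perfect : commutator G = ⊤
  noS3 : ¬ Cfsg.Involves (Equiv.Perm (Fin 3)) G

theorem eq_of_mem_zpowers_two {H : Type*} [Group H] {t x : H} (ht : t * t = 1)
    (hx : x ∈ Subgroup.zpowers t) : x = 1 ∨ x = t := by
  obtain ⟨i, rfl⟩ := Subgroup.mem_zpowers_iff.1 hx
  rcases Int.even_or_odd i with ⟨j, rfl⟩ | ⟨j, rfl⟩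
  · left; rw [← two_mul, zpow_mul, zpow_two, ht, one_zpow]
  · right; rw [zpow_add_one, zpow_mul, zpow_two, ht, one_zpow, one_mul]

theorem eq_one_of_pow_coprime {H : Type*} [Group H] {x : H} {a b : ℕ} (ha : x ^ a = 1) (hb : x ^ b = 1)
    (h : Nat.Coprime a b) : x = 1 :=
  orderOf_eq_one_iff.1 (Nat.dvd_one.1
    (h ▸ Nat.dvd_gcd (orderOf_dvd_of_pow_eq_one ha) (orderOf_dvd_of_pow_eq_one hb)))

namespace Loc

variable {t : G} {ι : ProjectiveSpecialLinearGroup (Fin 2) F →* G} (S : Loc t ι)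
include S

theorem tt : t * t = 1 := by rw [← pow_two, ← S.orderOf_t, pow_orderOf_eq_one]

theorem tinv : t⁻¹ = t := inv_eq_of_mul_eq_one_right S.tt

theorem t_ne : t ≠ 1 := fun e => by have := S.orderOf_t; rw [e, orderOf_one] at this; omega

theorem ne_t (l : PSL) : ι l ≠ t := fun e => S.not_mem ⟨l, e⟩

theorem commute_iff {a b : PSL} : Commute (ι a) (ι b) ↔ Commute a b :=
  ⟨fun h => S.inj (by rw [map_mul, map_mul]; exact h.eq), fun h => h.map ι⟩

theorem no_inv {x g : G} (hx : x * x = 1) (hx1 : x ≠ 1) :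
    ∀ k : ℕ, g ^ 3 ^ k = 1 → x * g * x⁻¹ = g⁻¹ → g = 1 := by
  intro k
  induction k generalizing g with
  | zero => intro h _; rwa [pow_zero, pow_one] at h
  | succ k ih =>
    intro h hinv
    refine ih ?_ hinv
    by_contra hne
    exact S.noS3 (CfsgLib.Offender.involves_of_injective (⊤ : Subgroup G).subtype Subtype.val_injective
      (Cfsg.Agent.S3755.involves_three (Subgroup.mem_top x) (Subgroup.mem_top (g ^ 3 ^ k)) hx hx1
        (by rw [← pow_mul, ← pow_succ]; exact h) hne (by rw [← conj_pow, hinv, inv_pow])))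

theorem cent_of_odd {c : G} (hc : Commute c t) {n : ℕ} (hn : Odd n) (h : c ^ n = 1) :
    ∃ l, c = ι l := by
  obtain ⟨l, e | e⟩ := S.cent c hc
  · exact ⟨l, e⟩
  · obtain ⟨j, rfl⟩ := hn
    rw [e, (S.comm l).mul_pow, pow_succ t, pow_mul t, pow_two, S.tt, one_pow, one_mul, ← map_pow,
      mul_eq_one_iff_eq_inv, ← map_inv] at h
    exact (S.ne_t _ h.symm).elim

/-- Elements of `C(t)` commute with `ι u` when their linear parts commute with `u`. -/
theorem cent_commute {c : G} {u : PSL} (hc : Commute c t) (hu : Commute c (ι u)) :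
    ∃ l, Commute l u ∧ (c = ι l ∨ c = t * ι l) := by
  obtain ⟨l, e | e⟩ := S.cent c hc
  · exact ⟨l, S.commute_iff.1 (e ▸ hu), Or.inl e⟩
  · refine ⟨l, S.commute_iff.1 ?_, Or.inr e⟩
    have h := (S.comm u).mul_left hu
    rwa [e, ← mul_assoc, S.tt, one_mul] at h

variable {u : ProjectiveSpecialLinearGroup (Fin 2) F} (hu : orderOf u = 3)
include hu

theorem u_data : Nat.card (Subgroup.centralizer ({u} : Set PSL)) = Nat.card F ∧
    (∀ y : PSL, Commute y u → y ^ 3 = 1) ∧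
    (∀ y z : PSL, Commute y u → Commute z u → Commute y z) ∧
    ∀ l : PSL, (∀ y : PSL, Commute y u → Commute (l * y * l⁻¹) u) → ∀ k : ℕ,
      (∀ y : PSL, Commute y u → Commute (l ^ 3 ^ k) y) → Commute l u := by
  obtain ⟨n, -, hF⟩ := S.card_field
  exact three_data hF hu

theorem mem_U {x : G} :
    x ∈ (Subgroup.centralizer ({u} : Set PSL)).map ι ↔ ∃ l, Commute l u ∧ x = ι l := by
  rw [Subgroup.mem_map]
  exact ⟨fun ⟨l, hl, e⟩ => ⟨l, Subgroup.mem_centralizer_singleton_iff.1 hl, e.symm⟩,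
    fun ⟨l, hl, e⟩ => ⟨l, Subgroup.mem_centralizer_singleton_iff.2 hl.eq, e.symm⟩⟩

theorem two_cent {x : G} (hxt : Commute x t) (hxu : Commute x (ι u)) {k : ℕ} (hx : x ^ 2 ^ k = 1) :
    x = 1 ∨ x = t := by
  obtain ⟨l, hl, e⟩ := S.cent_commute hxt hxu
  have hl2 : l ^ 2 ^ (k + 1) = 1 := by
    refine S.inj ?_
    rw [map_pow, map_one]
    rcases e with e | e
    · rw [← e, pow_succ, pow_mul, hx, one_pow]
    · rw [show ι l = t * x by rw [e, ← mul_assoc, S.tt, one_mul], hxt.symm.mul_pow, pow_succ 2 k,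
        pow_mul x, hx, one_pow, mul_one, mul_comm, pow_mul, pow_two, S.tt, one_pow]
  have hl1 : l = 1 := eq_one_of_pow_coprime ((S.u_data hu).2.1 l hl) hl2
    (Nat.Coprime.pow_right _ (by norm_num))
  rcases e with e | e <;> rw [hl1, map_one] at e
  · exact Or.inl e
  · exact Or.inr (by rw [e, mul_one])

/-- A subgroup of `C(ι u)` containing `t` has Sylow 2-subgroup `⟨t⟩`: its involutions are conjugate,
and there is a homomorphism onto a group of order two whose kernel has odd order. -/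
theorem sylow_two {C : Subgroup G} (hCu : ∀ c ∈ C, Commute c (ι u)) (htC : t ∈ C) :
    (∀ s ∈ C, s * s = 1 → s ≠ 1 → ∃ c ∈ C, c * s * c⁻¹ = t) ∧
    ∃ (A : Subgroup C) (φ : C →* A), Nat.card A = 2 ∧ (∀ a b : A, a * b = b * a) ∧
      φ ⟨t, htC⟩ ≠ 1 ∧ Odd (Nat.card φ.ker) := by
  haveI : Fact (Nat.Prime 2) := ⟨Nat.prime_two⟩
  set t' : C := ⟨t, htC⟩ with ht'
  have ht2 : t' * t' = 1 := Subtype.ext S.tt
  have hto : orderOf t' = 2 := by rw [Subgroup.orderOf_mk, S.orderOf_t]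
  have h4 : ¬ 4 ∣ Nat.card C := by
    intro h
    obtain ⟨K, hK, hle⟩ := Sylow.exists_subgroup_card_pow_succ (p := 2) (n := 1) (by simpa using h)
      (H := Subgroup.zpowers t') (by rw [Nat.card_zpowers, hto, pow_one])
    have hKz : K ≤ Subgroup.zpowers t' := by
      intro x hx
      have hc : Commute x t' := congrArg Subtype.val (IsPGroup.commutative_of_card_eq_prime_sq hK
        ⟨x, hx⟩ ⟨t', hle (Subgroup.mem_zpowers t')⟩)
      have hx4 : (x : G) ^ 2 ^ 2 = 1 := by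
        have h' : (⟨x, hx⟩ : K) ^ Nat.card K = 1 := pow_card_eq_one'
        rw [hK] at h'
        exact congrArg (fun z : K => ((z : C) : G)) h'
      rcases S.two_cent hu (congrArg Subtype.val hc.eq) (hCu _ x.2) hx4 with e | e
      · rw [show x = 1 from Subtype.ext e]; exact one_mem _
      · rw [show x = t' from Subtype.ext e]; exact Subgroup.mem_zpowers t'
    have := Subgroup.card_le_of_le hKz
    rw [hK, Nat.card_zpowers, hto] at this
    omega
  have hsyl : ∀ s : C, orderOf s = 2 → ∃ P : Sylow 2 C, (P : Subgroup C) = Subgroup.zpowers s := by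
    intro s hs
    have hp : IsPGroup 2 (Subgroup.zpowers s) :=
      IsPGroup.of_card (n := 1) (by rw [Nat.card_zpowers, hs, pow_one])
    obtain ⟨P, hP⟩ := hp.exists_le_sylow
    refine ⟨P, (Subgroup.eq_of_le_of_card_ge hP ?_).symm⟩
    obtain ⟨k, hk⟩ := IsPGroup.iff_card.1 P.isPGroup'
    have hk2 : k < 2 := by
      by_contra hk2
      exact h4 (((Nat.pow_dvd_pow 2 (not_lt.1 hk2)).trans dvd_rfl).trans
        (hk ▸ Subgroup.card_subgroup_dvd_card _))
    rw [hk, Nat.card_zpowers, hs]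
    calc 2 ^ k ≤ 2 ^ 1 := Nat.pow_le_pow_right two_pos (by omega)
      _ = 2 := pow_one 2
  obtain ⟨P, hP⟩ := hsyl t' hto
  refine ⟨fun s hs hss hs1 => ?_, ?_⟩
  · have hso : orderOf (⟨s, hs⟩ : C) = 2 := by
      rw [Subgroup.orderOf_mk]; exact orderOf_eq_prime (by rw [pow_two, hss]) hs1
    obtain ⟨Q, hQ⟩ := hsyl _ hso
    obtain ⟨c, hc⟩ := MulAction.exists_smul_eq C Q P
    have hm : c * ⟨s, hs⟩ * c⁻¹ ∈ Subgroup.zpowers t' := by
      rw [← hP, ← hc, Sylow.coe_subgroup_smul, hQ]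
      exact Subgroup.smul_mem_pointwise_smul _ (MulAut.conj c) _ (Subgroup.mem_zpowers _)
    rcases eq_of_mem_zpowers_two ht2 hm with e | e
    · exact absurd (congrArg Subtype.val (conj_eq_one_iff.1 e)) hs1
    · exact ⟨c, c.2, congrArg Subtype.val e⟩
  · have hN : Subgroup.normalizer ((P : Subgroup C) : Set C) ≤
        Subgroup.centralizer ((P : Subgroup C) : Set C) := by
      intro g hg
      rw [Subgroup.mem_centralizer_iff]
      intro x hx
      rw [SetLike.mem_coe, hP] at hx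
      rcases eq_of_mem_zpowers_two ht2 hx with rfl | rfl
      · simp
      have hm := (Subgroup.mem_normalizer_iff.1 hg t').1 (by rw [hP]; exact Subgroup.mem_zpowers t')
      rw [hP] at hm
      rcases eq_of_mem_zpowers_two ht2 hm with e | e
      · exact absurd (congrArg Subtype.val (conj_eq_one_iff.1 e)) S.t_ne
      · exact (mul_inv_eq_iff_eq_mul.1 e).symm
    have hcP : Nat.card (P : Subgroup C) = 2 := by rw [hP, Nat.card_zpowers, hto]
    refine ⟨P, MonoidHom.transferSylow P hN, hcP, fun a b => Subtype.ext ?_, fun e => ?_, ?_⟩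
    · exact (hN (Subgroup.le_normalizer b.2) a a.2)
    · exact S.t_ne (congrArg Subtype.val ((Subgroup.disjoint_def.1
        (MonoidHom.ker_transferSylow_disjoint P hN _ P.isPGroup')) (MonoidHom.mem_ker.2 e)
        (by rw [hP]; exact Subgroup.mem_zpowers t')))
    · rw [← Nat.not_even_iff_odd, even_iff_two_dvd]
      exact MonoidHom.not_dvd_card_ker_transferSylow P hN

theorem a_mem_U : ι u ∈ (Subgroup.centralizer ({u} : Set PSL)).map ι :=
  (S.mem_U hu).2 ⟨u, Commute.refl u, rfl⟩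

theorem commute_U {x : G} (hx : x ∈ (Subgroup.centralizer ({u} : Set PSL)).map ι) :
    Commute t x ∧ Commute x (ι u) ∧ x ^ 3 = 1 := by
  obtain ⟨l, hl, rfl⟩ := (S.mem_U hu).1 hx
  exact ⟨S.comm l, hl.map ι, by rw [← map_pow, (S.u_data hu).2.1 l hl, map_one]⟩

theorem t_mem_cent : t ∈ Subgroup.centralizer
    ((Subgroup.centralizer ({u} : Set PSL)).map ι : Set G) :=
  Subgroup.mem_centralizer_iff.2 fun _ hx => (S.commute_U hu hx).1.eq.symm

theorem cent_le {c : G} (hc : c ∈ Subgroup.centralizer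
    ((Subgroup.centralizer ({u} : Set PSL)).map ι : Set G)) : Commute c (ι u) :=
  ((Subgroup.mem_centralizer_iff.1 hc) _ (S.a_mem_U hu)).symm

/-- A 3-element centralising `U = ι (C(u))` lies in `U`. -/
theorem mem_U_of_centralizes {g : G} (hg : g ∈ Subgroup.centralizer
    ((Subgroup.centralizer ({u} : Set PSL)).map ι : Set G)) {k : ℕ} (hk : g ^ 3 ^ k = 1) :
    g ∈ (Subgroup.centralizer ({u} : Set PSL)).map ι := by
  haveI : Fact (Nat.Prime 3) := ⟨Nat.prime_three⟩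
  set U := (Subgroup.centralizer ({u} : Set PSL)).map ι with hU
  set C := Subgroup.centralizer (U : Set G) with hC
  obtain ⟨hconj, A, φ, hA, hAc, hφt, hker⟩ := S.sylow_two hu (C := C) (fun c hc => S.cent_le hu hc)
    (S.t_mem_cent hu)
  have hA2 : ∀ a : A, a ^ 2 = 1 := fun a => by rw [← hA]; exact pow_card_eq_one'
  have hgK : (⟨g, hg⟩ : C) ∈ φ.ker :=
    eq_one_of_pow_coprime (hA2 _) (by rw [← map_pow, show (⟨g, hg⟩ : C) ^ 3 ^ k = 1 from
      Subtype.ext hk, map_one]) (Nat.Coprime.pow_right _ (by norm_num))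
  have hgp : IsPGroup 3 (Subgroup.zpowers (⟨⟨g, hg⟩, hgK⟩ : φ.ker)) := by
    have h : orderOf (⟨⟨g, hg⟩, hgK⟩ : φ.ker) ∣ 3 ^ k :=
      orderOf_dvd_of_pow_eq_one (Subtype.ext (Subtype.ext hk))
    obtain ⟨i, -, hi⟩ := (Nat.dvd_prime_pow Nat.prime_three).1 h
    exact IsPGroup.of_card (n := i) (by rw [Nat.card_zpowers, hi])
  obtain ⟨P, hP⟩ := hgp.exists_le_sylow
  set R := ((P : Subgroup φ.ker).map φ.ker.subtype) with hR
  have hsup : Subgroup.normalizer (R : Set C) ⊔ φ.ker = ⊤ := Sylow.normalizer_sup_eq_top P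
  obtain ⟨x, hxN, hxK⟩ : ∃ x ∈ Subgroup.normalizer (R : Set C), x ∉ φ.ker := by
    by_contra h
    push Not at h
    refine hφt (MonoidHom.mem_ker.1 ?_)
    have h2 : φ.ker = ⊤ := by
      rw [← hsup]
      exact (sup_of_le_right (fun y hy => h y hy)).symm
    rw [h2]; exact Subgroup.mem_top _
  obtain ⟨j, hj⟩ : Even (orderOf x) := by
    by_contra h
    rw [Nat.not_even_iff_odd] at h
    exact hxK (eq_one_of_pow_coprime (hA2 _) (by rw [← map_pow, pow_orderOf_eq_one, map_one])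
      (Nat.coprime_two_left.2 h))
  have hj0 := orderOf_pos x
  have hss : (x ^ j : C) * x ^ j = 1 := by rw [← pow_add, ← hj, pow_orderOf_eq_one]
  have hs1 : (x ^ j : C) ≠ 1 := pow_ne_one_of_lt_orderOf (by omega) (by omega)
  obtain ⟨c, hc, hcs⟩ := hconj _ (x ^ j).2 (congrArg Subtype.val hss)
    (fun e => hs1 (Subtype.ext e))
  have key : ∀ r ∈ R, (r : G) ∈ U := by
    intro r hr
    have hrp : ∀ r ∈ R, ∃ i : ℕ, (r : G) ^ 3 ^ i = 1 := fun r hr => by
      obtain ⟨i, hi⟩ := P.isPGroup'.map φ.ker.subtype ⟨r, hr⟩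
      exact ⟨i, congrArg (fun z : ↥R => ((z : C) : G)) hi⟩
    have hr' : x ^ j * r * (x ^ j)⁻¹ ∈ R := (Subgroup.mem_normalizer_iff.1 (pow_mem hxN j) r).1 hr
    obtain ⟨i, hi⟩ := hrp _ (mul_mem (inv_mem hr) hr')
    obtain ⟨r₁, hr₁⟩ : ∃ r₁ : G, r₁ = c * r * c⁻¹ := ⟨_, rfl⟩
    have hy : r₁⁻¹ * (t * r₁ * t⁻¹) = c * ((r⁻¹ * (x ^ j * r * (x ^ j)⁻¹) : C) : G) * c⁻¹ := by
      rw [hr₁, ← hcs, Subgroup.coe_mul, Subgroup.coe_mul, Subgroup.coe_mul, Subgroup.coe_inv,
        Subgroup.coe_inv]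
      group
    have h1 : r₁⁻¹ * (t * r₁ * t⁻¹) = 1 := by
      refine S.no_inv S.tt S.t_ne i ?_ ?_
      · rw [hy, conj_pow, hi, mul_one, mul_inv_cancel]
      · rw [S.tinv, mul_inv_rev, mul_inv_rev, mul_inv_rev, inv_inv, S.tinv]
        calc t * (r₁⁻¹ * (t * r₁ * t)) * t = t * r₁⁻¹ * t * r₁ * (t * t) := by group
          _ = _ := by rw [S.tt]; group
    have hct : Commute r₁ t := by
      have e : t * r₁ * t⁻¹ = r₁ := (inv_mul_eq_one.1 h1).symm
      exact (mul_inv_eq_iff_eq_mul.1 e).symm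
    obtain ⟨i', hi'⟩ := hrp r hr
    have hr₁C : r₁ ∈ C := hr₁ ▸ mul_mem (mul_mem hc r.2) (inv_mem hc)
    have hp1 : r₁ ^ 3 ^ i' = 1 := by rw [hr₁, conj_pow, hi', mul_one, mul_inv_cancel]
    obtain ⟨l, hl⟩ := S.cent_of_odd hct (Odd.pow (by decide)) hp1
    have hlU : r₁ ∈ U := (S.mem_U hu).2 ⟨l, S.commute_iff.1 (hl ▸ S.cent_le hu hr₁C), hl⟩
    have e : (r : G) = r₁ := by
      have h2 : r₁ * c = c * r₁ := Subgroup.mem_centralizer_iff.1 hc r₁ hlU
      calc (r : G) = c⁻¹ * (r₁ * c) := by rw [hr₁]; group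
        _ = r₁ := by rw [h2]; group
    exact e ▸ hlU
  exact key ⟨g, hg⟩ ⟨⟨⟨g, hg⟩, hgK⟩, hP (Subgroup.mem_zpowers _), rfl⟩

/-- An element normalising `U` is, modulo `C(U)`, in `C(t)`. -/
theorem exists_cent_of_normalizes {g : G} (hg : g ∈ Subgroup.normalizer
    ((Subgroup.centralizer ({u} : Set PSL)).map ι : Set G)) :
    ∃ c ∈ Subgroup.centralizer ((Subgroup.centralizer ({u} : Set PSL)).map ι : Set G),
      Commute (c * g) t := by
  set U := (Subgroup.centralizer ({u} : Set PSL)).map ι with hU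
  have hs : g * t * g⁻¹ ∈ Subgroup.centralizer (U : Set G) := by
    rw [Subgroup.mem_centralizer_iff]
    intro x hx
    have hx' : g⁻¹ * x * g ∈ U := by
      have := (Subgroup.mem_normalizer_iff.1 (inv_mem hg) x).1 hx
      rwa [inv_inv] at this
    have h : Commute (g * t * g⁻¹) (g * (g⁻¹ * x * g) * g⁻¹) :=
      (Commute.conj_iff g).2 (S.commute_U hu hx').1
    rw [show g * (g⁻¹ * x * g) * g⁻¹ = x by group] at h
    exact h.eq.symm
  obtain ⟨c, hc, e⟩ := (S.sylow_two hu (C := Subgroup.centralizer (U : Set G))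
    (fun c hc => S.cent_le hu hc) (S.t_mem_cent hu)).1 _ hs
    (by rw [show g * t * g⁻¹ * (g * t * g⁻¹) = g * (t * t) * g⁻¹ by group, S.tt]; group)
    (fun e => S.t_ne (conj_eq_one_iff.1 e))
  refine ⟨c, hc, ?_⟩
  have e' : c * g * t * (c * g)⁻¹ = t := (by group : c * g * t * (c * g)⁻¹ = c * (g * t * g⁻¹) * c⁻¹).trans e
  exact mul_inv_eq_iff_eq_mul.1 e'

theorem mem_U_of_normalizes {g : G} (hg : g ∈ Subgroup.normalizer
    ((Subgroup.centralizer ({u} : Set PSL)).map ι : Set G)) {k : ℕ} (hk : g ^ 3 ^ k = 1) :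
    g ∈ (Subgroup.centralizer ({u} : Set PSL)).map ι := by
  obtain ⟨c, hc, hct⟩ := S.exists_cent_of_normalizes hu hg
  set U := (Subgroup.centralizer ({u} : Set PSL)).map ι with hU
  have hpow : ∀ j : ℕ, ∀ x ∈ U, (c * g) ^ j * x * ((c * g) ^ j)⁻¹ = g ^ j * x * (g ^ j)⁻¹ := by
    intro j
    induction j with
    | zero => simp
    | succ j ih =>
      intro x hx
      have h1 : g * x * g⁻¹ ∈ U := (Subgroup.mem_normalizer_iff.1 hg x).1 hx
      have h2 : c * (g * x * g⁻¹) * c⁻¹ = g * x * g⁻¹ := by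
        rw [← Subgroup.mem_centralizer_iff.1 hc _ h1]; group
      calc (c * g) ^ (j + 1) * x * ((c * g) ^ (j + 1))⁻¹
          = (c * g) ^ j * (c * (g * x * g⁻¹) * c⁻¹) * ((c * g) ^ j)⁻¹ := by
            rw [pow_succ]; group
        _ = g ^ j * (g * x * g⁻¹) * (g ^ j)⁻¹ := by rw [h2, ih _ h1]
        _ = _ := by rw [pow_succ]; group
  obtain ⟨l, hl⟩ := S.cent _ hct
  have hact : ∀ j : ℕ, ∀ y : PSL, (c * g) ^ j * ι y * ((c * g) ^ j)⁻¹ = ι (l ^ j * y * (l ^ j)⁻¹) := by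
    intro j y
    rcases hl with e | e <;> rw [e]
    · simp
    · rw [(S.comm l).mul_pow, map_mul, map_mul, map_inv, map_pow]
      calc t ^ j * ι l ^ j * ι y * (t ^ j * ι l ^ j)⁻¹
          = t ^ j * (ι l ^ j * ι y * (ι l ^ j)⁻¹) * (t ^ j)⁻¹ := by group
        _ = _ := by
          rw [← map_pow, ← map_inv, ← map_mul, ← map_mul, ((S.comm _).pow_left j).eq,
            mul_inv_cancel_right]
  have hlu : Commute l u := by
    refine (S.u_data hu).2.2.2 l (fun y hy => ?_) k (fun y hy => ?_)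
    · have hyU : ι y ∈ U := (S.mem_U hu).2 ⟨y, hy, rfl⟩
      have h1 := (Subgroup.mem_normalizer_iff.1 hg _).1 hyU
      rw [← pow_one g, ← hpow 1 _ hyU, hact 1 y, pow_one] at h1
      exact S.commute_iff.1 ((S.commute_U hu h1).2.1)
    · have hyU : ι y ∈ U := (S.mem_U hu).2 ⟨y, hy, rfl⟩
      have h := hact (3 ^ k) y
      rw [hpow _ _ hyU, hk, inv_one, one_mul, mul_one] at h
      exact mul_inv_eq_iff_eq_mul.1 (S.inj h).symm
  have hcg : c * g ∈ Subgroup.centralizer (U : Set G) := by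
    rw [Subgroup.mem_centralizer_iff]
    intro x hx
    obtain ⟨y, hy, rfl⟩ := (S.mem_U hu).1 hx
    have h := hact 1 y
    rw [pow_one, pow_one, show l * y * l⁻¹ = y from
      mul_inv_eq_iff_eq_mul.2 ((S.u_data hu).2.2.1 l y hlu hy).eq] at h
    exact (mul_inv_eq_iff_eq_mul.1 h).symm
  have hgc := mul_mem (inv_mem hc) hcg
  rw [inv_mul_cancel_left] at hgc
  exact S.mem_U_of_centralizes hu hgc hk

theorem card_U : Nat.card ((Subgroup.centralizer ({u} : Set PSL)).map ι) = Nat.card F := by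
  rw [← (S.u_data hu).1]
  exact (Nat.card_congr ((Subgroup.centralizer ({u} : Set PSL)).equivMapOfInjective ι S.inj).toEquiv).symm

/-- `U` is a Sylow 3-subgroup. -/
theorem not_three_mul_dvd : ¬ 3 * Nat.card F ∣ Nat.card G := by
  haveI : Fact (Nat.Prime 3) := ⟨Nat.prime_three⟩
  obtain ⟨n, -, hF⟩ := S.card_field
  intro h
  set U := (Subgroup.centralizer ({u} : Set PSL)).map ι with hU
  have hd := Sylow.prime_dvd_card_quotient_normalizer (p := 3) (n := 2 * n + 1)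
    (by rw [pow_succ, ← hF, mul_comm]; exact h) (H := U) (by rw [S.card_U hu, hF])
  haveI : (U.subgroupOf (Subgroup.normalizer (U : Set G))).Normal := Subgroup.normal_in_normalizer
  obtain ⟨z, hz⟩ := exists_prime_orderOf_dvd_card'
    (G := ↥(Subgroup.normalizer (U : Set G)) ⧸ U.subgroupOf (Subgroup.normalizer (U : Set G))) 3 hd
  obtain ⟨g, rfl⟩ := QuotientGroup.mk_surjective z
  have h1 : ((g ^ 3 : ↥(Subgroup.normalizer (U : Set G))) :
      ↥(Subgroup.normalizer (U : Set G)) ⧸ U.subgroupOf (Subgroup.normalizer (U : Set G))) = 1 := by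
    rw [QuotientGroup.mk_pow, ← hz, pow_orderOf_eq_one]
  have h3 : (g : G) ^ 3 ∈ U := Subgroup.mem_subgroupOf.1 ((QuotientGroup.eq_one_iff _).1 h1)
  have h9 : (g : G) ^ 3 ^ 2 = 1 := by
    rw [show 3 ^ 2 = 3 * 3 by norm_num, pow_mul]; exact (S.commute_U hu h3).2.2
  have hgU := S.mem_U_of_normalizes hu g.2 h9
  rw [(QuotientGroup.eq_one_iff g).2 (Subgroup.mem_subgroupOf.2 hgU), orderOf_one] at hz
  omega

theorem index_three : ¬ 3 ∣ (Subgroup.centralizer ({t} : Set G)).index := by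
  intro h
  refine S.not_three_mul_dvd hu ?_
  rw [mul_comm, ← (Subgroup.centralizer ({t} : Set G)).card_mul_index, ← S.card_U hu]
  refine mul_dvd_mul (Subgroup.card_dvd_of_le ?_) h
  intro x hx
  exact Subgroup.mem_centralizer_singleton_iff.2 (S.commute_U hu hx).1.eq.symm

/-- A homomorphism from `C(ι u)` onto a commutative 3-group with kernel of order prime to three. -/
theorem sylow_three : ∃ (A : Subgroup (Subgroup.centralizer ({ι u} : Set G)))
    (φ : Subgroup.centralizer ({ι u} : Set G) →* A),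
      (∀ a b : A, a * b = b * a) ∧ IsPGroup 3 A ∧ ¬ 3 ∣ Nat.card φ.ker := by
  haveI : Fact (Nat.Prime 3) := ⟨Nat.prime_three⟩
  obtain ⟨n, -, hF⟩ := S.card_field
  set U := (Subgroup.centralizer ({u} : Set PSL)).map ι with hU
  set C := Subgroup.centralizer ({ι u} : Set G) with hC
  have hUC : U ≤ C := fun x hx => Subgroup.mem_centralizer_singleton_iff.2 (S.commute_U hu hx).2.1.eq
  have hcard : Nat.card (U.subgroupOf C) = 3 ^ (2 * n + 1) := by
    rw [Nat.card_congr (Subgroup.subgroupOfEquivOfLe hUC).toEquiv, S.card_U hu, hF]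
  obtain ⟨P, hP⟩ := (IsPGroup.of_card hcard).exists_le_sylow
  have hPU : (P : Subgroup C) = U.subgroupOf C := by
    refine (Subgroup.eq_of_le_of_card_ge hP ?_).symm
    obtain ⟨k, hk⟩ := IsPGroup.iff_card.1 P.isPGroup'
    rw [hcard, hk]
    refine Nat.pow_le_pow_right (by norm_num) ?_
    by_contra hlt
    refine S.not_three_mul_dvd hu ?_
    rw [hF, mul_comm, ← pow_succ]
    exact ((Nat.pow_dvd_pow 3 (not_le.1 hlt)).trans (hk ▸ Subgroup.card_subgroup_dvd_card _)).trans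
      (Subgroup.card_subgroup_dvd_card C)
  have hN : Subgroup.normalizer ((P : Subgroup C) : Set C) ≤
      Subgroup.centralizer ((P : Subgroup C) : Set C) := by
    intro g hg
    rw [hPU] at hg
    have hgN : (g : G) ∈ Subgroup.normalizer (U : Set G) := by
      rw [CfsgLib.SL2.CA.mem_normalizer_iff_forall]
      intro x hx
      exact Subgroup.mem_subgroupOf.1 ((Subgroup.mem_normalizer_iff.1 hg ⟨x, hUC hx⟩).1
        (Subgroup.mem_subgroupOf.2 hx))
    obtain ⟨c, hc, hct⟩ := S.exists_cent_of_normalizes hu hgN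
    obtain ⟨l, hl, e⟩ := S.cent_commute (u := u) hct
      ((S.cent_le hu hc).mul_left (Subgroup.mem_centralizer_singleton_iff.1 g.2))
    rw [Subgroup.mem_centralizer_iff]
    intro x hx
    rw [SetLike.mem_coe, hPU, Subgroup.mem_subgroupOf] at hx
    obtain ⟨y, hy, hxy⟩ := (S.mem_U hu).1 hx
    have h1 : Commute (ι l) (x : G) := hxy ▸ ((S.u_data hu).2.2.1 l y hl hy).map ι
    have h2 : Commute (c * (g : G)) (x : G) := by
      rcases e with e | e <;> rw [e]
      · exact h1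
      · exact (S.commute_U hu hx).1.mul_left h1
    have h3 : Commute c (x : G) := (Subgroup.mem_centralizer_iff.1 hc _ hx).symm
    have h4 := h3.inv_left.mul_left h2
    rw [inv_mul_cancel_left] at h4
    exact Subtype.ext h4.eq.symm
  exact ⟨P, MonoidHom.transferSylow P hN,
    fun a b => Subtype.ext (hN (Subgroup.le_normalizer b.2) a a.2), P.isPGroup',
    MonoidHom.not_dvd_card_ker_transferSylow P hN⟩

theorem card_cent_ut {n : ℕ} (hn : Nat.card F = n) :
    Nat.card (Subgroup.centralizer ({ι u * t} : Set G)) = 2 * n := by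
  have h6 : Commute (ι u) t := (S.comm u).symm
  have hu3 : ι u ^ 3 = 1 := by rw [← map_pow, ← hu, pow_orderOf_eq_one, map_one]
  let f : Bool × Subgroup.centralizer ({u} : Set PSL) →
      Subgroup.centralizer ({ι u * t} : Set G) := fun p => ⟨(if p.1 then t else 1) * ι p.2, by
    rw [Subgroup.mem_centralizer_singleton_iff]
    have hl : Commute (ι (p.2 : PSL)) (ι u) :=
      (Commute.map (Subgroup.mem_centralizer_singleton_iff.1 p.2.2) ι)
    have ht : Commute t (ι u * t) := h6.symm.mul_right (Commute.refl t)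
    have hlt : Commute (ι (p.2 : PSL)) (ι u * t) := hl.mul_right (S.comm _).symm
    rcases p.1 with _ | _
    · simpa using hlt.eq
    · simpa using (ht.mul_left hlt).eq⟩
  have hf : Function.Bijective f := by
    refine ⟨?_, ?_⟩
    · rintro ⟨b, l⟩ ⟨b', l'⟩ e
      have e' := congrArg Subtype.val e
      simp only [f] at e'
      rcases b with _ | _ <;> rcases b' with _ | _ <;> simp only [Bool.false_eq_true, if_false, if_true,
        one_mul] at e'
      · rw [Subtype.ext (S.inj e')]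
      · exact (S.ne_t (l * (l' : PSL)⁻¹) (by rw [map_mul, map_inv, e', mul_inv_cancel_right])).elim
      · exact (S.ne_t ((l' : PSL) * (l : PSL)⁻¹) (by rw [map_mul, map_inv, ← e', mul_inv_cancel_right])).elim
      · rw [Subtype.ext (S.inj (mul_left_cancel e'))]
    · rintro ⟨c, hc⟩
      rw [Subgroup.mem_centralizer_singleton_iff] at hc
      have hp : ∀ k : ℕ, (ι u * t) ^ k = ι u ^ k * t ^ k := h6.mul_pow
      have h3 : Commute c ((ι u * t) ^ 3) := Commute.pow_right hc 3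
      have h4 : Commute c ((ι u * t) ^ 4) := Commute.pow_right hc 4
      rw [hp, hu3, one_mul, pow_succ, pow_two, S.tt, one_mul] at h3
      rw [hp, pow_succ (ι u), hu3, one_mul, show 4 = 2 * 2 by norm_num, pow_mul, pow_two t, S.tt,
        one_pow, mul_one] at h4
      obtain ⟨l, hl, e | e⟩ := S.cent_commute h3 h4
      · exact ⟨(false, ⟨l, Subgroup.mem_centralizer_singleton_iff.2 hl.eq⟩), Subtype.ext (by simp [f, e])⟩
      · exact ⟨(true, ⟨l, Subgroup.mem_centralizer_singleton_iff.2 hl.eq⟩), Subtype.ext (by simp [f, e])⟩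
  rw [← Nat.card_eq_of_bijective f hf, Nat.card_prod, (S.u_data hu).1, hn]
  simp

/-- The hypotheses of the counting congruence for `ι u * t`. -/
theorem exists_countHyp : ∃ W : Subgroup G, CountHyp t (ι u) (Nat.card F) W ∧
    (∀ x, Commute x (ι u) → Odd (orderOf x) → ¬ 3 ∣ orderOf x → x ∈ W) ∧
    (∀ w ∈ W, Odd (orderOf w) ∧ ¬ 3 ∣ orderOf w) ∧
    (∀ w ∈ W, ∀ w' ∈ W, Commute w w') ∧
    ∀ c w, Commute c (ι u) → w ∈ W → c * w * c⁻¹ ∈ W := by
  haveI : Fact (Nat.Prime 3) := ⟨Nat.prime_three⟩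
  obtain ⟨n, -, hF⟩ := S.card_field
  set C := Subgroup.centralizer ({ι u} : Set G) with hC
  have hmem : ∀ {x : G}, x ∈ C ↔ Commute x (ι u) := Subgroup.mem_centralizer_singleton_iff
  have htC : t ∈ C := hmem.2 (S.comm u)
  obtain ⟨hconj, A2, φ, hA2, hc2, -, hk2⟩ := S.sylow_two hu (C := C) (fun c hc => hmem.1 hc) htC
  obtain ⟨A3, ψ, hc3, hp3, hk3⟩ := S.sylow_three hu
  set W := (φ.ker ⊓ ψ.ker).map C.subtype with hW
  have hWC : ∀ w ∈ W, ∃ h : w ∈ C, φ ⟨w, h⟩ = 1 ∧ ψ ⟨w, h⟩ = 1 := by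
    rintro w ⟨⟨x, hx⟩, ⟨h1, h2⟩, rfl⟩
    exact ⟨hx, h1, h2⟩
  have hcW : Nat.card W = Nat.card ↥(φ.ker ⊓ ψ.ker) :=
    (Nat.card_congr ((φ.ker ⊓ ψ.ker).equivMapOfInjective C.subtype Subtype.val_injective).toEquiv).symm
  have hWodd : Odd (Nat.card W) := hk2.of_dvd_nat (hcW ▸ Subgroup.card_dvd_of_le inf_le_left)
  have hW3 : ¬ 3 ∣ Nat.card W := fun h =>
    hk3 (h.trans (hcW ▸ Subgroup.card_dvd_of_le inf_le_right))
  have hord : ∀ w ∈ W, Odd (orderOf w) ∧ ¬ 3 ∣ orderOf w := fun w hw =>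
    ⟨hWodd.of_dvd_nat (Subgroup.orderOf_dvd_natCard W hw),
      fun h => hW3 (h.trans (Subgroup.orderOf_dvd_natCard W hw))⟩
  have hin : ∀ x, Commute x (ι u) → Odd (orderOf x) → ¬ 3 ∣ orderOf x → x ∈ W := by
    intro x hx ho h3
    have hpo : (⟨x, hmem.2 hx⟩ : C) ^ orderOf x = 1 := Subtype.ext (pow_orderOf_eq_one x)
    refine ⟨⟨x, hmem.2 hx⟩, Subgroup.mem_inf.2 ⟨?_, ?_⟩, rfl⟩ <;> rw [MonoidHom.mem_ker]
    · exact eq_one_of_pow_coprime (a := Nat.card A2) pow_card_eq_one'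
        (by rw [← map_pow, hpo, map_one]) (hA2 ▸ Nat.coprime_two_left.2 ho)
    · obtain ⟨i, hi⟩ := hp3 (ψ ⟨x, hmem.2 hx⟩)
      exact eq_one_of_pow_coprime hi (by rw [← map_pow, hpo, map_one])
        (Nat.Coprime.pow_left _ (Nat.prime_three.coprime_iff_not_dvd.2 h3))
  have hnorm : ∀ c w, Commute c (ι u) → w ∈ W → c * w * c⁻¹ ∈ W := by
    intro c w hc hw
    obtain ⟨hwC, h1, h2⟩ := hWC w hw
    exact ⟨⟨c, hmem.2 hc⟩ * ⟨w, hwC⟩ * ⟨c, hmem.2 hc⟩⁻¹,
      Subgroup.mem_inf.2 ⟨by rw [MonoidHom.mem_ker, map_mul, map_mul, h1, mul_one, map_inv, mul_inv_cancel],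
        by rw [MonoidHom.mem_ker, map_mul, map_mul, h2, mul_one, map_inv, mul_inv_cancel]⟩, rfl⟩
  have hfix : ∀ w ∈ W, t * w = w * t → w = 1 := by
    intro w hw h
    obtain ⟨hwC, -, -⟩ := hWC w hw
    obtain ⟨l, rfl⟩ := S.cent_of_odd (show Commute w t from h.symm) (hord w hw).1 (pow_orderOf_eq_one w)
    have hl : l ^ 3 = 1 := (S.u_data hu).2.1 l (S.commute_iff.1 (hmem.1 hwC))
    refine eq_one_of_pow_coprime (a := 3) (by rw [← map_pow, hl, map_one]) (pow_orderOf_eq_one _)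
      (Nat.prime_three.coprime_iff_not_dvd.2 (hord _ hw).2)
  have hinv : ∀ w ∈ W, t * w * t = w⁻¹ := CfsgLib.OneToFive.inverts_of_fpf S.tt
    (fun w hw => by have := hnorm t w (S.comm u) hw; rwa [S.tinv] at this) hfix
  have hab : ∀ w ∈ W, ∀ w' ∈ W, Commute w w' := fun w hw w' hw' =>
    CfsgLib.OneToFive.comm_of_inverted S.tt hinv w hw w' hw'
  have hsq : ∀ w ∈ W, ∃ x ∈ W, x * t * x⁻¹ = w * t := by
    intro w hw
    obtain ⟨j, hj⟩ := (hord w hw).1
    have hx : w ^ (j + 1) ∈ W := pow_mem hw _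
    refine ⟨w ^ (j + 1), hx, ?_⟩
    have h2 : w ^ (j + 1) * w ^ (j + 1) = w := by
      rw [← pow_add, show j + 1 + (j + 1) = orderOf w + 1 by omega, pow_succ, pow_orderOf_eq_one,
        one_mul]
    rw [← hinv _ hx]
    calc w ^ (j + 1) * t * (t * w ^ (j + 1) * t) = w ^ (j + 1) * (t * t) * w ^ (j + 1) * t := by group
      _ = w * t := by rw [S.tt, mul_one, h2]
  refine ⟨W, ⟨S.orderOf_t, by rw [orderOf_injective ι S.inj, hu], (S.comm u).symm,
    hF ▸ dvd_pow_self 3 (by omega), ⟨_, hF⟩, S.card_cent_ut hu rfl,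
    fun w hw => hmem.1 (hWC w hw).1, fun w hw => by rw [S.tinv]; exact hinv w hw, hW3,
    fun s => ⟨?_, ?_⟩, ?_⟩, hin, hord, hab, hnorm⟩
  · rintro ⟨hts, hsu⟩
    obtain ⟨g, rfl⟩ := isConj_iff.1 hts
    have hss : g * t * g⁻¹ * (g * t * g⁻¹) = 1 := by
      rw [show g * t * g⁻¹ * (g * t * g⁻¹) = g * (t * t) * g⁻¹ by group, S.tt]; group
    obtain ⟨c, hc, e⟩ := hconj _ (hmem.2 hsu) hss (fun e => S.t_ne (conj_eq_one_iff.1 e))
    refine ⟨g * t * g⁻¹ * t, ?_, by rw [mul_assoc _ t t, S.tt, mul_one]⟩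
    refine ⟨⟨g * t * g⁻¹, hmem.2 hsu⟩ * ⟨t, htC⟩, ?_, rfl⟩
    have hcs : (⟨g * t * g⁻¹, hmem.2 hsu⟩ : C) = ⟨c, hc⟩⁻¹ * ⟨t, htC⟩ * ⟨c, hc⟩ := Subtype.ext (by
      show g * t * g⁻¹ = c⁻¹ * t * c
      conv_rhs => rw [← e]
      group)
    have htt : (⟨t, htC⟩ : C) * ⟨t, htC⟩ = 1 := Subtype.ext S.tt
    refine Subgroup.mem_inf.2 ⟨?_, ?_⟩ <;> rw [MonoidHom.mem_ker, hcs, map_mul, map_mul, map_mul, map_inv]
    · rw [hc2 (φ ⟨c, hc⟩)⁻¹, mul_assoc _ (φ ⟨c, hc⟩)⁻¹, inv_mul_cancel, mul_one, ← map_mul, htt,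
        map_one]
    · rw [hc3 (ψ ⟨c, hc⟩)⁻¹, mul_assoc _ (ψ ⟨c, hc⟩)⁻¹, inv_mul_cancel, mul_one, ← map_mul, htt,
        map_one]
  · rintro ⟨w, hw, rfl⟩
    obtain ⟨x, hx, e⟩ := hsq w hw
    exact ⟨isConj_iff.2 ⟨x, e⟩, (hmem.1 (hWC w hw).1).mul_left (S.comm u)⟩
  · intro w hw
    obtain ⟨x, hx, e⟩ := hsq w hw
    refine isConj_iff.2 ⟨x, ?_⟩
    have hxu : Commute x (ι u) := hmem.1 (hWC x hx).1
    have hwu : Commute w (ι u) := hmem.1 (hWC w hw).1
    calc x * (ι u * t) * x⁻¹ = ι u * (x * t * x⁻¹) := by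
          rw [← mul_assoc x, hxu.eq]; group
      _ = w * (ι u * t) := by rw [e, ← mul_assoc, ← hwu.eq, mul_assoc]

end Loc

end CfsgLib.ReeTypeSThree
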