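import Cfsg.Agent.Lib.ReeTypeSThree.ShapeData
import Cfsg.Agent.Lib.ReeTypeSThree.LocalPSL
import Cfsg.Agent.Lib.SL2.Subgroups

/-!
`PSL(2, q)`, `q` an odd power of three, has the subgroup structure `LShape` used for the class
functions in the proof about groups of Ree type (S2755).
-/

set_option autoImplicit false
set_option linter.style.haveILetI false
set_option linter.unusedSectionVars false

namespace CfsgLib.ReeTypeSThree

open Matrix (ProjectiveSpecialLinearGroup)
open CfsgLib.SL2 CfsgLib.MinNonCA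
open scoped MatrixGroups

variable {F : Type*} [Field F] [Finite F]

local notation "PSL" => ProjectiveSpecialLinearGroup (Fin 2) F

/-- A commutator of upper triangular elements is upper unitriangular. -/
theorem commutator_mem_upperPSL {a b : PSL} (ha : a ∈ borelPSL F) (hb : b ∈ borelPSL F) :
    a * b * a⁻¹ * b⁻¹ ∈ upperPSL F := by
  obtain ⟨g, hg, rfl⟩ := ha
  obtain ⟨h, hh, rfl⟩ := hb
  have hg0 : (g : Matrix (Fin 2) (Fin 2) F) 1 0 = 0 := hg
  have hh0 : (h : Matrix (Fin 2) (Fin 2) F) 1 0 = 0 := hh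
  have hgd := g.2
  have hhd := h.2
  rw [Matrix.det_fin_two, hg0, mul_zero, sub_zero] at hgd
  rw [Matrix.det_fin_two, hh0, mul_zero, sub_zero] at hhd
  set k : SL(2, F) := g * h * g⁻¹ * h⁻¹ with hk
  refine mem_upperPSL.2 ⟨Multiplicative.ofAdd ((k : Matrix (Fin 2) (Fin 2) F) 0 1), ?_⟩
  rw [← map_inv, ← map_inv, ← map_mul, ← map_mul, ← map_mul, ← hk]
  congr 1
  refine Subtype.ext ?_
  rw [upperHom_coe]
  ext i j
  fin_cases i <;> fin_cases j <;>
    simp [hk, Matrix.SpecialLinearGroup.coe_inv, Matrix.SpecialLinearGroup.coe_mul, Matrix.adjugate_fin_two,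
      Matrix.mul_apply, Fin.sum_univ_two, hg0, hh0]
  · linear_combination (-(h : Matrix (Fin 2) (Fin 2) F) 0 0 * (h : Matrix (Fin 2) (Fin 2) F) 1 1) * hgd - hhd
  · linear_combination (-(h : Matrix (Fin 2) (Fin 2) F) 0 0 * (h : Matrix (Fin 2) (Fin 2) F) 1 1) * hgd - hhd

/-- `PSL(2, q)` has the shape used for the class functions. -/
theorem exists_lshape {n : ℕ} (hn : 1 ≤ n) (hF : Nat.card F = 3 ^ (2 * n + 1)) {m : ℕ}
    (hm : Nat.card F + 1 = 4 * m) :
    Nonempty (LShape (ProjectiveSpecialLinearGroup (Fin 2) F) (Nat.card F) m) := by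
  haveI := charP_three hF
  haveI : Fact (Nat.Prime 3) := ⟨Nat.prime_three⟩
  have h8 : Nat.card F % 8 = 3 := mod_eight hF
  have hodd : Odd (Nat.card F) := Nat.odd_iff.2 (by omega)
  have hmodd : Odd m := Nat.odd_iff.2 (by omega)
  have h27 : 27 ≤ Nat.card F := by
    rw [hF]
    calc 27 = 3 ^ 3 := by norm_num
      _ ≤ 3 ^ (2 * n + 1) := Nat.pow_le_pow_right (by norm_num) (by omega)
  have h3 : 3 ∣ Nat.card F := hF ▸ dvd_pow_self 3 (by omega)
  -- the torus
  obtain ⟨c, hc⟩ := exists_invol (F := F) hodd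
  have hs := hc.semi 3 hodd
  have hcard : Nat.card (torus c) = 2 * m := by
    have h := card_torus_cases 3 hs
    rw [dd_of_odd hodd] at h
    have h2 := even_card_torus_invol hc
    rcases h with e | e <;> rw [e] at h2 ⊢ <;> omega
  obtain ⟨⟨x, hx⟩, hgen⟩ := (isCyclic_torus 3 hs).exists_generator
  have hxo : orderOf x = 2 * m := by
    rw [← hcard, ← Subgroup.orderOf_mk x hx]
    exact orderOf_eq_card_of_forall_mem_zpowers hgen
  have hTc : Nat.card (Subgroup.zpowers (x ^ 2)) = m := by
    rw [Nat.card_zpowers, orderOf_pow' x (by norm_num : 2 ≠ 0), hxo, Nat.gcd_eq_right (dvd_mul_right 2 m),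
      Nat.mul_div_cancel_left m two_pos]
  obtain ⟨v, d, hv, hd, hcv, hinv, hov, hcg⟩ :=
    torus_data hn hF hm (Subgroup.zpowers (x ^ 2)) hTc (Subgroup.isCyclic_zpowers _)
  have hsv := hv.semi 3 hodd
  have hord : ∀ g ∈ Subgroup.zpowers (x ^ 2), Odd (orderOf g) := fun g hg =>
    hmodd.of_dvd_nat (hTc ▸ Subgroup.orderOf_dvd_natCard _ hg)
  have hTv : ∀ g ∈ Subgroup.zpowers (x ^ 2), g ∈ torus v := by
    intro g hg
    by_contra hn'
    have h1 := mul_self_of_normalizer_torus 3 hsv (by
      rw [← centralizer_invol hodd hv]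
      exact Subgroup.mem_centralizer_singleton_iff.2 (hcv g hg).eq) hn'
    exact not_involution_of_odd (fun e => hn' (by rw [e]; exact one_mem _)) (hord g hg) h1
  have hU3 : ∀ z ∈ upperPSL F, z ^ 3 = 1 := by
    intro z hz
    obtain ⟨a, rfl⟩ := mem_upperPSL.1 hz
    rw [← map_pow, ← map_pow, show a ^ 3 = 1 from Multiplicative.toAdd.injective (by
      rw [toAdd_pow, nsmul_eq_mul, CharP.cast_eq_zero F 3, zero_mul]; rfl), map_one, map_one]
  have hUC : ∀ z ∈ upperPSL F, z ≠ 1 → ∀ y : PSL, Commute y z → y ∈ upperPSL F := by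
    intro z hz hz1 y hy
    have hB : y ∈ borelPSL F := mem_borelPSL_of_conj hz hz1 (by rwa [hy.eq, mul_inv_cancel_right])
    exact mem_upperPSL_of_pow 3 hB ((three_data hF (orderOf_eq_prime (hU3 z hz) hz1)).2.1 y hy)
  exact ⟨{
    q_eq := hm
    odd_m := hmodd
    three_q := h3
    le_q := h27
    card_L := by
      have h := two_mul_card (F := F) hodd
      refine Nat.eq_of_mul_eq_mul_left two_pos (h.trans ?_)
      conv_lhs => rw [show Nat.card F - 1 = 2 * ((Nat.card F - 1) / 2) by omega]
      ring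
    U := upperPSL F
    B := borelPSL F
    le := upperPSL_le_borelPSL
    card_U := (Nat.card_eq_of_bijective (fun t : F => (⟨proj (up t), proj_up_mem_upperPSL t⟩ : upperPSL F))
      ⟨fun a b e => proj_up_injective (congrArg Subtype.val e :), fun ⟨z, hz⟩ => by
        obtain ⟨t, rfl⟩ := mem_upperPSL_up hz
        exact ⟨t, rfl⟩⟩).symm
    card_B := by
      have h := card_borelPSL (F := F)
      rw [dd_of_odd hodd] at h
      refine Nat.eq_of_mul_eq_mul_left two_pos (h.trans ?_)
      rw [mul_left_comm]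
      congr 1
      omega
    cube := hU3
    mem_U := fun z hz h => mem_upperPSL_of_pow 3 hz h
    cent_U := hUC
    comm_U := fun a ha b hb => upperPSL_comm ha hb
    mem_B := fun z hz hz1 y hy => by
      have h := mem_borelPSL_of_conj (y := y⁻¹) hz hz1 (by rwa [inv_inv])
      exact inv_inv y ▸ inv_mem h
    conj_U := fun b hb z hz => borelPSL_conj hb hz
    comm_mod := fun a ha b hb => commutator_mem_upperPSL ha hb
    T := Subgroup.zpowers (x ^ 2)
    card_T := hTc
    cyclic_T := Subgroup.isCyclic_zpowers _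
    v := v
    v_sq := hv.1
    v_ne := hv.2
    d := d
    d_inv := hinv
    cent_T := fun g hg hg1 y hy => by
      obtain ⟨hyv, z, hz, e | e⟩ := hcg g hg hg1 y hy
      · exact ⟨hyv, Or.inl (by rw [e]; exact hz)⟩
      · exact ⟨hyv, Or.inr (by rw [e, mul_assoc, hv.1, mul_one]; exact hz)⟩
    comm_v := hcv
    cent_v := fun y hy => by
      have hyN : y ∈ Subgroup.normalizer (torus v : Set PSL) := by
        rw [← centralizer_invol hodd hv]; exact Subgroup.mem_centralizer_singleton_iff.2 hy.eq
      by_cases hyT : y ∈ torus v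
      · refine Or.inl fun g hg => ?_
        have : Commute y g := congrArg Subtype.val ((isCyclic_torus 3 hsv).isMulCommutative.is_comm.comm
          (⟨y, hyT⟩ : torus v) ⟨g, hTv g hg⟩)
        rw [this.eq, mul_inv_cancel_right]
      · refine Or.inr fun g hg => ?_
        have h1 := mul_self_of_normalizer_torus 3 hsv hyN hyT
        have h2 := mul_self_of_normalizer_torus 3 hsv (mul_mem hyN (Subgroup.le_normalizer (hTv g hg)))
          (fun h => hyT (by simpa using mul_mem h (inv_mem (hTv g hg))))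
        rw [inv_eq_of_mul_eq_one_right h1]
        exact eq_inv_of_mul_eq_one_left (by rw [mul_assoc]; exact h2)
    card_cent := fun w hw hw1 => by
      have hw' : Invol w := ⟨hw, hw1⟩
      rw [centralizer_invol hodd hw', card_normalizer_torus 3 (hw'.semi 3 hodd),
        card_torus_invol hodd hc hw', hcard]
      omega }⟩

end CfsgLib.ReeTypeSThree
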