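import Cfsg.Agent.Lib.ReeTypeSThree.ShapeInd
import Cfsg.Agent.Lib.ReeTypeSThree.ShapePSL

/-!
`LData` for a group isomorphic to `PSL₂(q)`, `q` an odd power of three.
-/

set_option autoImplicit false
set_option linter.style.haveILetI false
set_option linter.unusedSectionVars false

namespace CfsgLib.ReeTypeSThree

open Cfsg

universe u v

/-- Transport of the subgroup structure along an isomorphism. -/
theorem LShape.nonempty_of_equiv {P : Type u} [Group P] {L : Type v} [Group L] (e : L ≃* P)
    {q m : ℕ} (S : LShape P q m) : Nonempty (LShape L q m) := by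
  have hmem : ∀ (H : Subgroup P) (x : L), x ∈ H.comap e.toMonoidHom ↔ e x ∈ H := fun H x => Iff.rfl
  have hcard : ∀ H : Subgroup P, Nat.card (H.comap e.toMonoidHom) = Nat.card H := fun H =>
    Nat.card_congr (e.toEquiv.subtypeEquiv fun x => (hmem H x))
  have hcomm : ∀ {x y : L}, Commute (e x) (e y) → Commute x y := fun {x y} h =>
    e.injective (by rw [map_mul, map_mul, h.eq])
  refine ⟨{
    q_eq := S.q_eq, odd_m := S.odd_m, three_q := S.three_q, le_q := S.le_q
    card_L := (Nat.card_congr e.toEquiv).trans S.card_L
    U := S.U.comap e.toMonoidHom, B := S.B.comap e.toMonoidHom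
    le := fun x hx => S.le hx
    card_U := (hcard _).trans S.card_U, card_B := (hcard _).trans S.card_B
    cube := fun x hx => e.injective (by rw [map_pow, (S.cube (e x) hx : e x ^ 3 = 1), map_one])
    mem_U := fun x hx h => S.mem_U _ hx (by
      show e x ^ 3 = 1
      rw [← map_pow, h, map_one])
    cent_U := fun c hc hc1 y h => S.cent_U _ hc ((map_ne_one_iff e e.injective).mpr hc1) _ (h.map e)
    comm_U := fun a ha b hb => hcomm (S.comm_U _ ha _ hb)
    mem_B := fun c hc hc1 x h => S.mem_B _ hc ((map_ne_one_iff e e.injective).mpr hc1) _ (by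
      simpa [hmem] using h)
    conj_U := fun b hb c hc => by simpa [hmem] using S.conj_U _ hb _ hc
    comm_mod := fun a ha b hb => by simpa [hmem] using S.comm_mod _ ha _ hb
    T := S.T.comap e.toMonoidHom
    card_T := (hcard _).trans S.card_T
    cyclic_T := ?_
    v := e.symm S.v
    v_sq := e.injective (by simp [S.v_sq])
    v_ne := fun h => S.v_ne (by simpa using congrArg e h)
    d := e.symm S.d
    d_inv := fun g hg => e.injective (by simpa using S.d_inv _ hg)
    cent_T := fun g hg hg1 y h => by
      have h' := S.cent_T _ hg ((map_ne_one_iff e e.injective).mpr hg1) _ (h.map e)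
      exact ⟨hcomm (by simpa using h'.1), by simpa [hmem] using h'.2⟩
    comm_v := fun g hg => hcomm (by simpa using S.comm_v _ hg)
    cent_v := fun y h => by
      rcases S.cent_v (e y) (by simpa using h.map e) with h' | h'
      · exact Or.inl fun g hg => e.injective (by simpa using h' _ hg)
      · exact Or.inr fun g hg => e.injective (by simpa using h' _ hg)
    card_cent := fun w hw hw1 => by
      rw [← S.card_cent (e w) (by rw [← map_mul, hw, map_one])
        ((map_ne_one_iff e e.injective).mpr hw1)]
      refine Nat.card_congr (e.toEquiv.subtypeEquiv fun x => ?_)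
      simp only [Subgroup.mem_centralizer_singleton_iff]
      constructor
      · exact fun h => by simpa using congrArg e h
      · exact fun h => e.injective (by simpa using h) }⟩
  haveI := S.cyclic_T
  exact isCyclic_of_injective
    (f := MonoidHom.mk' (fun x : S.T.comap e.toMonoidHom => (⟨e x, x.2⟩ : S.T))
      fun a b => Subtype.ext (map_mul e (a : L) (b : L)))
    fun a b h => Subtype.ext (e.injective (congrArg (fun y : S.T => (y : P)) h))

/-- The class functions of `PSL₂(q)` used in the character argument. -/
theorem exists_ldata {L : Type v} [Group L] [Fintype L] {F : Type u} [Field F] [Fintype F] {n : ℕ}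
    (hn : 1 ≤ n) (hF : Fintype.card F = 3 ^ (2 * n + 1))
    (e : L ≃* Matrix.ProjectiveSpecialLinearGroup (Fin 2) F) {q m : ℕ} (hq : q = Fintype.card F)
    (hm : q + 1 = 4 * m) : Nonempty (LData L q m) := by
  subst hq
  rw [← Nat.card_eq_fintype_card] at hF hm ⊢
  obtain ⟨S⟩ := exists_lshape (F := F) hn hF hm
  obtain ⟨S'⟩ := LShape.nonempty_of_equiv e S
  exact S'.nonempty_ldata

end CfsgLib.ReeTypeSThree
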