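import Cfsg.Agent.Lib.ReeTypeSThree.Defs
import Cfsg.Agent.Lib.Char.Virtual
import Cfsg.Agent.Lib.Char.CMValue

/-!
For `C(t) = ⟨t⟩ × L`, the class functions `l ↦ χ (t * l)` of `L` pair with the generalized characters
supported on elements of odd order as twice the inner product of `L`.
-/

set_option autoImplicit false
set_option linter.style.haveILetI false
set_option linter.unusedSectionVars false

namespace CfsgLib.ReeTypeSThree

open Cfsg CfsgLib.Char
open scoped ComplexConjugate

universe u v

/-- A generalized character supported on the elements of odd order. -/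
structure Adm {L : Type v} [Group L] (Φ : L → ℂ) : Prop where
  gen : IsGeneralizedCharacter L Φ
  supp : ∀ g, Φ g ≠ 0 → Odd (orderOf g)

variable {G : Type u} [Group G] [Fintype G] {L : Type v} [Group L] [Fintype L] {q m : ℕ}
  {D : LData L q m} (X : GData G D)

/-- The restriction of a character to the coset `t L`. -/
def beta (χ : G → ℂ) : L → ℂ := fun l => χ (X.t * X.emb l)

theorem t_sq : X.t * X.t = 1 := by
  rw [← sq, ← X.orderOf_t, pow_orderOf_eq_one]

theorem t_mul_ne (l : L) : X.t * X.emb l ≠ 1 := fun h =>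
  X.not_mem ⟨l⁻¹, by rw [map_inv]; exact (eq_inv_of_mul_eq_one_left h).symm⟩

theorem isClassFunction_beta {χ : G → ℂ} (hχ : IsClassFunction G χ) :
    IsClassFunction L (beta X χ) := fun g h => by
  rw [beta, beta, ← hχ (X.t * X.emb g) (X.emb h), map_mul, map_mul, map_inv]
  rw [← mul_assoc, ← mul_assoc, ← mul_assoc, (X.comm h).eq]

/-- The homomorphism of `ℤˣ × L` onto `C(t)`. -/
def centHom : ℤˣ × L →* G where
  toFun p := (if p.1 = 1 then 1 else X.t) * X.emb p.2
  map_one' := by simp
  map_mul' := by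
    rintro ⟨a, g⟩ ⟨b, h⟩
    have h1 : ∀ l x, X.emb l * (X.t * x) = X.t * (X.emb l * x) := fun l x => by
      rw [← mul_assoc, ← (X.comm l).eq, mul_assoc]
    rcases Int.units_eq_one_or a with rfl | rfl <;> rcases Int.units_eq_one_or b with rfl | rfl <;>
      simp [mul_assoc, h1, ← mul_assoc X.t X.t, t_sq X]

theorem centHom_injective : Function.Injective (centHom X) := by
  refine (injective_iff_map_eq_one _).mpr ?_
  rintro ⟨a, g⟩ h
  rcases Int.units_eq_one_or a with rfl | rfl <;> simp [centHom] at h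
  · exact Prod.ext rfl (X.inj (by simpa using h))
  · exact absurd h (t_mul_ne X g)

/-- Both restrictions to the cosets of `L` in `C(t)` together have even inner products. -/
theorem exists_int_add {χ : G → ℂ} (hχ : IsCharacter G χ) {ψ : L → ℂ}
    (hψ : IsGeneralizedCharacter L ψ) :
    ∃ n : ℤ, classInner (beta X χ) ψ + classInner (fun l => χ (X.emb l)) ψ = 2 * (n : ℂ) := by
  obtain ⟨n, hn⟩ := exists_int_classInner
    (isGeneralized_comp (centHom X) (isGeneralized_of_isCharacter hχ))
    (isGeneralized_comp (MonoidHom.snd ℤˣ L) hψ)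
  refine ⟨n, ?_⟩
  rw [← hn]
  have hu : (Finset.univ : Finset ℤˣ) = {1, -1} := by decide
  have hc : (Nat.card L : ℂ) ≠ 0 := Nat.cast_ne_zero.mpr Nat.card_pos.ne'
  simp only [classInner, beta, Fintype.sum_prod_type, Nat.card_prod, hu]
  rw [Finset.sum_pair (by decide)]
  simp [centHom, Nat.card_eq_fintype_card]
  field_simp
  ring

theorem exists_int_beta {χ : G → ℂ} (hχ : IsCharacter G χ) {ψ : L → ℂ}
    (hψ : IsGeneralizedCharacter L ψ) : ∃ n : ℤ, classInner (beta X χ) ψ = (n : ℂ) := by
  obtain ⟨n, hn⟩ := exists_int_add X hχ hψ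
  obtain ⟨k, hk⟩ := exists_int_classInner
    (isGeneralized_comp X.emb (isGeneralized_of_isCharacter hχ)) hψ
  refine ⟨2 * n - k, ?_⟩
  rw [hk] at hn
  push_cast
  linear_combination hn

theorem pow_tmul {g : L} {n : ℕ} (hn : Odd n) (hg : orderOf g ∣ n) :
    (X.t * X.emb g) ^ n = X.t := by
  rw [(X.comm g).mul_pow, ← map_pow, orderOf_dvd_iff_pow_eq_one.mp hg, map_one, mul_one,
    ← pow_mod_orderOf, X.orderOf_t, Nat.odd_iff.mp hn, pow_one]

theorem conj_tmul (l g : L) :
    X.emb l * (X.t * X.emb g) * (X.emb l)⁻¹ = X.t * X.emb (l * g * l⁻¹) := by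
  rw [map_mul, map_mul, map_inv, ← mul_assoc, ← mul_assoc, ← mul_assoc, (X.comm l).eq]

theorem isConj_tmul_iff {g h : L} (hg : Odd (orderOf g)) (hh : Odd (orderOf h)) :
    IsConj (X.t * X.emb g) (X.t * X.emb h) ↔ IsConj g h := by
  constructor
  · intro hc
    obtain ⟨x, hx⟩ := isConj_iff.mp hc
    have ht : x * X.t * x⁻¹ = X.t := by
      have h' := congrArg (· ^ (orderOf g * orderOf h)) hx
      rwa [conj_pow, pow_tmul X (hg.mul hh) (dvd_mul_right _ _),
        pow_tmul X (hg.mul hh) (dvd_mul_left _ _)] at h'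
    obtain ⟨l, hl⟩ := X.cent x (mul_inv_eq_iff_eq_mul.mp ht)
    refine isConj_iff.mpr ⟨l, X.inj (mul_left_cancel (a := X.t) ?_)⟩
    rw [← hx]
    rcases hl with rfl | rfl
    · exact (conj_tmul X l g).symm
    · calc X.t * X.emb (l * g * l⁻¹)
          = X.t * (X.emb (l * g * l⁻¹) * X.t) * X.t⁻¹ := by group
        _ = X.t * (X.t * X.emb (l * g * l⁻¹)) * X.t⁻¹ := by
            rw [(X.comm (l * g * l⁻¹)).eq]
        _ = X.t * (X.emb l * (X.t * X.emb g) * (X.emb l)⁻¹) * X.t⁻¹ := by rw [conj_tmul]
        _ = _ := by group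
  · intro hc
    obtain ⟨l, hl⟩ := isConj_iff.mp hc
    exact isConj_iff.mpr ⟨X.emb l, by rw [← hl, conj_tmul]⟩

theorem card_cent_tmul {h : L} (hh : Odd (orderOf h)) :
    Nat.card (Subgroup.centralizer ({X.t * X.emb h} : Set G)) =
      2 * Nat.card (Subgroup.centralizer ({h} : Set L)) := by
  have hsub : Subgroup.centralizer ({X.t * X.emb h} : Set G) =
      ((⊤ : Subgroup ℤˣ).prod (Subgroup.centralizer ({h} : Set L))).map (centHom X) := by
    ext x
    rw [Subgroup.mem_map, Subgroup.mem_centralizer_singleton_iff]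
    constructor
    · intro hx
      have hx' : Commute x (X.t * X.emb h) := hx
      have ht : Commute x X.t := by
        have := hx'.pow_right (orderOf h)
        rwa [pow_tmul X hh dvd_rfl] at this
      have he : Commute x (X.emb h) := by
        have h2 := (ht.inv_right).mul_right hx'
        rwa [inv_mul_cancel_left] at h2
      obtain ⟨l, hl⟩ := X.cent x ht
      have hlh : Commute l h := X.inj (by
        rcases hl with rfl | rfl
        · simpa [map_mul] using he.eq
        · have h2 := (((X.comm h).inv_left)).mul_left he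
          rw [inv_mul_cancel_left] at h2
          simpa [map_mul] using h2.eq)
      have hlm : l ∈ Subgroup.centralizer ({h} : Set L) :=
        Subgroup.mem_centralizer_singleton_iff.mpr hlh.eq
      rcases hl with rfl | rfl
      · exact ⟨(1, l), ⟨trivial, hlm⟩, by simp [centHom]⟩
      · exact ⟨(-1, l), ⟨trivial, hlm⟩, by simp [centHom]⟩
    · rintro ⟨⟨a, l⟩, ⟨-, hl⟩, rfl⟩
      have hb : X.t * X.emb h = centHom X (-1, h) := by simp [centHom]
      have hl' : l * h = h * l := Subgroup.mem_centralizer_singleton_iff.mp hl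
      rw [hb, ← map_mul, ← map_mul, Prod.mk_mul_mk, Prod.mk_mul_mk, hl', mul_comm a (-1)]
  rw [hsub, Subgroup.card_map_of_injective (centHom_injective X)]
  rw [show Nat.card ((⊤ : Subgroup ℤˣ).prod (Subgroup.centralizer ({h} : Set L))) =
    Nat.card ((⊤ : Subgroup ℤˣ) × Subgroup.centralizer ({h} : Set L)) from
      Nat.card_congr (Subgroup.prodEquiv _ _).toEquiv, Nat.card_prod, Subgroup.card_top]
  simp [Nat.card_eq_fintype_card]

theorem colsum {g h : L} (hg : Odd (orderOf g)) (hh : Odd (orderOf h)) :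
    ∑ χ : IrrCharacter G, beta X χ g * conj (beta X χ h) =
      2 * ∑ ψ : IrrCharacter L, (ψ : L → ℂ) g * conj ((ψ : L → ℂ) h) := by
  classical
  simp only [beta]
  rw [column_orthogonality, column_orthogonality]
  by_cases hc : IsConj g h
  · rw [if_pos ((isConj_tmul_iff X hg hh).mpr hc), if_pos hc, card_cent_tmul X hh]
    push_cast; ring
  · rw [if_neg (fun e => hc ((isConj_tmul_iff X hg hh).mp e)), if_neg hc, mul_zero]

/-- The coefficients reproduce twice the function on the elements of odd order. -/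
theorem sum_beta_mul {Φ : L → ℂ} (hΦ : Adm Φ) {g : L} (hg : Odd (orderOf g)) :
    ∑ χ : IrrCharacter G, beta X χ g * conj (classInner (beta X χ) Φ) = 2 * Φ g := by
  conv_rhs => rw [classFunction_expansion (isClassFunction_of_isGeneralized hΦ.gen)]
  simp only [Finset.sum_apply, Pi.smul_apply, smul_eq_mul, classInner_conj_symm]
  simp only [classInner, Finset.mul_sum, Finset.sum_mul]
  rw [Finset.sum_comm, Finset.sum_comm (γ := IrrCharacter L)]
  refine Finset.sum_congr rfl fun h _ => ?_
  by_cases h0 : Φ h = 0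
  · simp [h0]
  · calc ∑ χ : IrrCharacter G, beta X χ g * ((Nat.card L : ℂ)⁻¹ * (Φ h * conj (beta X χ h)))
        = (Nat.card L : ℂ)⁻¹ * Φ h * ∑ χ : IrrCharacter G, beta X χ g * conj (beta X χ h) := by
          rw [Finset.mul_sum]; exact Finset.sum_congr rfl fun _ _ => by ring
      _ = _ := by
          rw [colsum X hg (hΦ.supp h h0), Finset.mul_sum, Finset.mul_sum]
          exact Finset.sum_congr rfl fun _ _ => by ring

theorem conj_coef (χ : IrrCharacter G) {Φ : L → ℂ} (hΦ : Adm Φ) :
    conj (classInner (beta X χ) Φ) = classInner (beta X χ) Φ := by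
  obtain ⟨n, hn⟩ := exists_int_beta X (isCharacter_of_isIrr χ.2) hΦ.gen
  rw [hn, map_intCast]

theorem gram {Φ Ψ : L → ℂ} (hΦ : Adm Φ) (hΨ : Adm Ψ) :
    ∑ χ : IrrCharacter G, classInner (beta X χ) Φ * classInner (beta X χ) Ψ =
      2 * classInner Ψ Φ := by
  calc ∑ χ : IrrCharacter G, classInner (beta X χ) Φ * classInner (beta X χ) Ψ
      = (Nat.card L : ℂ)⁻¹ * ∑ g : L, conj (Φ g) *
          ∑ χ : IrrCharacter G, beta X χ g * conj (classInner (beta X χ) Ψ) := by
        simp only [conj_coef X _ hΨ]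
        conv_lhs => enter [2, χ]; rw [classInner]
        simp only [Finset.mul_sum, Finset.sum_mul]
        rw [Finset.sum_comm]
        exact Finset.sum_congr rfl fun _ _ => Finset.sum_congr rfl fun _ _ => by ring
    _ = _ := by
        rw [classInner, ← mul_assoc, mul_comm (2 : ℂ), mul_assoc, Finset.mul_sum (a := (2 : ℂ))]
        congr 1
        refine Finset.sum_congr rfl fun g _ => ?_
        by_cases h0 : Φ g = 0
        · simp [h0]
        · rw [sum_beta_mul X hΨ (hΦ.supp g h0)]; ring

theorem sum_degree_coef {Φ : L → ℂ} (hΦ : Adm Φ) :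
    ∑ χ : IrrCharacter G, (χ : G → ℂ) 1 * classInner (beta X χ) Φ = 0 := by
  classical
  simp only [classInner, beta, Finset.mul_sum]
  rw [Finset.sum_comm]
  refine Finset.sum_eq_zero fun g _ => ?_
  have h := sum_degree_mul_irr (X.t * X.emb g)
  rw [if_neg (t_mul_ne X g)] at h
  calc _ = (Nat.card L : ℂ)⁻¹ * conj (Φ g) *
        ∑ χ : IrrCharacter G, (χ : G → ℂ) 1 * (χ : G → ℂ) (X.t * X.emb g) := by
        rw [Finset.mul_sum]; exact Finset.sum_congr rfl fun _ _ => by ring
    _ = 0 := by rw [h, mul_zero]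

end CfsgLib.ReeTypeSThree
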