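import Cfsg.Agent.Lib.ReeTypeSThree.Count
import Cfsg.Agent.Lib.ReeTypeSThree.Endgame
import Cfsg.Agent.Lib.ReeTypeSThree.PSLData
import Cfsg.Agent.Lib.ReeTypeSThree.Local

/-!
A group of Ree type involves `S₃`.
-/

set_option autoImplicit false
set_option linter.style.haveILetI false

open scoped Pointwise MatrixGroups

namespace CfsgLib.ReeTypeSThree

theorem ree_involves_three {G : Type*} [Group G] [Finite G] (h : Cfsg.IsReeType G) :
    Cfsg.Involves (Equiv.Perm (Fin 3)) G := by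
  classical
  obtain ⟨hs, -, t, K, n, hn, ht, hodd, ⟨htC, hKC, hcomm, hinf, hsup⟩, F, hf, hfin, hF, ⟨e⟩⟩ := h
  haveI := hs
  haveI : Fintype K := Fintype.ofFinite K
  haveI : Fintype G := Fintype.ofFinite G
  by_contra hS3
  obtain ⟨m, hm⟩ : ∃ m, Fintype.card F + 1 = 4 * m := by
    refine ⟨(Fintype.card F + 1) / 4, (Nat.mul_div_cancel' ?_).symm⟩
    rw [hF, Nat.dvd_iff_mod_eq_zero, Nat.add_mod, pow_succ, pow_mul, Nat.mul_mod, Nat.pow_mod]
    simp
  obtain ⟨D⟩ := exists_ldata hn hF e rfl hm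
  have hnot : t ∉ (K.subtype).range := by
    rw [Subgroup.range_subtype]
    intro hK
    have : t ∈ Subgroup.zpowers t ⊓ K := ⟨Subgroup.mem_zpowers t, hK⟩
    rw [hinf, Subgroup.mem_bot] at this
    rw [this, orderOf_one] at ht
    omega
  have hcent : ∀ c : G, Commute c t → ∃ l : K, c = K.subtype l ∨ c = t * K.subtype l := by
    intro c hc
    have hcm : c ∈ Subgroup.zpowers t ⊔ K := hsup ▸ Subgroup.mem_centralizer_singleton_iff.mpr hc.eq
    have hnorm : Subgroup.zpowers t ≤ Subgroup.normalizer (K : Set G) :=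
      le_trans (show Subgroup.zpowers t ≤ Subgroup.centralizer (K : Set G) from
        fun a ha b hb => (hcomm a ha b hb).symm) (Subgroup.centralizer_le_normalizer _)
    obtain ⟨_, ⟨i, rfl⟩, k, hk, rfl⟩ : c ∈ (Subgroup.zpowers t : Set G) * (K : Set G) := by
      rw [← Subgroup.coe_mul_of_left_le_normalizer_right _ _ hnorm]
      exact hcm
    refine ⟨⟨k, hk⟩, ?_⟩
    have h2 : t ^ (2 : ℤ) = 1 := by
      rw [zpow_two, ← pow_two, ← ht, pow_orderOf_eq_one]
    rcases Int.even_or_odd' i with ⟨j, rfl | rfl⟩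
    · left
      show t ^ (2 * j) * k = k
      rw [zpow_mul, h2, one_zpow, one_mul]
    · right
      show t ^ (2 * j + 1) * k = t * k
      rw [zpow_add, zpow_mul, h2, one_zpow, one_mul, zpow_one]
  obtain ⟨⟨X, hXt, hXe⟩, hW⟩ := exists_gdata t ht hodd K.subtype K.subtype_injective
    (fun l => hcomm t (Subgroup.mem_zpowers t) l l.2) hnot hcent hn hF e hS3 rfl hm D
  obtain ⟨W, hW⟩ := hW D.u D.orderOf_u
  refine endgame D X ?_
  rw [hXt, hXe]
  exact noBadRow hW

end CfsgLib.ReeTypeSThree
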