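import Cfsg.Prelude.Def_LocalEven
import Cfsg.Agent.Lib.Offender.Involves
import Cfsg.Agent.Lib.LocalEven.DihedralInvolved

/-!
Criteria for sections isomorphic to the symmetric groups of degrees three and four.
-/

set_option autoImplicit false
set_option linter.style.haveILetI false
set_option maxRecDepth 4000

namespace CfsgLib.ReeTypeSThree

open CfsgLib.Offender (exists_hom_of_involves involves_of_hom)

local notation "S₃" => Equiv.Perm (Fin 3)
local notation "S₄" => Equiv.Perm (Fin 4)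

/-- The dihedral group of order six, acting on three points. -/
def dihFun : DihedralGroup 3 → S₃
  | DihedralGroup.r i => Equiv.addRight (i : Fin 3)
  | DihedralGroup.sr i => Equiv.subLeft (-i : ZMod 3)

theorem exists_dih_equiv : Nonempty (DihedralGroup 3 ≃* S₃) :=
  ⟨MulEquiv.ofBijective (MonoidHom.mk' dihFun (by decide +kernel)) (by
    show Function.Bijective dihFun
    decide +kernel)⟩

section Three

variable {G : Type*} [Group G] [Finite G]

omit [Finite G] in
theorem involves_congr_left {H H' : Type*} [Group H] [Group H'] (e : H ≃* H')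
    (h : Cfsg.Involves H G) : Cfsg.Involves H' G := by
  obtain ⟨K, ψ, hψ⟩ := exists_hom_of_involves h
  exact involves_of_hom (e.toMonoidHom.comp ψ) (e.surjective.comp hψ)

/-- An element of three-power order inverted by a two-element. -/
theorem involves_three_of_inverted {x y : G} (hx : ∃ k, orderOf x = 2 ^ k)
    (hy : ∃ k, orderOf y = 3 ^ k) (hy1 : y ≠ 1) (hxy : x * y * x⁻¹ = y⁻¹) :
    Cfsg.Involves S₃ G := by
  haveI : Fact (Nat.Prime 3) := ⟨Nat.prime_three⟩
  obtain ⟨e⟩ := exists_dih_equiv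
  exact involves_congr_left e
    (CfsgLib.DihedralInvolved.involves_of_inverted (by norm_num) hx hy hy1 hxy)

theorem exists_inverted_of_involves (h : Cfsg.Involves S₃ G) :
    ∃ x y : G, (∃ k, orderOf x = 2 ^ k) ∧ y ^ 3 = 1 ∧ y ≠ 1 ∧ x * y * x⁻¹ = y⁻¹ := by
  haveI : Fact (Nat.Prime 3) := ⟨Nat.prime_three⟩
  obtain ⟨e⟩ := exists_dih_equiv
  obtain ⟨x, y, hx, ⟨k, hk⟩, hy1, hxy⟩ :=
    (CfsgLib.DihedralInvolved.involves_iff (G := G) (p := 3) (by norm_num)).2.mp
      (involves_congr_left e.symm h)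
  rcases k with _ | j
  · exact absurd (orderOf_eq_one_iff.mp (by simpa using hk)) hy1
  refine ⟨x, y ^ 3 ^ j, hx, ?_, ?_, ?_⟩
  · rw [← pow_mul, ← pow_succ, ← hk, pow_orderOf_eq_one]
  · intro e1
    have h2 := Nat.le_of_dvd (by positivity) (orderOf_dvd_of_pow_eq_one e1)
    rw [hk] at h2
    exact absurd h2 (not_le.mpr (Nat.pow_lt_pow_right (by norm_num) (by omega)))
  · rw [← conj_pow, hxy, inv_pow]

/-- An inversion modulo the centre. -/
theorem involves_three_quot {x y : G} (hx : x * x ∈ Subgroup.center G) (hy : y ^ 3 = 1)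
    (hy1 : y ≠ 1) (hxy : x * y * x⁻¹ = y⁻¹) :
    Cfsg.Involves S₃ (G ⧸ Subgroup.center G) := by
  haveI : Fact (Nat.Prime 3) := ⟨Nat.prime_three⟩
  haveI : Fact (Nat.Prime 2) := ⟨Nat.prime_two⟩
  let q := QuotientGroup.mk' (Subgroup.center G)
  have hq : q y ≠ 1 := fun e => by
    have hc : x * y * x⁻¹ = y := by
      rw [Subgroup.mem_center_iff.mp ((QuotientGroup.eq_one_iff _).mp e) x, mul_inv_cancel_right]
    rw [hxy] at hc
    refine hy1 ?_
    calc y = y ^ 3 * y⁻¹ * y⁻¹ := by group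
      _ = y⁻¹ * y⁻¹ := by rw [hy, one_mul]
      _ = y⁻¹ * y := by rw [hc]
      _ = 1 := inv_mul_cancel y
  have h2 : q x ^ 2 = 1 := by
    rw [pow_two, ← map_mul]
    exact (QuotientGroup.eq_one_iff _).mpr hx
  obtain ⟨k, -, hk⟩ := (Nat.dvd_prime_pow Nat.prime_two).mp
    (show orderOf (q x) ∣ 2 ^ 1 by rw [pow_one]; exact orderOf_dvd_of_pow_eq_one h2)
  exact involves_three_of_inverted ⟨k, hk⟩
    ⟨1, by rw [pow_one]; exact orderOf_eq_prime (by rw [← map_pow, hy, map_one]) hq⟩ hq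
    (by rw [← map_inv, ← map_mul, ← map_mul, hxy, map_inv])

theorem not_involves_of_not_three_dvd {H : Type*} [Group H] [Finite H]
    (hH : 3 ∣ Nat.card H) (h : ¬ 3 ∣ Nat.card G) : ¬ Cfsg.Involves H G := fun hi => by
  obtain ⟨K, ψ, hψ⟩ := exists_hom_of_involves hi
  exact h ((hH.trans (Subgroup.card_dvd_of_surjective ψ hψ)).trans
    (Subgroup.card_subgroup_dvd_card K))

theorem three_dvd_card_perm (n : ℕ) (hn : 3 ≤ n) : 3 ∣ Nat.card (Equiv.Perm (Fin n)) := by
  rw [Nat.card_perm, Nat.card_fin]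
  exact Nat.dvd_factorial (by norm_num) hn

end Three

section Four

/-- The double transpositions. -/
def klein : Subgroup S₄ where
  carrier := {σ | σ * σ = 1 ∧ Equiv.Perm.sign σ = 1}
  one_mem' := by simp
  mul_mem' {a b} ha hb := (by decide +kernel : ∀ a b : S₄, a * a = 1 ∧ Equiv.Perm.sign a = 1 →
    b * b = 1 ∧ Equiv.Perm.sign b = 1 → a * b * (a * b) = 1 ∧ Equiv.Perm.sign (a * b) = 1) a b ha hb
  inv_mem' {a} ha := ⟨by rw [← mul_inv_rev, ha.1, inv_one], by rw [map_inv, ha.2, inv_one]⟩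

theorem klein_normal : klein.Normal :=
  ⟨fun n hn g => ⟨by rw [show g * n * g⁻¹ * (g * n * g⁻¹) = g * (n * n) * g⁻¹ by group, hn.1,
    mul_one, mul_inv_cancel],
    by rw [map_mul, map_mul, hn.2, mul_one, ← map_mul, mul_inv_cancel, map_one]⟩⟩

theorem klein_two : IsPGroup 2 klein := fun σ => ⟨1, Subtype.ext (by
  rw [pow_one, pow_two, Subgroup.coe_mul, Subgroup.coe_one]; exact σ.2.1)⟩

variable {G : Type*} [Group G] [Finite G]

omit [Finite G] in
/-- A subgroup with a two-group containing all its two-elements does not map onto `S₄`. -/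
theorem no_hom_four {H : Subgroup G} (ψ : H →* S₄) (hψ : Function.Surjective ψ) {P : Subgroup G}
    (hP : IsPGroup 2 P) (hall : ∀ a : H, ∀ k : ℕ, a ^ 2 ^ k = 1 → (a : G) ∈ P) [Finite H] :
    False := by
  haveI : Fact (Nat.Prime 2) := ⟨Nat.prime_two⟩
  let T : Sylow 2 H := default
  set W := (P.subgroupOf H).map ψ with hW
  have hWp : IsPGroup 2 W :=
    ((hP.to_le (inf_le_left : P ⊓ H ≤ P)).of_equiv (Subgroup.subgroupOfEquivOfLe
      (inf_le_right : P ⊓ H ≤ H)).symm).to_le (le_of_eq (Subgroup.inf_subgroupOf_right P H).symm)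
      |>.map ψ
  have hall' : ∀ (Q : Sylow 2 H), (Q : Subgroup H) ≤ P.subgroupOf H := fun Q a ha => by
    obtain ⟨k, hk⟩ := Q.2 ⟨a, ha⟩
    exact hall a k (congrArg Subtype.val hk)
  have hT : (T.mapSurjective hψ : Subgroup S₄) ≤ W := Subgroup.map_mono (hall' T)
  have hWeq : (T.mapSurjective hψ : Subgroup S₄) = W :=
    ((T.mapSurjective hψ).3 hWp hT).symm
  have hconj : ∀ g : S₄, ∀ w ∈ W, g * w * g⁻¹ ∈ W := by
    intro g w hw
    obtain ⟨a, rfl⟩ := hψ g
    rw [← hWeq] at hw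
    obtain ⟨b, hb, rfl⟩ := hw
    refine ⟨a * b * a⁻¹, hall' (a • T) ?_, by simp⟩
    rw [Sylow.coe_subgroup_smul]
    exact ⟨b, hb, rfl⟩
  obtain ⟨k, hk⟩ := IsPGroup.iff_card.mp hWp
  have hWcard : Nat.card W = 8 := by
    rw [← hWeq, (T.mapSurjective hψ).card_eq_multiplicity, Nat.card_perm, Nat.card_fin]
    decide +kernel
  haveI hWn : W.Normal := ⟨fun w hw g => hconj g w hw⟩
  -- every involution lies in every Sylow subgroup
  have hinv : ∀ s : S₄, s * s = 1 → s ∈ W := by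
    intro s hs
    have hp : IsPGroup 2 (Subgroup.zpowers s) := IsPGroup.of_card (n := if s = 1 then 0 else 1) (by
      rw [Nat.card_zpowers]
      split_ifs with h
      · rw [h, orderOf_one, pow_zero]
      · rw [pow_one]; exact orderOf_eq_prime (by rw [pow_two, hs]) h)
    have hj := hp.to_sup_of_normal_right hWp
    rw [← hWeq] at hj
    have := (T.mapSurjective hψ).3 hj le_sup_right
    rw [← hWeq, ← this]
    exact Subgroup.mem_sup_left (Subgroup.mem_zpowers s)
  have h12 : ∀ a b : Fin 4, Equiv.swap a b ∈ W := fun a b => hinv _ (Equiv.swap_mul_self a b)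
  have htop : W = ⊤ := by
    rw [eq_top_iff]
    intro g hg'
    clear hg'
    induction g using Equiv.Perm.swap_induction_on with
    | one => exact one_mem W
    | swap_mul f a b _ ih => exact mul_mem (h12 a b) ih
  rw [htop, Subgroup.card_top, Nat.card_perm, Nat.card_fin] at hWcard
  exact absurd hWcard (by decide)

/-- Trivial intersections of Sylow two-subgroups exclude `S₄`. -/
theorem not_involves_four_of_ti (P : Subgroup G) (hP : IsPGroup 2 P) (hidx : ¬ 2 ∣ P.index)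
    (hTI : ∀ g : G, ∀ x ∈ P, x ≠ 1 → g * x * g⁻¹ ∈ P → g ∈ Subgroup.normalizer (P : Set G)) :
    ¬ Cfsg.Involves S₄ G := by
  intro h
  haveI : Fact (Nat.Prime 2) := ⟨Nat.prime_two⟩
  obtain ⟨K, ψ, hψ⟩ := exists_hom_of_involves h
  haveI := klein_normal
  set M := klein.comap ψ with hM
  haveI : M.Normal := Subgroup.Normal.comap klein_normal ψ
  obtain ⟨Q⟩ := (inferInstance : Nonempty (Sylow 2 M))
  set Q' := (Q : Subgroup M).map M.subtype with hQ'
  have hF : Subgroup.normalizer (Q' : Set K) ⊔ M = ⊤ := Sylow.normalizer_sup_eq_top Q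
  have hs : Function.Surjective (ψ.subgroupComap klein) :=
    ψ.subgroupComap_surjective_of_surjective klein hψ
  have hQim : (Q : Subgroup M).map (ψ.subgroupComap klein) = ⊤ := by
    refine top_le_iff.mp ?_
    have := (Q.mapSurjective hs).3 (klein_two.of_equiv Subgroup.topEquiv.symm) le_top
    rw [this]
    exact le_of_eq rfl
  have hQk : klein ≤ Q'.map ψ := fun v hv => by
    obtain ⟨q, hq, hq1⟩ : (⟨v, hv⟩ : klein) ∈ (Q : Subgroup M).map (ψ.subgroupComap klein) :=
      hQim ▸ Subgroup.mem_top _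
    exact ⟨q, ⟨q, hq, rfl⟩, congrArg Subtype.val hq1⟩
  -- the normaliser maps onto
  have hN : (Subgroup.normalizer (Q' : Set K)).map ψ = ⊤ := by
    refine top_le_iff.mp ?_
    rw [← Subgroup.map_top_of_surjective ψ hψ, ← hF, Subgroup.map_sup]
    exact sup_le le_rfl (((Subgroup.map_comap_le ψ klein).trans hQk).trans
      (Subgroup.map_mono Subgroup.le_normalizer))
  set Q'' := Q'.map K.subtype with hQ''
  have hQp : IsPGroup 2 Q'' := (Q.2.map M.subtype).map K.subtype
  obtain ⟨T, hT⟩ := hQp.exists_le_sylow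
  obtain ⟨c, hc⟩ := MulAction.exists_smul_eq G T (hP.toSylow hidx)
  have hcT : ∀ x ∈ Q'', c * x * c⁻¹ ∈ P := fun x hx => by
    have hcP : ((c • T : Sylow 2 G) : Subgroup G) = P := by rw [hc]; rfl
    rw [← hcP, Sylow.coe_subgroup_smul]
    exact ⟨x, hT hx, rfl⟩
  obtain ⟨z, hz, hz1⟩ : ∃ z ∈ Q'', z ≠ 1 := by
    obtain ⟨q, hq, hq1⟩ := hQk (show Equiv.swap (0 : Fin 4) 1 * Equiv.swap 2 3 ∈ klein from
      ⟨by decide, by decide⟩)
    refine ⟨q, ⟨q, hq, rfl⟩, fun e => ?_⟩
    rw [show q = 1 from Subtype.ext e, map_one] at hq1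
    exact absurd hq1 (by decide)
  -- conjugate into the normaliser of `P`
  set H := (Subgroup.normalizer (Q' : Set K)).map K.subtype with hH
  set P' := P.comap (MulAut.conj c).toMonoidHom with hP'
  have hnorm : ∀ n ∈ H, c * n * c⁻¹ ∈ Subgroup.normalizer (P : Set G) := by
    rintro _ ⟨n, hn, rfl⟩
    refine hTI _ (c * z * c⁻¹) (hcT z hz) (fun e => hz1 (conj_eq_one_iff.mp e)) ?_
    obtain ⟨z', hz', rfl⟩ := hz
    rw [show c * K.subtype n * c⁻¹ * (c * K.subtype z' * c⁻¹) * (c * K.subtype n * c⁻¹)⁻¹ =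
      c * K.subtype (n * z' * n⁻¹) * c⁻¹ by simp only [map_mul, map_inv]; group]
    exact hcT _ ⟨_, (Subgroup.mem_normalizer_iff.mp hn z').mp hz', rfl⟩
  let e := (Subgroup.normalizer (Q' : Set K)).equivMapOfInjective K.subtype K.subtype_injective
  refine no_hom_four (H := H) ((ψ.comp (Subgroup.normalizer (Q' : Set K)).subtype).comp
    e.symm.toMonoidHom) ?_ (P := P') ?_ ?_
  · intro v
    obtain ⟨n, hn, rfl⟩ : v ∈ (Subgroup.normalizer (Q' : Set K)).map ψ := hN ▸ Subgroup.mem_top v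
    exact ⟨e ⟨n, hn⟩, by simp⟩
  · exact hP.comap_of_injective _ (MulAut.conj c).injective
  · intro a k hk
    show c * (a : G) * c⁻¹ ∈ P
    have hn := hnorm a a.2
    have hp : IsPGroup 2 (Subgroup.zpowers (c * (a : G) * c⁻¹)) := by
      obtain ⟨j, -, hj⟩ := (Nat.dvd_prime_pow Nat.prime_two).mp
        (orderOf_dvd_of_pow_eq_one (show (c * (a : G) * c⁻¹) ^ 2 ^ k = 1 by
          rw [conj_pow, ← Subgroup.coe_pow, hk, Subgroup.coe_one, mul_one, mul_inv_cancel]))
      exact IsPGroup.of_card (by rw [Nat.card_zpowers, hj])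
    have hj := hp.to_sup_of_normal_right' hP (Subgroup.zpowers_le.mpr hn)
    have := (hP.toSylow hidx).3 hj le_sup_right
    have hm := Subgroup.mem_sup_left (T := P) (Subgroup.mem_zpowers (c * (a : G) * c⁻¹))
    rw [this] at hm
    exact hm

/-- An abelian Sylow two-subgroup excludes `S₄`. -/
theorem not_involves_four_of_abelian (P : Subgroup G) (hP : IsPGroup 2 P) (hidx : ¬ 2 ∣ P.index)
    (hab : ∀ a ∈ P, ∀ b ∈ P, a * b = b * a) : ¬ Cfsg.Involves S₄ G := by
  intro h
  haveI : Fact (Nat.Prime 2) := ⟨Nat.prime_two⟩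
  obtain ⟨K, ψ, hψ⟩ := exists_hom_of_involves h
  have habK : ∀ (T : Sylow 2 K), ∀ a ∈ (T : Subgroup K), ∀ b ∈ (T : Subgroup K), a * b = b * a := by
    intro T a ha b hb
    obtain ⟨R, hR⟩ := (T.2.map K.subtype).exists_le_sylow
    obtain ⟨c, hc⟩ := MulAction.exists_smul_eq G R (hP.toSylow hidx)
    have hcP : ((c • R : Sylow 2 G) : Subgroup G) = P := by rw [hc]; rfl
    have hm : ∀ x ∈ (T : Subgroup K), c * (x : G) * c⁻¹ ∈ P := fun x hx => by
      rw [← hcP, Sylow.coe_subgroup_smul]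
      exact ⟨x, hR ⟨x, hx, rfl⟩, rfl⟩
    have he := hab _ (hm a ha) _ (hm b hb)
    refine Subtype.ext ?_
    rw [Subgroup.coe_mul, Subgroup.coe_mul]
    calc (a : G) * b = c⁻¹ * (c * a * c⁻¹ * (c * b * c⁻¹)) * c := by group
      _ = c⁻¹ * (c * b * c⁻¹ * (c * a * c⁻¹)) * c := by rw [he]
      _ = (b : G) * a := by group
  obtain ⟨T⟩ := (inferInstance : Nonempty (Sylow 2 K))
  let W : Sylow 2 S₄ := T.mapSurjective hψ
  -- a dihedral subgroup of order eight
  set d : S₄ := Equiv.swap 0 1 * Equiv.swap 2 3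
  have hD : IsPGroup 2 (Subgroup.centralizer ({d} : Set S₄)) := by
    refine IsPGroup.of_card (n := 3) ?_
    rw [Nat.card_congr (Equiv.subtypeEquivRight (q := fun g : S₄ => g * d = d * g)
      fun g => Subgroup.mem_centralizer_singleton_iff), Nat.card_eq_fintype_card]
    decide +kernel
  obtain ⟨D, hDle⟩ := hD.exists_le_sylow
  obtain ⟨g, hg⟩ := MulAction.exists_smul_eq S₄ W D
  have hcomm : ∀ a ∈ (D : Subgroup S₄), ∀ b ∈ (D : Subgroup S₄), a * b = b * a := by
    rw [← hg, Sylow.coe_subgroup_smul]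
    rintro _ ⟨_, ⟨a, ha, rfl⟩, rfl⟩ _ ⟨_, ⟨b, hb, rfl⟩, rfl⟩
    show g * ψ a * g⁻¹ * (g * ψ b * g⁻¹) = g * ψ b * g⁻¹ * (g * ψ a * g⁻¹)
    have he : ψ a * ψ b = ψ b * ψ a := by rw [← map_mul, ← map_mul, habK T a ha b hb]
    calc g * ψ a * g⁻¹ * (g * ψ b * g⁻¹) = g * (ψ a * ψ b) * g⁻¹ := by group
      _ = g * (ψ b * ψ a) * g⁻¹ := by rw [he]
      _ = _ := by group
  have := hcomm (Equiv.swap 0 1) (hDle (Subgroup.mem_centralizer_singleton_iff.mpr (by decide)))
    (Equiv.swap 0 2 * Equiv.swap 1 3) (hDle (Subgroup.mem_centralizer_singleton_iff.mpr (by decide)))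
  exact absurd this (by decide)

end Four

end CfsgLib.ReeTypeSThree
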