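import Cfsg.Agent.Lib.ReeTypeSThree.Defs
import Cfsg.Agent.Lib.Char.Virtual
import Cfsg.Agent.Lib.Char.CMValue
import Cfsg.Agent.Lib.Char.Counting

/-!
The class functions `LData` of a group with the subgroup structure of `PSL₂(q)`, `q` an odd power
of three: the functions induced from the Sylow 3-subgroup, the Borel subgroup and the torus of
order `(q + 1)/4`.
-/

set_option autoImplicit false
set_option linter.style.haveILetI false
set_option linter.unusedSectionVars false

namespace CfsgLib.ReeTypeSThree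

open Cfsg CfsgLib.Char
open scoped ComplexConjugate

universe v

/-- The structure of `PSL₂(q)` used for the class functions. -/
structure LShape (L : Type v) [Group L] (q m : ℕ) where
  q_eq : q + 1 = 4 * m
  odd_m : Odd m
  three_q : 3 ∣ q
  le_q : 27 ≤ q
  card_L : Nat.card L = q * ((q - 1) / 2) * (q + 1)
  U : Subgroup L
  B : Subgroup L
  le : U ≤ B
  card_U : Nat.card U = q
  card_B : Nat.card B = q * ((q - 1) / 2)
  cube : ∀ x ∈ U, x ^ 3 = 1
  mem_U : ∀ x ∈ B, x ^ 3 = 1 → x ∈ U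
  cent_U : ∀ c ∈ U, c ≠ 1 → ∀ y : L, Commute y c → y ∈ U
  comm_U : ∀ a ∈ U, ∀ b ∈ U, Commute a b
  mem_B : ∀ c ∈ U, c ≠ 1 → ∀ x : L, x⁻¹ * c * x ∈ U → x ∈ B
  conj_U : ∀ b ∈ B, ∀ c ∈ U, b * c * b⁻¹ ∈ U
  comm_mod : ∀ a ∈ B, ∀ b ∈ B, a * b * a⁻¹ * b⁻¹ ∈ U
  T : Subgroup L
  card_T : Nat.card T = m
  cyclic_T : IsCyclic T
  v : L
  v_sq : v * v = 1
  v_ne : v ≠ 1
  d : L
  d_inv : ∀ g ∈ T, d * g * d⁻¹ = g⁻¹
  cent_T : ∀ g ∈ T, g ≠ 1 → ∀ y : L, Commute y g → Commute y v ∧ (y ∈ T ∨ y * v ∈ T)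
  comm_v : ∀ g ∈ T, Commute g v
  cent_v : ∀ y : L, Commute y v → (∀ g ∈ T, y * g * y⁻¹ = g) ∨ ∀ g ∈ T, y * g * y⁻¹ = g⁻¹
  card_cent : ∀ w : L, w * w = 1 → w ≠ 1 →
    Nat.card (Subgroup.centralizer ({w} : Set L)) = q + 1

variable {L : Type v} [Group L] [Fintype L] {q m : ℕ} (S : LShape L q m)

/-- A sum over a group of a function extended by zero is the sum over the elements conjugating into
the subgroup. -/
theorem indFun_eq_sum (H K : Subgroup L) [Fintype K] (θ : H → ℂ) (g : L)
    (hK : ∀ x : L, x⁻¹ * g * x ∈ H ↔ x ∈ K) :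
    indFun H θ g = (Nat.card H : ℂ)⁻¹ *
      ∑ k : K, θ ⟨(k : L)⁻¹ * g * k, (hK k).mpr k.2⟩ := by
  classical
  rw [indFun]
  congr 1
  rw [← Finset.sum_subset (Finset.subset_univ (Finset.univ.map (Function.Embedding.subtype (· ∈ K))))
    (fun x _ hx => extendByZero_notMem H θ fun h => hx (Finset.mem_map.mpr
      ⟨⟨x, (hK x).mp h⟩, Finset.mem_univ _, rfl⟩)), Finset.sum_map]
  exact Finset.sum_congr rfl fun k _ => extendByZero_mem H θ _

/-- An induced function vanishes at an element with no conjugate in the subgroup. -/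
theorem indFun_eq_zero (H : Subgroup L) (θ : H → ℂ) (g : L) (h : ∀ x : L, x⁻¹ * g * x ∉ H) :
    indFun H θ g = 0 := by
  rw [indFun, Finset.sum_eq_zero fun x _ => extendByZero_notMem H θ (h x), mul_zero]

theorem orderOf_conj' (g x : L) : orderOf (x⁻¹ * g * x) = orderOf g := by
  have h := MulEquiv.orderOf_eq (MulAut.conj x⁻¹) g
  simpa using h

theorem orderOf_dvd_of_conj_mem {H : Subgroup L} {g x : L} (h : x⁻¹ * g * x ∈ H) :
    orderOf g ∣ Nat.card H :=
  orderOf_conj' g x ▸ Subgroup.orderOf_dvd_natCard _ h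

namespace LShape

include S

theorem two_e : q - 1 = 2 * ((q - 1) / 2) := by
  have := S.q_eq; have := S.le_q; omega

theorem odd_e : Odd ((q - 1) / 2) := by
  have := S.q_eq; have := S.le_q
  exact Nat.odd_iff.mpr (by omega)

theorem three_e : ¬ 3 ∣ (q - 1) / 2 := by
  have := S.three_q; have := S.two_e; have := S.le_q
  omega

theorem odd_card_B : Odd (Nat.card S.B) := by
  rw [S.card_B]
  exact Odd.mul (Nat.odd_iff.mpr (by have := S.q_eq; omega)) S.odd_e

theorem cast_e : (((q - 1) / 2 : ℕ) : ℂ) = ((q : ℂ) - 1) / 2 := by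
  have h := congrArg (fun n : ℕ => (n : ℂ)) S.two_e
  have := S.le_q
  push_cast [Nat.cast_sub (by omega : 1 ≤ q)] at h
  rw [h]; ring

theorem coprime_T_B : Nat.Coprime m (Nat.card S.B) := by
  have h1 := S.q_eq
  have h2 := S.le_q
  rw [S.card_B]
  refine Nat.Coprime.mul_right ?_ ?_ <;> rw [Nat.coprime_iff_gcd_eq_one]
  · refine Nat.eq_one_of_dvd_one ?_
    have ha := Nat.gcd_dvd_left m q
    have hb := Nat.gcd_dvd_right m q
    have hc : Nat.gcd m q ∣ 4 * m - q := Nat.dvd_sub (ha.mul_left 4) hb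
    rwa [show 4 * m - q = 1 by omega] at hc
  · refine Nat.eq_one_of_dvd_one ?_
    have ha := Nat.gcd_dvd_left m ((q - 1) / 2)
    have hb := Nat.gcd_dvd_right m ((q - 1) / 2)
    have hc : Nat.gcd m ((q - 1) / 2) ∣ 2 * m - (q - 1) / 2 := Nat.dvd_sub (ha.mul_left 2) hb
    rwa [show 2 * m - (q - 1) / 2 = 1 by omega] at hc

theorem conj_U' {b c : L} (hb : b ∈ S.B) (hc : c ∈ S.U) : b⁻¹ * c * b ∈ S.U := by
  simpa using S.conj_U b⁻¹ (inv_mem hb) c hc

theorem mem_B_iff {c : L} (hc : c ∈ S.U) (hc1 : c ≠ 1) (x : L) :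
    x⁻¹ * c * x ∈ S.U ↔ x ∈ S.B :=
  ⟨S.mem_B c hc hc1 x, fun hx => S.conj_U' hx hc⟩

/-- A subgroup of order three conjugate into the Borel subgroup is conjugate by the Borel. -/
theorem mem_B_iff' {c : L} (hc : c ∈ S.U) (hc1 : c ≠ 1) (x : L) :
    x⁻¹ * c * x ∈ S.B ↔ x ∈ S.B := by
  refine ⟨fun h => S.mem_B c hc hc1 x (S.mem_U _ h ?_), fun hx => S.le (S.conj_U' hx hc)⟩
  rw [show x⁻¹ * c * x = MulAut.conj x⁻¹ c by simp, ← map_pow, S.cube c hc, map_one]

/-- An element of the Borel subgroup does not invert a nontrivial element of `U`. -/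
theorem not_inv {c b : L} (hc : c ∈ S.U) (hc1 : c ≠ 1) (hb : b ∈ S.B) :
    b⁻¹ * c * b ≠ c⁻¹ := by
  intro h
  have h2 : Commute (b * b) c := by
    have e : (b * b)⁻¹ * c * (b * b) = c := by
      rw [show (b * b)⁻¹ * c * (b * b) = b⁻¹ * (b⁻¹ * c * b) * b by group, h,
        show b⁻¹ * c⁻¹ * b = (b⁻¹ * c * b)⁻¹ by group, h, inv_inv]
    show b * b * c = c * (b * b)
    conv_lhs => rw [← e]
    group
  have hb1 : Commute b c := by
    obtain ⟨k, hk⟩ := S.odd_card_B.of_dvd_nat (Subgroup.orderOf_dvd_natCard _ hb)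
    have e : (b * b) ^ (k + 1) = b := by
      rw [← pow_two, ← pow_mul, show 2 * (k + 1) = orderOf b + 1 by omega, pow_succ,
        pow_orderOf_eq_one, one_mul]
    exact e ▸ h2.pow_left (k + 1)
  rw [mul_assoc, ← hb1.eq, inv_mul_cancel_left] at h
  have h3 : orderOf c ∣ 2 := orderOf_dvd_of_pow_eq_one (by
    rw [pow_two]; nth_rewrite 2 [h]; exact mul_inv_cancel c)
  have h4 : orderOf c ∣ 3 := orderOf_dvd_of_pow_eq_one (S.cube c hc)
  exact hc1 (orderOf_eq_one_iff.mp (Nat.eq_one_of_dvd_coprimes (by norm_num) h3 h4))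

/-- The two orbits of the Borel subgroup on `U` cover the nontrivial elements `q` times each. -/
theorem orbit_sum [Fintype S.B] [Fintype S.U] {c : L} (hc : c ∈ S.U) (hc1 : c ≠ 1) (F : L → ℂ) :
    ∑ b : S.B, (F ((b : L)⁻¹ * c * b) + F ((b : L)⁻¹ * c⁻¹ * b)) =
      (q : ℂ) * ((∑ x : S.U, F x) - F 1) := by
  classical
  let U₁ : Finset L := (Finset.univ.filter fun x : L => x ∈ S.U).erase 1
  let φ : S.B × Bool → L := fun p =>
    (p.1 : L)⁻¹ * (if p.2 then c else c⁻¹) * p.1
  have hmap : ∀ p, φ p ∈ U₁ := by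
    rintro ⟨b, s⟩
    have hcs : (if s then c else c⁻¹) ∈ S.U := by cases s <;> simp [hc]
    refine Finset.mem_erase.mpr ⟨fun h => ?_, Finset.mem_filter.mpr ⟨Finset.mem_univ _, S.conj_U' b.2 hcs⟩⟩
    have h' : (if s then c else c⁻¹) = 1 := by
      have := congrArg (fun y => (b : L) * y * (b : L)⁻¹) h
      simpa [φ, mul_assoc] using this
    cases s <;> simp [hc1] at h'
  have hfib : ∀ y, (Finset.univ.filter fun p : S.B × Bool => φ p = y).card ≤ q := by
    intro y
    rcases (Finset.univ.filter fun p : S.B × Bool => φ p = y).eq_empty_or_nonempty with h | ⟨⟨b₀, s₀⟩, h0⟩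
    · simp [h]
    have h0' : φ (b₀, s₀) = y := (Finset.mem_filter.mp h0).2
    have key : ∀ p, φ p = y → p.2 = s₀ ∧ (p.1 : L) * (b₀ : L)⁻¹ ∈ S.U := by
      rintro ⟨b, s⟩ hp
      rw [← h0'] at hp
      have hb : (b : L) * (b₀ : L)⁻¹ ∈ S.B := mul_mem b.2 (inv_mem b₀.2)
      have e : ((b : L) * (b₀ : L)⁻¹)⁻¹ * (if s then c else c⁻¹) * ((b : L) * (b₀ : L)⁻¹) =
          if s₀ then c else c⁻¹ := by
        have := congrArg (fun y => (b₀ : L) * y * (b₀ : L)⁻¹) hp
        simpa [φ, mul_assoc] using this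
      have hs : s = s₀ := by
        cases s <;> cases s₀ <;> simp at e ⊢
        · exact S.not_inv (inv_mem hc) (inv_ne_one.mpr hc1) hb (by simpa [mul_assoc] using e)
        · exact S.not_inv hc hc1 hb (by simpa [mul_assoc] using e)
      subst hs
      refine ⟨rfl, S.cent_U (if s then c else c⁻¹) (by cases s <;> simp [hc])
        (by cases s <;> simp [hc1]) _ ?_⟩
      show _ * _ = _ * _
      conv_lhs => rw [← e]
      simp [mul_assoc]
    have hf : Function.Injective (fun p : {p : S.B × Bool // φ p = y} =>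
        (⟨(p.1.1 : L) * (b₀ : L)⁻¹, (key p.1 p.2).2⟩ : S.U)) := by
      rintro ⟨⟨b, s⟩, hp⟩ ⟨⟨b', s'⟩, hp'⟩ e
      have e' : (b : L) * (b₀ : L)⁻¹ = (b' : L) * (b₀ : L)⁻¹ := congrArg Subtype.val e
      obtain rfl : s = s' := (key _ hp).1.trans (key _ hp').1.symm
      obtain rfl : b = b' := Subtype.ext (mul_right_cancel e')
      rfl
    have := Nat.card_le_card_of_injective _ hf
    rwa [S.card_U, Nat.card_eq_fintype_card, Fintype.card_subtype] at this
  have hU₁ : U₁.card = q - 1 := by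
    rw [Finset.card_erase_of_mem (by simp), ← Fintype.card_subtype, ← Nat.card_eq_fintype_card]
    exact congrArg (· - 1) S.card_U
  have hcard : (Finset.univ : Finset (S.B × Bool)).card = q * U₁.card := by
    rw [hU₁, Finset.card_univ, Fintype.card_prod, Fintype.card_bool, ← Nat.card_eq_fintype_card,
      S.card_B, mul_assoc, mul_comm ((q - 1) / 2) 2, ← S.two_e]
  have heq : ∀ y ∈ U₁, (Finset.univ.filter fun p : S.B × Bool => φ p = y).card = q := by
    have hsum := Finset.card_eq_sum_card_fiberwise (f := φ) (s := Finset.univ) (t := U₁)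
      fun p _ => hmap p
    have h2 : ∑ y ∈ U₁, (Finset.univ.filter fun p : S.B × Bool => φ p = y).card = ∑ y ∈ U₁, q := by
      rw [← hsum, hcard, Finset.sum_const, smul_eq_mul, mul_comm]
    exact (Finset.sum_eq_sum_iff_of_le fun y _ => hfib y).mp h2
  calc ∑ b : S.B, (F ((b : L)⁻¹ * c * b) + F ((b : L)⁻¹ * c⁻¹ * b))
      = ∑ p : S.B × Bool, F (φ p) := by
        rw [Fintype.sum_prod_type]
        exact Finset.sum_congr rfl fun b _ => by simp [φ]
    _ = ∑ y ∈ U₁, (q : ℂ) * F y := by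
        rw [← Finset.sum_fiberwise_of_maps_to (g := φ) (t := U₁) fun p _ => hmap p]
        refine Finset.sum_congr rfl fun y hy => ?_
        rw [Finset.sum_congr rfl fun p hp => by rw [(Finset.mem_filter.mp hp).2], Finset.sum_const,
          heq y hy, nsmul_eq_mul]
    _ = _ := by
        rw [← Finset.mul_sum]
        congr 1
        rw [Finset.sum_erase_eq_sub (by simp)]
        congr 1
        exact (Finset.sum_subtype _ (fun x => by simp) F)

/-- Two conjugates of `c` in the Borel subgroup have equal class function values. -/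
theorem sum_conj_class [Fintype S.B] [Fintype S.U] {c : L} (hc : c ∈ S.U) (hc1 : c ≠ 1)
    {f : L → ℂ} (hf : IsClassFunction L f) :
    (∑ x : S.U, f x) - f 1 = (((q - 1) / 2 : ℕ) : ℂ) * (f c + f c⁻¹) := by
  have hq : (q : ℂ) ≠ 0 := Nat.cast_ne_zero.mpr (by have := S.le_q; omega)
  refine mul_left_cancel₀ hq ?_
  rw [← S.orbit_sum hc hc1 f]
  have e : ∀ (b y : L), f (b⁻¹ * y * b) = f y := fun b y => by
    simpa using hf y b⁻¹
  simp only [e, Finset.sum_const, Finset.card_univ, nsmul_eq_mul, ← Nat.card_eq_fintype_card,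
    S.card_B]
  push_cast
  ring

section Sylow

variable (ω : S.U →* ℂˣ)

/-- The sum of the linear character and its conjugate. -/
noncomputable def pairFun : S.U → ℂ := fun x => (ω x : ℂ) + (ω x⁻¹ : ℂ)

/-- The function induced from `ω + ω⁻¹`. -/
noncomputable def Rfun : L → ℂ := indFun S.U (S.pairFun ω)

theorem pairFun_conj (x : S.U) : conj (S.pairFun ω x) = S.pairFun ω x := by
  rw [pairFun, map_add, ← value_inv_eq_conj (isCharacter_monoidHom ω),
    ← value_inv_eq_conj (isCharacter_monoidHom ω), inv_inv, add_comm]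

theorem index_U : (S.U.index : ℂ) = ((q : ℂ) ^ 2 - 1) / 2 := by
  have h := S.U.card_mul_index
  rw [S.card_U, S.card_L] at h
  have hq : q ≠ 0 := by have := S.le_q; omega
  rw [mul_assoc] at h
  rw [Nat.eq_of_mul_eq_mul_left (Nat.pos_of_ne_zero hq) h, Nat.cast_mul, S.cast_e]
  push_cast
  ring

theorem Rfun_one : S.Rfun ω 1 = (q : ℂ) ^ 2 - 1 := by
  rw [Rfun, indFun_one, S.index_U, pairFun]
  simp
  ring

theorem Rfun_U (hω : ω ≠ 1) {c : L} (hc : c ∈ S.U) (hc1 : c ≠ 1) : S.Rfun ω c = -1 := by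
  classical
  haveI : Fintype S.B := Fintype.ofFinite _
  haveI : Fintype S.U := Fintype.ofFinite _
  have hq : (q : ℂ) ≠ 0 := Nat.cast_ne_zero.mpr (by have := S.le_q; omega)
  let F : L → ℂ := extendByZero S.U fun x => (ω x : ℂ)
  rw [Rfun, indFun_eq_sum S.U S.B _ c (S.mem_B_iff hc hc1)]
  have h0 : ∑ x : S.U, (ω x : ℂ) = 0 := by
    obtain ⟨y, hy⟩ : ∃ y, ω y ≠ 1 := by
      by_contra hh
      push Not at hh
      exact hω (MonoidHom.ext hh)
    have e : (ω y : ℂ) * ∑ x : S.U, (ω x : ℂ) = ∑ x : S.U, (ω x : ℂ) := by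
      rw [Finset.mul_sum]
      exact Fintype.sum_equiv (Equiv.mulLeft y) _ _ fun x => by simp
    by_contra hne
    exact hy (Units.ext (mul_right_cancel₀ hne (e.trans (one_mul _).symm)))
  have key := S.orbit_sum hc hc1 F
  rw [Finset.sum_congr rfl (fun x _ => extendByZero_coe _ _ x), h0] at key
  have h1 : F 1 = 1 := by
    show extendByZero S.U _ (((1 : S.U) : L)) = 1
    rw [extendByZero_coe]; simp
  rw [h1] at key
  have e : ∑ k : S.B, S.pairFun ω ⟨(k : L)⁻¹ * c * k, (S.mem_B_iff hc hc1 k).mpr k.2⟩ =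
      ∑ b : S.B, (F ((b : L)⁻¹ * c * b) + F ((b : L)⁻¹ * c⁻¹ * b)) := by
    refine Finset.sum_congr rfl fun b _ => ?_
    rw [pairFun]
    have hb1 := (S.mem_B_iff hc hc1 b).mpr b.2
    have hb2 : (b : L)⁻¹ * c⁻¹ * b ∈ S.U := S.conj_U' b.2 (inv_mem hc)
    simp only [F, extendByZero_mem _ _ hb1, extendByZero_mem _ _ hb2]
    congr 3
    exact Subtype.ext (by simp [mul_assoc])
  rw [e, key, S.card_U]
  field_simp
  ring

theorem Rfun_supp {g : L} (h : S.Rfun ω g ≠ 0) : Odd (orderOf g) := by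
  by_contra hg
  refine h (indFun_eq_zero _ _ _ fun x hx => hg ?_)
  refine Odd.of_dvd_nat ?_ (orderOf_dvd_of_conj_mem hx)
  rw [S.card_U]
  exact Nat.odd_iff.mpr (by have := S.q_eq; omega)

theorem Rfun_real (g : L) : conj (S.Rfun ω g) = S.Rfun ω g := by
  rw [Rfun, indFun, map_mul, map_inv₀, map_natCast, map_sum]
  congr 1
  refine Finset.sum_congr rfl fun x _ => ?_
  by_cases hx : x⁻¹ * g * x ∈ S.U
  · rw [extendByZero_mem _ _ hx, S.pairFun_conj]
  · rw [extendByZero_notMem _ _ hx, map_zero]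

theorem Rfun_gen : IsGeneralizedCharacter L (S.Rfun ω) := by
  refine isGeneralized_indFun _ (isGeneralized_add (isGeneralized_of_isCharacter (isCharacter_monoidHom ω))
    (isGeneralized_of_isCharacter ?_))
  have h := isCharacter_conj (isCharacter_monoidHom ω)
  rwa [show (fun g => conj (ω g : ℂ)) = fun g => ((ω g⁻¹ : ℂˣ) : ℂ) from
    funext fun g => (value_inv_eq_conj (isCharacter_monoidHom ω) g).symm] at h

theorem inner_Rfun (hω : ω ≠ 1) {f : L → ℂ} (hf : IsClassFunction L f) {c : L} (hc : c ∈ S.U)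
    (hc1 : c ≠ 1) :
    classInner f (S.Rfun ω) = (2 * f 1 - (f c + f c⁻¹)) / (q : ℂ) := by
  classical
  haveI : Fintype S.B := Fintype.ofFinite _
  haveI : Fintype S.U := Fintype.ofFinite _
  have hq : (q : ℂ) ≠ 0 := Nat.cast_ne_zero.mpr (by have := S.le_q; omega)
  let F : L → ℂ := extendByZero S.U fun x => f x * S.pairFun ω x
  rw [Rfun, frobenius_reciprocity' _ _ hf, classInner, S.card_U]
  simp only [S.pairFun_conj]
  have key := S.orbit_sum hc hc1 F
  rw [Finset.sum_congr rfl (fun x _ => extendByZero_coe _ _ x)] at key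
  have h1 : F 1 = 2 * f 1 := by
    show extendByZero S.U _ (((1 : S.U) : L)) = _
    rw [extendByZero_coe]; simp [pairFun]; ring
  have hR : ∀ y : L, (hy : y ∈ S.U) → y ≠ 1 →
      ∑ b : S.B, F ((b : L)⁻¹ * y * b) = -(q : ℂ) * f y := by
    intro y hy hy1
    have e := S.Rfun_U ω hω hy hy1
    rw [Rfun, indFun_eq_sum S.U S.B _ y (S.mem_B_iff hy hy1), S.card_U,
      inv_mul_eq_iff_eq_mul₀ hq] at e
    calc ∑ b : S.B, F ((b : L)⁻¹ * y * b)
        = f y * ∑ k : S.B, S.pairFun ω ⟨(k : L)⁻¹ * y * k, (S.mem_B_iff hy hy1 k).mpr k.2⟩ := by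
          rw [Finset.mul_sum]
          refine Finset.sum_congr rfl fun b _ => ?_
          simp only [F, extendByZero_mem _ _ (S.conj_U' b.2 hy)]
          congr 1
          simpa using hf y (b : L)⁻¹
      _ = _ := by rw [e]; ring
  rw [Finset.sum_add_distrib, hR c hc hc1, hR c⁻¹ (inv_mem hc) (inv_ne_one.mpr hc1), h1] at key
  rw [inv_mul_eq_div]
  congr 1
  refine mul_left_cancel₀ hq ?_
  linear_combination -key

end Sylow

section Torus

/-- The function induced from a linear character of the torus. -/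
theorem indLin_T {g : L} (hg : g ∈ S.T) (hg1 : g ≠ 1) (z : S.T →* ℂˣ) :
    indLin S.T z g = 2 * ((z ⟨g, hg⟩ : ℂˣ) : ℂ) + 2 * ((z ⟨g, hg⟩⁻¹ : ℂˣ) : ℂ) := by
  classical
  set C := Subgroup.centralizer ({S.v} : Set L) with hC
  haveI : Fintype C := Fintype.ofFinite _
  have hvC : ∀ y : L, y ∈ C ↔ Commute y S.v := fun y => Subgroup.mem_centralizer_singleton_iff
  have hmem : ∀ x : L, x⁻¹ * g * x ∈ S.T ↔ x ∈ C := by
    intro x
    refine ⟨fun h => ?_, fun h => ?_⟩
    · have hne : x⁻¹ * g * x ≠ 1 := fun e => hg1 (by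
        have := congrArg (fun y => x * y * x⁻¹) e
        simpa [mul_assoc] using this)
      have hv : Commute (x * S.v * x⁻¹) g := by
        have h' := S.comm_v _ h
        have h2 := (Commute.conj_iff x).mpr h'.symm
        simpa [mul_assoc] using h2
      rcases (S.cent_T g hg hg1 _ hv).2 with hT | hT
      · exfalso
        have h2 : orderOf (x * S.v * x⁻¹) ∣ 2 := orderOf_dvd_of_pow_eq_one (by
          rw [pow_two, show x * S.v * x⁻¹ * (x * S.v * x⁻¹) = x * (S.v * S.v) * x⁻¹ by group,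
            S.v_sq, mul_one, mul_inv_cancel])
        have h3 : orderOf (x * S.v * x⁻¹) ∣ m := (Subgroup.orderOf_dvd_natCard _ hT).trans (dvd_of_eq S.card_T)
        have h4 := orderOf_eq_one_iff.mp
          (Nat.eq_one_of_dvd_coprimes (Nat.coprime_two_left.mpr S.odd_m) h2 h3)
        exact S.v_ne (by simpa using h4)
      · set y := x * S.v * x⁻¹ with hy
        have hyv : Commute y S.v := (S.cent_T g hg hg1 y hv).1
        have h2 : (y * S.v) * (y * S.v) = 1 := by
          rw [hyv.symm.mul_mul_mul_comm, S.v_sq, mul_one, hy,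
            show x * S.v * x⁻¹ * (x * S.v * x⁻¹) = x * (S.v * S.v) * x⁻¹ by group, S.v_sq,
            mul_one, mul_inv_cancel]
        have h3 : orderOf (y * S.v) ∣ m := (Subgroup.orderOf_dvd_natCard _ hT).trans (dvd_of_eq S.card_T)
        have h4 := orderOf_eq_one_iff.mp (Nat.eq_one_of_dvd_coprimes
          (Nat.coprime_two_left.mpr S.odd_m)
          (orderOf_dvd_of_pow_eq_one (by rw [pow_two]; exact h2)) h3)
        have h5 : y = S.v := by
          rw [← mul_right_inj (S.v)⁻¹]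
          have : y = S.v⁻¹ := eq_inv_of_mul_eq_one_left h4
          rw [this, inv_eq_of_mul_eq_one_right S.v_sq]
        rw [hvC]
        show x * S.v = S.v * x
        calc x * S.v = (x * S.v * x⁻¹) * x := by group
          _ = S.v * x := by rw [← hy, h5]
    · have h' : Commute x⁻¹ S.v := ((hvC x).mp h).inv_left
      rcases S.cent_v x⁻¹ h' with e | e
      · have := e g hg
        rw [inv_inv] at this
        rwa [this]
      · have := e g hg
        rw [inv_inv] at this
        rw [this]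
        exact inv_mem hg
  rw [indLin, indFun_eq_sum S.T C _ g hmem, S.card_T]
  -- split into commuting and inverting elements
  let P : C → Prop := fun k => (k : L)⁻¹ * g * k = g
  have hP : ∀ k : C, ¬ P k → (k : L)⁻¹ * g * k = g⁻¹ := by
    intro k hk
    rcases S.cent_v (k : L)⁻¹ ((hvC _).mp k.2).inv_left with e | e
    · exact absurd (by simpa using e g hg) hk
    · simpa using e g hg
  have hA : (Finset.univ.filter fun k : C => P k).card = 2 * m := by
    let f : S.T × Bool → C := fun p => ⟨(p.1 : L) * if p.2 then 1 else S.v, (hvC _).mpr (by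
      rcases p with ⟨t, b⟩
      cases b
      · exact (S.comm_v t t.2).mul_left (Commute.refl _)
      · simpa using S.comm_v t t.2)⟩
    have hf : Function.Injective f := by
      rintro ⟨a, b⟩ ⟨a', b'⟩ e
      have e' : (a : L) * (if b then 1 else S.v) = (a' : L) * (if b' then 1 else S.v) :=
        congrArg Subtype.val e
      have hvT : S.v ∉ S.T := fun hv => S.v_ne (orderOf_eq_one_iff.mp (Nat.eq_one_of_dvd_coprimes
        (Nat.coprime_two_left.mpr S.odd_m) (orderOf_dvd_of_pow_eq_one (by rw [pow_two, S.v_sq]))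
        ((Subgroup.orderOf_dvd_natCard _ hv).trans (dvd_of_eq S.card_T))))
      cases b <;> cases b' <;> simp at e'
      · rw [e']
      · exact absurd (by rw [eq_inv_mul_of_mul_eq e']; exact mul_mem (inv_mem a.2) a'.2) hvT
      · exact absurd (by rw [eq_inv_mul_of_mul_eq e'.symm]; exact mul_mem (inv_mem a'.2) a.2) hvT
      · rw [e']
    have himg : (Finset.univ.filter fun k : C => P k) = Finset.univ.image f := by
      ext k
      simp only [Finset.mem_filter, Finset.mem_univ, true_and, Finset.mem_image]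
      constructor
      · intro hk
        have hc : Commute (k : L) g := by
          have := congrArg (fun y => (k : L) * y) (show (k : L)⁻¹ * g * k = g from hk)
          simpa [mul_assoc, Commute, SemiconjBy] using this.symm
        rcases (S.cent_T g hg hg1 _ hc).2 with h | h
        · exact ⟨(⟨_, h⟩, true), Subtype.ext (by simp [f])⟩
        · exact ⟨(⟨_, h⟩, false), Subtype.ext (by simp [f, mul_assoc, S.v_sq])⟩
      · rintro ⟨⟨t, b⟩, rfl⟩
        have hcyc := S.cyclic_T
        have htg : Commute (t : L) g := congrArg Subtype.val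
          (IsCyclic.isMulCommutative.is_comm.comm t ⟨g, hg⟩)
        have hc : Commute ((t : L) * if b then 1 else S.v) g := by
          cases b
          · exact htg.mul_left (S.comm_v g hg).symm
          · simpa using htg
        show ((t : L) * if b then 1 else S.v)⁻¹ * g * ((t : L) * if b then 1 else S.v) = g
        rw [mul_assoc, ← hc.eq, inv_mul_cancel_left]
    rw [himg, Finset.card_image_of_injective _ hf, Finset.card_univ, Fintype.card_prod,
      Fintype.card_bool, ← Nat.card_eq_fintype_card, S.card_T, mul_comm]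
  have hB : (Finset.univ.filter fun k : C => ¬ P k).card = 2 * m := by
    have h := Finset.card_filter_add_card_filter_not (s := (Finset.univ : Finset C)) P
    rw [hA, Finset.card_univ, ← Nat.card_eq_fintype_card,
      show Nat.card C = q + 1 from S.card_cent _ S.v_sq S.v_ne] at h
    have := S.q_eq
    omega
  rw [← Finset.sum_filter_add_sum_filter_not Finset.univ P]
  rw [Finset.sum_congr rfl (fun (k : C) hk => show ((z ⟨_, (hmem k).mpr k.2⟩ : ℂˣ) : ℂ) = z ⟨g, hg⟩ by
      congr 2; exact Subtype.ext (Finset.mem_filter.mp hk).2),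
    Finset.sum_congr rfl (fun (k : C) hk => show ((z ⟨_, (hmem k).mpr k.2⟩ : ℂˣ) : ℂ) = z ⟨g, hg⟩⁻¹ by
      congr 2; exact Subtype.ext (hP k (Finset.mem_filter.mp hk).2)),
    Finset.sum_const, Finset.sum_const, hA, hB]
  have hm : (m : ℂ) ≠ 0 := Nat.cast_ne_zero.mpr (by have := S.odd_m.pos; omega)
  simp only [nsmul_eq_mul]
  push_cast
  field_simp

theorem index_T : (S.T.index : ℂ) = 2 * (q : ℂ) * ((q : ℂ) - 1) := by
  have h := S.T.card_mul_index
  rw [S.card_T, S.card_L, S.q_eq] at h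
  have h' : S.T.index = 4 * (q * ((q - 1) / 2)) :=
    Nat.eq_of_mul_eq_mul_left S.odd_m.pos (h.trans (by ring))
  rw [h', Nat.cast_mul, Nat.cast_mul, S.cast_e]
  push_cast
  ring

theorem indLin_T_one (z : S.T →* ℂˣ) : indLin S.T z 1 = 2 * (q : ℂ) * ((q : ℂ) - 1) := by
  rw [indLin, indFun_one, S.index_T]
  simp

theorem indLin_T_three (z : S.T →* ℂˣ) {c : L} (hc : c ^ 3 = 1) (hc1 : c ≠ 1) :
    indLin S.T z c = 0 := by
  refine indFun_eq_zero _ _ _ fun x hx => hc1 ?_
  have h := orderOf_dvd_of_conj_mem hx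
  rw [S.card_T] at h
  refine orderOf_eq_one_iff.mp (Nat.eq_one_of_dvd_coprimes ?_ h (orderOf_dvd_of_pow_eq_one hc))
  rw [Nat.coprime_comm, Nat.prime_three.coprime_iff_not_dvd]
  have := S.q_eq; have := S.three_q
  omega

theorem indLin_T_supp (z : S.T →* ℂˣ) {g : L} (h : indLin S.T z g ≠ 0) : Odd (orderOf g) := by
  by_contra hg
  refine h (indFun_eq_zero _ _ _ fun x hx => hg ?_)
  exact Odd.of_dvd_nat (by rw [S.card_T]; exact S.odd_m) (orderOf_dvd_of_conj_mem hx)

theorem indLin_T_real (z : S.T →* ℂˣ) (g : L) :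
    conj (indLin S.T z g) = indLin S.T z g := by
  rw [indLin, indFun, map_mul, map_inv₀, map_natCast, map_sum]
  congr 1
  refine Fintype.sum_equiv (Equiv.mulRight S.d⁻¹) _ _ fun x => ?_
  show conj (extendByZero S.T _ (x⁻¹ * g * x)) =
    extendByZero S.T _ ((x * S.d⁻¹)⁻¹ * g * (x * S.d⁻¹))
  rw [show (x * S.d⁻¹)⁻¹ * g * (x * S.d⁻¹) = S.d * (x⁻¹ * g * x) * S.d⁻¹ by group]
  by_cases hx : x⁻¹ * g * x ∈ S.T
  · have hi := S.d_inv _ hx
    rw [extendByZero_mem _ _ hx, extendByZero_mem _ _ (hi ▸ inv_mem hx),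
      ← value_inv_eq_conj (isCharacter_monoidHom z)]
    congr 2
    exact Subtype.ext hi.symm
  · rw [extendByZero_notMem _ _ hx, map_zero, extendByZero_notMem]
    intro h
    refine hx ?_
    have h2 := S.d_inv _ h
    -- `d` has order two modulo the centraliser of `T`
    have h3 : S.d * (x⁻¹ * g * x) * S.d⁻¹ = S.d * (S.d * (x⁻¹ * g * x) * S.d⁻¹)⁻¹ * S.d⁻¹ := by
      rw [← inv_inj, conj_inv (a := (S.d * (x⁻¹ * g * x) * S.d⁻¹)⁻¹) (b := S.d), inv_inv, h2]
    have h4 : x⁻¹ * g * x = (S.d * (x⁻¹ * g * x) * S.d⁻¹)⁻¹ :=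
      mul_left_cancel (mul_right_cancel h3)
    rw [h4]
    exact inv_mem h

theorem inner_indLin_T (z w : S.T →* ℂˣ) :
    classInner (indLin S.T z) (indLin S.T w) = 8 * ((q : ℂ) - 2) +
      2 * (open Classical in if w = z then 1 else 0) +
      2 * (open Classical in if w = z⁻¹ then 1 else 0) := by
  classical
  haveI : Fintype S.T := Fintype.ofFinite _
  have hq : (q : ℂ) + 1 = 4 * (m : ℂ) := by exact_mod_cast S.q_eq
  have hm : (m : ℂ) ≠ 0 := Nat.cast_ne_zero.mpr (by have := S.odd_m.pos; omega)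
  rw [show classInner (indLin S.T z) (indLin S.T w) =
      classInner (fun t : S.T => indLin S.T z t) (fun t : S.T => (w t : ℂ)) from
    frobenius_reciprocity' _ _ (isClassFunction_indFun _ _), classInner, S.card_T]
  have hsplit : ∀ t : S.T, indLin S.T z t * conj (w t : ℂ) =
      (2 * ((z t : ℂ) * conj (w t : ℂ)) + 2 * (((z⁻¹ : S.T →* ℂˣ) t : ℂ) * conj (w t : ℂ))) +
      (if t = 1 then 2 * (q : ℂ) * ((q : ℂ) - 1) - 4 else 0) := by
    intro t
    by_cases ht : t = 1
    · subst ht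
      rw [if_pos rfl, show ((1 : S.T) : L) = 1 from rfl, S.indLin_T_one]
      simp
      ring
    · rw [if_neg ht, S.indLin_T t.2 (fun e => ht (Subtype.ext e)), MonoidHom.inv_apply,
        show (⟨(t : L), t.2⟩ : S.T) = t from rfl, map_inv]
      ring
  rw [Finset.sum_congr rfl fun t _ => hsplit t, Finset.sum_add_distrib, Finset.sum_add_distrib,
    ← Finset.mul_sum, ← Finset.mul_sum, Finset.sum_ite_eq' Finset.univ (1 : S.T),
    if_pos (Finset.mem_univ _)]
  have horth : ∀ a b : S.T →* ℂˣ, ∑ t : S.T, (a t : ℂ) * conj (b t : ℂ) =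
      if b = a then (m : ℂ) else 0 := by
    intro a b
    have h := classInner_irr (isIrrCharacter_monoidHom a) (isIrrCharacter_monoidHom b)
    rw [classInner, S.card_T, inv_mul_eq_iff_eq_mul₀ hm] at h
    rw [h]
    by_cases e : b = a
    · subst e; simp
    · rw [if_neg e, if_neg, mul_zero]
      exact fun h' => e (MonoidHom.ext fun t => Units.ext (congrFun h' t).symm)
  rw [horth, horth]
  split_ifs <;> field_simp <;> linear_combination (2 * (q : ℂ) - 4) * hq

end Torus

end LShape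

end CfsgLib.ReeTypeSThree
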