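import Cfsg.Agent.Lib.ReeTypeSThree.ShapeData

/-!
The functions induced from the linear characters of the Borel subgroup, and `LData` of a group with
the subgroup structure of `PSL₂(q)`.
-/

set_option autoImplicit false
set_option linter.style.haveILetI false
set_option linter.unusedSectionVars false

namespace CfsgLib.ReeTypeSThree

open Cfsg CfsgLib.Char
open scoped ComplexConjugate

universe v

variable {L : Type v} [Group L] [Fintype L] {q m : ℕ} (S : LShape L q m)

namespace LShape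

include S

/-- The function induced from a linear character of the Borel subgroup. -/
noncomputable def Ifun (ν : S.B →* ℂˣ) : L → ℂ := indFun S.B fun b => (ν b : ℂ)

theorem normal_U : (S.U.subgroupOf S.B).Normal :=
  ⟨fun x hx g => by
    rw [Subgroup.mem_subgroupOf] at hx ⊢
    exact S.conj_U g g.2 x hx⟩

theorem Ifun_one (ν : S.B →* ℂˣ) : S.Ifun ν 1 = (q : ℂ) + 1 := by
  have h := S.B.card_mul_index
  rw [S.card_B, S.card_L] at h
  have hpos : 0 < q * ((q - 1) / 2) := by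
    have := S.le_q
    exact Nat.mul_pos (by omega) (by omega)
  rw [Ifun, indFun_one, Nat.eq_of_mul_eq_mul_left hpos h]
  simp

theorem Ifun_gen (ν : S.B →* ℂˣ) : IsGeneralizedCharacter L (S.Ifun ν) :=
  isGeneralized_indFun _ (isGeneralized_of_isCharacter (isCharacter_monoidHom ν))

theorem Ifun_supp (ν : S.B →* ℂˣ) {g : L} (h : S.Ifun ν g ≠ 0) : Odd (orderOf g) := by
  by_contra hg
  refine h (indFun_eq_zero _ _ _ fun x hx => hg ?_)
  exact Odd.of_dvd_nat S.odd_card_B (orderOf_dvd_of_conj_mem hx)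

theorem Ifun_T (ν : S.B →* ℂˣ) {g : L} (hg : g ∈ S.T) (hg1 : g ≠ 1) : S.Ifun ν g = 0 := by
  refine indFun_eq_zero _ _ _ fun x hx => hg1 ?_
  exact orderOf_eq_one_iff.mp (Nat.eq_one_of_dvd_coprimes S.coprime_T_B
    ((Subgroup.orderOf_dvd_natCard _ hg).trans (dvd_of_eq S.card_T)) (orderOf_dvd_of_conj_mem hx))

theorem Ifun_U (ν : S.B →* ℂˣ) (hν : ∀ x : S.B, (x : L) ∈ S.U → ν x = 1) {c : L} (hc : c ∈ S.U)
    (hc1 : c ≠ 1) : S.Ifun ν c = 1 := by
  classical
  haveI : Fintype S.B := Fintype.ofFinite _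
  rw [Ifun, indFun_eq_sum S.B S.B _ c (S.mem_B_iff' hc hc1),
    Finset.sum_congr rfl fun (k : S.B) _ => show ((ν ⟨(k : L)⁻¹ * c * k,
      (S.mem_B_iff' hc hc1 k).mpr k.2⟩ : ℂˣ) : ℂ) = 1 by
      rw [hν _ (S.conj_U' k.2 hc), Units.val_one],
    Finset.sum_const, Finset.card_univ, ← Nat.card_eq_fintype_card, nsmul_eq_mul, mul_one,
    inv_mul_cancel₀ (Nat.cast_ne_zero.mpr Nat.card_pos.ne')]

theorem inner_Rfun_Ifun (ω : S.U →* ℂˣ) (hω : ω ≠ 1) (ν : S.B →* ℂˣ)
    (hν : ∀ x : S.B, (x : L) ∈ S.U → ν x = 1) {c : L} (hc : c ∈ S.U) (hc1 : c ≠ 1) :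
    classInner (S.Rfun ω) (S.Ifun ν) = 2 := by
  have h : classInner (S.Ifun ν) (S.Rfun ω) = 2 := by
    rw [S.inner_Rfun ω hω (f := S.Ifun ν) (isClassFunction_indFun _ _) hc hc1, S.Ifun_one,
      S.Ifun_U ν hν hc hc1, S.Ifun_U ν hν (inv_mem hc) (inv_ne_one.mpr hc1)]
    rw [div_eq_iff (Nat.cast_ne_zero.mpr (by have := S.le_q; omega))]
    ring
  rw [← classInner_conj_symm, h, map_ofNat]

theorem inner_indLin_Ifun (z : S.T →* ℂˣ) (ν : S.B →* ℂˣ) :
    classInner (indLin S.T z) (S.Ifun ν) = 4 := by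
  classical
  haveI : Fintype S.T := Fintype.ofFinite _
  have hm : (m : ℂ) ≠ 0 := Nat.cast_ne_zero.mpr (by have := S.odd_m.pos; omega)
  have hq : (q : ℂ) + 1 = 4 * (m : ℂ) := by exact_mod_cast S.q_eq
  rw [show classInner (indLin S.T z) (S.Ifun ν) =
      classInner (fun t : S.T => (z t : ℂ)) (fun t : S.T => S.Ifun ν t) from
    frobenius_reciprocity _ _ (isClassFunction_indFun _ _), classInner, S.card_T,
    Finset.sum_eq_single (1 : S.T) (fun t _ ht => by
      rw [S.Ifun_T ν t.2 (fun e => ht (Subtype.ext e)), map_zero, mul_zero])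
      (fun h => absurd (Finset.mem_univ _) h)]
  simp only [map_one, Units.val_one, OneMemClass.coe_one, S.Ifun_one, map_add, map_natCast, one_mul]
  rw [hq]
  field_simp

theorem mem_U_of_conj {w x : L} (hw : w ∉ S.B) (hww : w * w = 1) (hx : x ∈ S.U)
    (h : w * x * w ∈ S.B) : x = 1 := by
  by_contra hne
  refine hw ((S.mem_B_iff' hx hne w).mp ?_)
  rwa [inv_eq_of_mul_eq_one_right hww]

theorem exists_outer : ∃ w : L, w * w = 1 ∧ w ≠ 1 ∧ w ∉ S.B := by
  refine ⟨S.v, S.v_sq, S.v_ne, fun hv => S.v_ne ?_⟩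
  exact orderOf_eq_one_iff.mp (Nat.eq_one_of_dvd_coprimes
    (Nat.coprime_two_left.mpr S.odd_card_B) (orderOf_dvd_of_pow_eq_one (by rw [pow_two, S.v_sq]))
    (Subgroup.orderOf_dvd_natCard _ hv))

/-- The Bruhat decomposition. -/
theorem bruhat {w : L} (hww : w * w = 1) (hw : w ∉ S.B) {x : L} (hx : x ∉ S.B) :
    ∃ u ∈ S.U, ∃ b ∈ S.B, x = u * w * b := by
  classical
  let f : S.U × S.B → L := fun p => (p.1 : L) * w * (p.2 : L)
  have hf : Function.Injective f := by
    rintro ⟨u, b⟩ ⟨u', b'⟩ e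
    have e' : (u : L) * w * b = u' * w * b' := e
    have h1 : w * ((u' : L)⁻¹ * u) * w = (b' : L) * (b : L)⁻¹ := by
      calc w * ((u' : L)⁻¹ * u) * w = w * (u' : L)⁻¹ * ((u : L) * w * b) * (b : L)⁻¹ := by group
        _ = (w * w) * (b' : L) * (b : L)⁻¹ := by rw [e']; group
        _ = _ := by rw [hww, one_mul]
    have h2 := S.mem_U_of_conj hw hww (mul_mem (inv_mem u'.2) u.2)
      (h1 ▸ mul_mem b'.2 (inv_mem b.2))
    obtain rfl : u = u' := Subtype.ext (inv_mul_eq_one.mp h2).symm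
    obtain rfl : b = b' := Subtype.ext (mul_left_cancel e')
    rfl
  let O : Finset L := Finset.univ.filter fun y => y ∉ S.B
  have hsub : Finset.univ.image f ⊆ O := by
    intro y hy
    obtain ⟨⟨u, b⟩, -, rfl⟩ := Finset.mem_image.mp hy
    refine Finset.mem_filter.mpr ⟨Finset.mem_univ _, fun h => hw ?_⟩
    have := mul_mem (mul_mem (inv_mem (S.le u.2)) h) (inv_mem b.2)
    simpa [f, mul_assoc] using this
  have hBc : (Finset.univ.filter fun y : L => y ∈ S.B).card = q * ((q - 1) / 2) := by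
    rw [← Fintype.card_subtype, ← Nat.card_eq_fintype_card]; exact S.card_B
  have hO : O.card = (Finset.univ.image f).card := by
    have h := Finset.card_filter_add_card_filter_not (s := (Finset.univ : Finset L)) (fun y => y ∈ S.B)
    rw [hBc, Finset.card_univ, ← Nat.card_eq_fintype_card, S.card_L] at h
    rw [Finset.card_image_of_injective _ hf, Finset.card_univ, Fintype.card_prod,
      ← Nat.card_eq_fintype_card, ← Nat.card_eq_fintype_card, S.card_U, S.card_B]
    have e : q * ((q - 1) / 2) * (q + 1) = q * (q * ((q - 1) / 2)) + q * ((q - 1) / 2) := by ring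
    rw [e] at h
    show (Finset.univ.filter fun y : L => y ∉ S.B).card = _
    omega
  have hxO : x ∈ O := Finset.mem_filter.mpr ⟨Finset.mem_univ _, hx⟩
  rw [← Finset.eq_of_subset_of_card_le hsub hO.le] at hxO
  obtain ⟨⟨u, b⟩, -, h⟩ := Finset.mem_image.mp hxO
  exact ⟨u, u.2, b, b.2, h.symm⟩

/-- The two point stabiliser is inverted by the involution. -/
theorem exists_split {w : L} (hww : w * w = 1) (hw1 : w ≠ 1) (hw : w ∉ S.B) :
    ∃ H : Subgroup L, Nat.card H = (q - 1) / 2 ∧ (∀ h, h ∈ H ↔ h ∈ S.B ∧ w * h * w ∈ S.B) ∧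
      (∀ h ∈ H, w * h * w = h⁻¹) ∧ ∀ b ∈ S.B, ∃ u ∈ S.U, ∃ h ∈ H, b = u * h := by
  classical
  have hwi : w⁻¹ = w := inv_eq_of_mul_eq_one_right hww
  let H : Subgroup L := S.B ⊓ S.B.map (MulAut.conj w).toMonoidHom
  have hH : ∀ h, h ∈ H ↔ h ∈ S.B ∧ w * h * w ∈ S.B := by
    intro h
    simp only [H, Subgroup.mem_inf, Subgroup.mem_map_equiv, MulAut.conj_symm_apply, hwi]
  have hdec : ∀ b ∈ S.B, ∃ u ∈ S.U, ∃ h ∈ H, b = u * h := by
    intro b hb
    have hbw : b * w ∉ S.B := fun h => hw (by simpa using mul_mem (inv_mem hb) h)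
    obtain ⟨u, hu, b', hb', e⟩ := S.bruhat hww hw hbw
    refine ⟨u, hu, u⁻¹ * b, (hH _).mpr ⟨mul_mem (inv_mem (S.le hu)) hb, ?_⟩, by group⟩
    rw [show w * (u⁻¹ * b) * w = w * u⁻¹ * (b * w) by group, e,
      show w * u⁻¹ * (u * w * b') = (w * w) * b' by group, hww, one_mul]
    exact hb'
  have hHU : ∀ h ∈ H, h ∈ S.U → h = 1 := fun h hh hu => S.mem_U_of_conj hw hww hu ((hH h).mp hh).2
  have hcomm : ∀ a ∈ H, ∀ b ∈ H, a * b = b * a := by
    intro a ha b hb
    have h1 := hHU _ (mul_mem (mul_mem (mul_mem ha hb) (inv_mem ha)) (inv_mem hb))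
      (S.comm_mod a ((hH a).mp ha).1 b ((hH b).mp hb).1)
    rwa [mul_inv_eq_one, mul_inv_eq_iff_eq_mul] at h1
  have hcard : Nat.card H = (q - 1) / 2 := by
    have e : Nat.card (S.U × H) = Nat.card S.B := by
      refine Nat.card_eq_of_bijective (fun p : S.U × H =>
        (⟨(p.1 : L) * p.2, mul_mem (S.le p.1.2) ((hH _).mp p.2.2).1⟩ : S.B)) ⟨?_, ?_⟩
      · rintro ⟨u, h⟩ ⟨u', h'⟩ e
        have e' : (u : L) * h = u' * h' := congrArg Subtype.val e
        have h1 : (u' : L)⁻¹ * u = h' * (h : L)⁻¹ := by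
          calc (u' : L)⁻¹ * u = (u' : L)⁻¹ * ((u : L) * h) * (h : L)⁻¹ := by group
            _ = _ := by rw [e']; group
        have h2 := hHU _ (h1 ▸ mul_mem h'.2 (inv_mem h.2)) (mul_mem (inv_mem u'.2) u.2)
        obtain rfl : u = u' := Subtype.ext (inv_mul_eq_one.mp h2).symm
        obtain rfl : h = h' := Subtype.ext (mul_left_cancel e')
        rfl
      · rintro ⟨b, hb⟩
        obtain ⟨u, hu, h, hh, rfl⟩ := hdec b hb
        exact ⟨(⟨u, hu⟩, ⟨h, hh⟩), rfl⟩
    rw [Nat.card_prod, S.card_U, S.card_B] at e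
    exact Nat.eq_of_mul_eq_mul_left (by have := S.le_q; omega) e
  refine ⟨H, hcard, hH, fun h hh => ?_, hdec⟩
  have hwh : w * h * w ∈ H := (hH _).mpr ⟨((hH h).mp hh).2, by
    rw [show w * (w * h * w) * w = (w * w) * h * (w * w) by group, hww, one_mul, mul_one]
    exact ((hH h).mp hh).1⟩
  set k := w * h * w * h with hk
  have hkH : k ∈ H := mul_mem hwh hh
  have hkw : Commute k w := by
    show k * w = w * k
    have : w * k * w = k := by
      rw [hk, show w * (w * h * w * h) * w = (w * w) * h * (w * h * w) by group, hww, one_mul,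
        hcomm h hh _ hwh]
    calc k * w = w * k * w * w := by rw [this]
      _ = w * k := by rw [mul_assoc (w * k), hww, mul_one]
  have h1 : orderOf k ∣ (q - 1) / 2 := hcard ▸ Subgroup.orderOf_dvd_natCard _ hkH
  have h2 : orderOf k ∣ q + 1 := S.card_cent w hww hw1 ▸ Subgroup.orderOf_dvd_natCard
    (Subgroup.centralizer ({w} : Set L)) (Subgroup.mem_centralizer_singleton_iff.mpr hkw.eq)
  have hcop : Nat.Coprime ((q - 1) / 2) (q + 1) := by
    have ha := Nat.gcd_dvd_left ((q - 1) / 2) (q + 1)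
    have hb := Nat.gcd_dvd_right ((q - 1) / 2) (q + 1)
    have hc : Nat.gcd ((q - 1) / 2) (q + 1) ∣ (q + 1) - 2 * ((q - 1) / 2) := Nat.dvd_sub hb (ha.mul_left 2)
    rw [← S.two_e, show q + 1 - (q - 1) = 2 by have := S.le_q; omega] at hc
    rcases (Nat.dvd_prime Nat.prime_two).mp hc with e | e
    · exact e
    · exfalso
      rw [e] at ha
      obtain ⟨j, hj⟩ := S.odd_e
      omega
  exact eq_inv_of_mul_eq_one_left (orderOf_eq_one_iff.mp (Nat.eq_one_of_dvd_coprimes hcop h1 h2))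

theorem inner_Ifun (ν : S.B →* ℂˣ) (hν : ∀ x : S.B, (x : L) ∈ S.U → ν x = 1) :
    classInner (S.Ifun ν) (S.Ifun ν) = open Classical in if ν = 1 then 2 else 1 := by
  classical
  haveI : Fintype S.B := Fintype.ofFinite _
  obtain ⟨w, hww, hw1, hw⟩ := S.exists_outer
  obtain ⟨H, hcardH, hH, hinv, hdec⟩ := S.exists_split hww hw1 hw
  haveI : Fintype H := Fintype.ofFinite _
  have hB0 : (Nat.card S.B : ℂ) ≠ 0 := Nat.cast_ne_zero.mpr Nat.card_pos.ne'
  -- the contribution of one double coset representative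
  let θ : S.B → ℂ := fun b => (ν b : ℂ)
  let T : L → ℂ := fun x => ∑ b : S.B, extendByZero S.B θ (x⁻¹ * b * x) * conj (θ b)
  have key : classInner (S.Ifun ν) (S.Ifun ν) =
      (Nat.card S.B : ℂ)⁻¹ * ((Nat.card S.B : ℂ)⁻¹ * ∑ x : L, T x) := by
    rw [show classInner (S.Ifun ν) (S.Ifun ν) =
      classInner (fun b : S.B => S.Ifun ν b) θ from
      frobenius_reciprocity' _ _ (isClassFunction_indFun _ _), classInner]
    congr 1
    simp only [Ifun, indFun, T, mul_assoc, Finset.sum_mul, ← Finset.mul_sum]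
    congr 1
    rw [Finset.sum_comm]
  have hext : ∀ (b : S.B) (y : L), extendByZero S.B θ (b * y * (b : L)⁻¹) = extendByZero S.B θ y := by
    intro b y
    by_cases hy : y ∈ S.B
    · rw [extendByZero_mem _ _ hy, extendByZero_mem _ _ (mul_mem (mul_mem b.2 hy) (inv_mem b.2))]
      show ((ν (b * ⟨y, hy⟩ * b⁻¹) : ℂˣ) : ℂ) = ((ν ⟨y, hy⟩ : ℂˣ) : ℂ)
      rw [map_mul, map_mul, map_inv]; simp
    · rw [extendByZero_notMem _ _ hy, extendByZero_notMem]
      intro h
      exact hy (by simpa [mul_assoc] using mul_mem (mul_mem (inv_mem b.2) h) b.2)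
  have hleft : ∀ (a : S.B) (x : L) (c : S.B), T ((a : L) * x * c) = T x := by
    intro a x c
    refine Fintype.sum_equiv (MulAut.conj a⁻¹).toEquiv _ _ fun b => ?_
    show _ = extendByZero S.B θ (x⁻¹ * ((a⁻¹ * b * a⁻¹⁻¹ : S.B) : L) * x) * conj (θ (a⁻¹ * b * a⁻¹⁻¹))
    have e1 : θ (a⁻¹ * b * a⁻¹⁻¹) = θ b := by simp [θ]
    rw [e1, ← hext c⁻¹ (x⁻¹ * ((a⁻¹ * b * a⁻¹⁻¹ : S.B) : L) * x)]
    congr 2
    simp [mul_assoc]
  have hone : T 1 = (Nat.card S.B : ℂ) := by
    simp only [T, inv_one, one_mul, mul_one, extendByZero_coe]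
    rw [Finset.sum_congr rfl fun b _ => show θ b * conj (θ b) = 1 by
      show ((ν b : ℂˣ) : ℂ) * conj ((ν b : ℂˣ) : ℂ) = 1
      rw [← value_inv_eq_conj (isCharacter_monoidHom ν), ← Units.val_mul, ← map_mul, mul_inv_cancel,
        map_one, Units.val_one]]
    simp [Nat.card_eq_fintype_card]
  have hw' : T w = if ν = 1 then ((((q - 1) / 2 : ℕ)) : ℂ) else 0 := by
    have hwi : w⁻¹ = w := inv_eq_of_mul_eq_one_right hww
    -- restrict to the two point stabiliser
    let ν' : H →* ℂˣ := ν.comp (Subgroup.inclusion fun h hh => ((hH h).mp hh).1)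
    have e : T w = ∑ h : H, ((ν' ^ 2) h⁻¹ : ℂ) := by
      show ∑ b : S.B, extendByZero S.B θ (w⁻¹ * b * w) * conj (θ b) = _
      rw [hwi]
      let ι : H ↪ S.B := ⟨fun h => ⟨(h : L), ((hH h).mp h.2).1⟩,
        fun a b e => Subtype.ext (congrArg (fun x : S.B => (x : L)) e)⟩
      refine (Finset.sum_subset (f := fun b : S.B => extendByZero S.B θ (w * b * w) * conj (θ b))
        (Finset.subset_univ (Finset.univ.map ι)) (fun b _ hb => ?_)).symm.trans ?_
      · show extendByZero S.B θ (w * b * w) * conj (θ b) = 0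
        rw [extendByZero_notMem, zero_mul]
        exact fun h => hb (Finset.mem_map.mpr ⟨⟨b, (hH b).mpr ⟨b.2, h⟩⟩, Finset.mem_univ _, rfl⟩)
      rw [Finset.sum_map]
      refine Finset.sum_congr rfl fun h _ => ?_
      simp only [ι, Function.Embedding.coeFn_mk]
      rw [extendByZero_mem _ _ ((hinv h h.2).symm ▸ inv_mem ((hH h).mp h.2).1)]
      show ((ν _ : ℂˣ) : ℂ) * conj ((ν _ : ℂˣ) : ℂ) = _
      rw [← value_inv_eq_conj (isCharacter_monoidHom ν), MonoidHom.pow_apply, pow_two, Units.val_mul]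
      have a1 : ∀ y : S.B, (y : L) = (h : L)⁻¹ → ((ν y : ℂˣ) : ℂ) = ((ν' h⁻¹ : ℂˣ) : ℂ) := fun y hy =>
        congrArg Units.val (congrArg ν (Subtype.ext (a1 := y) hy))
      exact congrArg₂ (· * ·) (a1 _ (hinv h h.2)) (a1 _ rfl)
    rw [e]
    by_cases hν1 : ν = 1
    · subst hν1
      rw [if_pos rfl]
      simp [ν', ← Nat.card_eq_fintype_card, hcardH]
    · rw [if_neg hν1]
      have hne : ν' ^ 2 ≠ 1 := fun h2 => hν1 <| MonoidHom.ext fun b => by
        obtain ⟨u, hu, h, hh, hb⟩ := hdec b b.2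
        have hh1 : ν' ⟨h, hh⟩ = 1 := by
          have ha : ν' ⟨h, hh⟩ ^ 2 = 1 := by
            rw [← MonoidHom.pow_apply, h2, MonoidHom.one_apply]
          have hb : ν' ⟨h, hh⟩ ^ ((q - 1) / 2) = 1 := by
            rw [← map_pow, ← hcardH, pow_card_eq_one', map_one]
          exact orderOf_eq_one_iff.mp (Nat.eq_one_of_dvd_coprimes
            (Nat.coprime_two_left.mpr S.odd_e) (orderOf_dvd_of_pow_eq_one ha)
            (orderOf_dvd_of_pow_eq_one hb))
        have e : b = ⟨u, S.le hu⟩ * ⟨h, ((hH h).mp hh).1⟩ := Subtype.ext hb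
        rw [e, map_mul, hν _ hu, one_mul]
        exact hh1
      obtain ⟨y, hy⟩ : ∃ y, (ν' ^ 2) y ≠ 1 := by
        by_contra hh
        push Not at hh
        exact hne (MonoidHom.ext hh)
      rw [Fintype.sum_equiv (Equiv.inv H) (fun h => ((ν' ^ 2) h⁻¹ : ℂ)) (fun h => ((ν' ^ 2) h : ℂ))
        fun h => rfl]
      have e2 : ((ν' ^ 2) y : ℂ) * ∑ h : H, ((ν' ^ 2) h : ℂ) = ∑ h : H, ((ν' ^ 2) h : ℂ) := by
        rw [Finset.mul_sum]
        exact Fintype.sum_equiv (Equiv.mulLeft y) _ _ fun h => by simp [mul_pow]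
      by_contra hne0
      exact hy (Units.ext (mul_right_cancel₀ hne0 (e2.trans (one_mul _).symm)))
  rw [key, ← Finset.sum_filter_add_sum_filter_not Finset.univ (fun x => x ∈ S.B),
    Finset.sum_congr rfl (fun x hx => show T x = Nat.card S.B by
      rw [← hone]
      have := hleft ⟨x, (Finset.mem_filter.mp hx).2⟩ 1 1
      simpa using this),
    Finset.sum_congr rfl (fun x hx => show T x = T w by
      obtain ⟨u, hu, b, hb, rfl⟩ := S.bruhat hww hw (Finset.mem_filter.mp hx).2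
      exact hleft ⟨u, S.le hu⟩ w ⟨b, hb⟩),
    Finset.sum_const, Finset.sum_const, hw']
  have hBc : (Finset.univ.filter fun y : L => y ∈ S.B).card = Nat.card S.B := by
    rw [← Fintype.card_subtype, ← Nat.card_eq_fintype_card]
  have hBc' : (Finset.univ.filter fun y : L => y ∉ S.B).card = q * Nat.card S.B := by
    have h := Finset.card_filter_add_card_filter_not (s := (Finset.univ : Finset L)) (fun y => y ∈ S.B)
    rw [hBc, Finset.card_univ, ← Nat.card_eq_fintype_card, S.card_L, ← S.card_B] at h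
    rw [mul_add, mul_one, mul_comm (Nat.card S.B)] at h
    omega
  rw [hBc, hBc']
  simp only [nsmul_eq_mul]
  have hBq : (Nat.card S.B : ℂ) = (q : ℂ) * (((q - 1) / 2 : ℕ) : ℂ) := by rw [S.card_B, Nat.cast_mul]
  have h27 := S.le_q
  have hq0 : (q : ℂ) ≠ 0 := Nat.cast_ne_zero.mpr (by omega)
  have he0 : (((q - 1) / 2 : ℕ) : ℂ) ≠ 0 := Nat.cast_ne_zero.mpr (by omega)
  split_ifs
  · push_cast
    rw [hBq]
    field_simp
    ring
  · push_cast
    field_simp
    ring

/-- The class functions of a group with the structure of `PSL₂(q)`. -/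
theorem nonempty_ldata : Nonempty (LData L q m) := by
  classical
  haveI : Fintype S.B := Fintype.ofFinite _
  haveI : Fintype S.U := Fintype.ofFinite _
  have h27 := S.le_q
  have hq0 : (q : ℂ) ≠ 0 := Nat.cast_ne_zero.mpr (by omega)
  haveI : Nontrivial S.U := Finite.one_lt_card_iff_nontrivial.mp (by rw [S.card_U]; omega)
  obtain ⟨u, hu1⟩ := exists_ne (1 : S.U)
  have hc1 : (u : L) ≠ 1 := fun e => hu1 (Subtype.ext e)
  have hinv1 : (u : L)⁻¹ ≠ 1 := inv_ne_one.mpr hc1
  obtain ⟨ω, hω⟩ : ∃ ω : S.U →* ℂˣ, ω ≠ 1 := by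
    let _ : CommGroup S.U := { (inferInstance : Group S.U) with
      mul_comm := fun a b => Subtype.ext (S.comm_U a a.2 b b.2).eq }
    haveI : NeZero (Monoid.exponent S.U) := ⟨Monoid.exponent_ne_zero_of_finite⟩
    obtain ⟨f, hf⟩ := CommGroup.exists_apply_ne_one_of_hasEnoughRootsOfUnity S.U ℂ hu1
    exact ⟨f, fun e => hf (by rw [e]; rfl)⟩
  -- the linear characters of the Borel subgroup trivial on `U`
  haveI := S.normal_U
  let Q := S.B ⧸ S.U.subgroupOf S.B
  let _ : CommGroup Q := { (inferInstance : Group Q) with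
    mul_comm := fun a b => by
      induction a using QuotientGroup.induction_on with
      | _ a =>
        induction b using QuotientGroup.induction_on with
        | _ b =>
          show ((a * b : S.B) : Q) = ((b * a : S.B) : Q)
          rw [QuotientGroup.eq, Subgroup.mem_subgroupOf]
          have h := S.comm_mod _ (inv_mem b.2) _ (inv_mem a.2)
          simpa [mul_assoc] using h }
  haveI : Fintype Q := Fintype.ofFinite Q
  have hQ : Nat.card Q = (q - 1) / 2 := by
    have h := Subgroup.card_eq_card_quotient_mul_card_subgroup (S.U.subgroupOf S.B)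
    rw [S.card_B, Nat.card_congr (Subgroup.subgroupOfEquivOfLe S.le).toEquiv, S.card_U,
      mul_comm] at h
    exact (Nat.eq_of_mul_eq_mul_right (by omega) h).symm
  haveI : Finite (Q →* ℂˣ) := Nat.finite_of_card_ne_zero (by rw [card_hom_units, hQ]; omega)
  haveI : Fintype (Q →* ℂˣ) := Fintype.ofFinite _
  have ecard : Nat.card (Q →* ℂˣ) = (q - 1) / 2 := by rw [card_hom_units, hQ]
  let e : Fin ((q - 1) / 2) ≃ (Q →* ℂˣ) := (Finite.equivFinOfCardEq ecard).symm
  let ν : Fin ((q - 1) / 2) → (S.B →* ℂˣ) := fun i => (e i).comp (QuotientGroup.mk' _)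
  have hν : ∀ i (x : S.B), (x : L) ∈ S.U → ν i x = 1 := fun i x hx => by
    show e i (x : Q) = 1
    rw [(QuotientGroup.eq_one_iff x).mpr (Subgroup.mem_subgroupOf.mpr hx), map_one]
  have hν1 : ∀ i, ν i = 1 ↔ i = e.symm 1 := by
    intro i
    rw [Equiv.eq_symm_apply]
    refine ⟨fun h => MonoidHom.ext fun x => ?_, fun h => ?_⟩
    · induction x using QuotientGroup.induction_on with
      | _ x => exact DFunLike.congr_fun h x
    · simp [ν, h]
  have hqm : q ≠ 0 := by omega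
  refine ⟨{
    T := S.T
    card_T := S.card_T
    cyclic_T := S.cyclic_T
    u := u
    orderOf_u := orderOf_eq_prime (S.cube _ u.2) hc1
    R := S.Rfun ω
    I := fun i => S.Ifun (ν i)
    i₀ := e.symm 1
    gen_R := S.Rfun_gen ω
    gen_I := fun i => S.Ifun_gen (ν i)
    supp_R := fun g => S.Rfun_supp ω
    supp_I := fun i g => S.Ifun_supp (ν i)
    supp_Y := fun z g => S.indLin_T_supp z
    real_R := S.Rfun_real ω
    real_Y := S.indLin_T_real
    R_one := S.Rfun_one ω
    R_u := S.Rfun_U ω hω u.2 hc1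
    R_u_inv := S.Rfun_U ω hω (inv_mem u.2) hinv1
    Y_one := S.indLin_T_one
    Y_u := fun z => S.indLin_T_three z (S.cube _ u.2) hc1
    Y_u_inv := fun z => S.indLin_T_three z (S.cube _ (inv_mem u.2)) hinv1
    inner_RR := ?_
    inner_RY := ?_
    inner_YY := fun z w => by convert S.inner_indLin_T z w
    inner_RI := fun i => S.inner_Rfun_Ifun ω hω (ν i) (hν i) u.2 hc1
    inner_YI := fun z i => S.inner_indLin_Ifun z (ν i)
    inner_II₀ := by rw [S.inner_Ifun _ (hν _), if_pos ((hν1 _).mpr rfl)]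
    inner_II := fun i hi => by rw [S.inner_Ifun _ (hν _), if_neg (fun h => hi ((hν1 i).mp h))]
    inner_one_I₀ := ?_
    inner_f_R := fun f hf => S.inner_Rfun ω hω hf u.2 hc1
    inner_f_I := ?_ }⟩
  · rw [S.inner_Rfun ω hω (f := S.Rfun ω) (isClassFunction_indFun _ _) u.2 hc1, S.Rfun_one, S.Rfun_U ω hω u.2 hc1,
      S.Rfun_U ω hω (inv_mem u.2) hinv1, div_eq_iff hq0]
    ring
  · intro z
    rw [← classInner_conj_symm, S.inner_Rfun ω hω (f := indLin S.T z) (isClassFunction_indFun _ _) u.2 hc1,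
      S.indLin_T_one,
      S.indLin_T_three z (S.cube _ u.2) hc1, S.indLin_T_three z (S.cube _ (inv_mem u.2)) hinv1]
    rw [add_zero, sub_zero, map_div₀, map_natCast, div_eq_iff hq0]
    simp only [map_mul, map_sub, map_natCast, map_one, map_ofNat]
    ring
  · rw [show classInner (fun _ : L => (1 : ℂ)) (S.Ifun (ν (e.symm 1))) =
        classInner (fun _ : S.B => (1 : ℂ)) (fun b => ((ν (e.symm 1) b : ℂˣ) : ℂ)) from
      frobenius_reciprocity' _ _ (fun _ _ => rfl), (hν1 _).mpr rfl]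
    simpa using classInner_irr_self (G := S.B) isIrrCharacter_one
  · intro f hf
    have hI : ∀ i, classInner f (S.Ifun (ν i)) =
        (Nat.card S.B : ℂ)⁻¹ * ∑ b : S.B, f b * conj ((ν i b : ℂˣ) : ℂ) := fun i =>
      frobenius_reciprocity' _ _ hf
    simp only [hI, ← Finset.mul_sum]
    rw [Finset.sum_comm]
    simp only [← Finset.mul_sum, ← map_sum]
    have hsum : ∀ b : S.B, ∑ i, ((ν i b : ℂˣ) : ℂ) =
        if (b : L) ∈ S.U then (((q - 1) / 2 : ℕ) : ℂ) else 0 := by
      intro b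
      rw [Fintype.sum_equiv e (fun i => ((ν i b : ℂˣ) : ℂ)) (fun χ => ((χ (b : Q) : ℂˣ) : ℂ))
        fun i => rfl]
      by_cases hb : (b : L) ∈ S.U
      · rw [if_pos hb, (QuotientGroup.eq_one_iff b).mpr (Subgroup.mem_subgroupOf.mpr hb)]
        simp [← Nat.card_eq_fintype_card, ecard]
      · rw [if_neg hb]
        haveI : NeZero (Monoid.exponent Q) := ⟨Monoid.exponent_ne_zero_of_finite⟩
        obtain ⟨g, hg⟩ := CommGroup.exists_apply_ne_one_of_hasEnoughRootsOfUnity Q ℂ
          (fun h : (b : Q) = 1 => hb (Subgroup.mem_subgroupOf.mp ((QuotientGroup.eq_one_iff b).mp h)))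
        have hmul : ((g (b : Q) : ℂˣ) : ℂ) * ∑ χ : Q →* ℂˣ, ((χ (b : Q) : ℂˣ) : ℂ) =
            ∑ χ : Q →* ℂˣ, ((χ (b : Q) : ℂˣ) : ℂ) := by
          rw [Finset.mul_sum]
          exact Fintype.sum_equiv (Equiv.mulLeft g) _ _ fun χ => by simp
        by_contra hne
        exact hg (Units.ext (mul_right_cancel₀ hne (hmul.trans (one_mul _).symm)))
    simp only [hsum, apply_ite conj, map_natCast, map_zero, mul_ite, mul_zero]
    rw [← Finset.sum_filter, ← Finset.sum_mul]
    have e2 : ∑ b ∈ Finset.univ.filter (fun b : S.B => (b : L) ∈ S.U), f b = ∑ x : S.U, f x :=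
      Finset.sum_bij' (fun b hb => (⟨b, (Finset.mem_filter.mp hb).2⟩ : S.U))
        (fun x _ => (⟨x, S.le x.2⟩ : S.B)) (fun _ _ => Finset.mem_univ _)
        (fun x _ => Finset.mem_filter.mpr ⟨Finset.mem_univ _, x.2⟩) (fun _ _ => rfl) (fun _ _ => rfl)
        (fun _ _ => rfl)
    have e3 := S.sum_conj_class u.2 hc1 hf
    rw [e2, S.card_B, Nat.cast_mul, ← S.cast_e]
    have he0 : (((q - 1) / 2 : ℕ) : ℂ) ≠ 0 := Nat.cast_ne_zero.mpr (by omega)
    field_simp
    linear_combination e3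

end LShape

end CfsgLib.ReeTypeSThree
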